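set_option autoImplicit false

namespace Cfsg.Agent.Lib.Helper14.HNx.C6Data

def cE0 : Nat := 0x2e429a81589
def cE1 : Nat := 0x29e562f081a
def cE2 : Nat := 0x0
def cJ0 : Nat := 0x500000300000000000000020000000000000001000000000000000200000000000000010000000000000001
def cJ1 : Nat := 0x200000000000000580000000000000002000000000000000100000000000000020000000000000001
def cJ2 : Nat := 0x0
def cP0 : Nat := 0x100680a400a021000800

end Cfsg.Agent.Lib.Helper14.HNx.C6Data
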