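import Cfsg.Agent.Lib.Helper28.TC2Upper
import Cfsg.Agent.Lib.Helper14.HNx.C6DataC0
set_option autoImplicit false
set_option maxRecDepth 100000

namespace Cfsg.Agent.Lib.Helper14.HNx.C6Data
open Cfsg.Agent.Lib.Helper28.TC2Upper

/-- relators -/
def relT : BT (ℕ × List ℕ × List ℕ) := (BT.leaf (6, [0, 0, 0, 0, 0, 0], [1, 1, 1, 1, 1, 1]))
/-- subgroup generators -/
def subT : BT (ℕ × List ℕ × List ℕ) := (BT.leaf (0, [], []))
/-- fact chunks -/
def colET : BT ℕ := (BT.node 1 (BT.node 0 (BT.leaf cE0) (BT.leaf cE1)) (BT.leaf cE2))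
/-- justification chunks -/
def colJT : BT ℕ := (BT.node 1 (BT.node 0 (BT.leaf cJ0) (BT.leaf cJ1)) (BT.leaf cJ2))
/-- parent chunks -/
def parCT : BT ℕ := (BT.leaf cP0)
/-- the certificate -/
def data : Data where
  k := 2
  N := 6
  W := 7
  MW := 128
  B := 8
  CH := 512
  NCH := 1
  colE := colET
  JW := 64
  MJ := 18446744073709551616
  A := 1048576
  colJ := colJT
  PW := 13
  MP := 8192
  parC := parCT
  inv := (BT.node 1 (BT.node 0 (BT.leaf 1) (BT.leaf 0)) (BT.leaf 2))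
  rel := relT
  sub := subT
  fuel := 4

end Cfsg.Agent.Lib.Helper14.HNx.C6Data
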