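import Mathlib

set_option autoImplicit false
set_option linter.unusedVariables false

/-!
# The "clean lemma" for the presentation of `2.HS.2`

In a group generated by `a, b, w` subject to the relations of `2.HS.2`, if `a` and `b` commute then
both are trivial.
-/

namespace Cfsg.Agent.Lib.Helper14.HNx.Clean

theorem clean {Q : Type*} [Group Q] (a b w : Q) (hab : a * b = b * a)
    (r1 : b ^ 6 = 1)
    (r4 : (a⁻¹ * b ^ 2 * a * b ^ 3) ^ 3 = 1)
    (r5 : (a * b) ^ 8 = 1)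
    (r6 : (a * b * a * b ^ 3) ^ 4 = 1)
    (r7 : w ^ 2 = 1)
    (r8 : (w * a) ^ 2 = 1)
    (r10 : w * ((b ^ 3 * a * b * a * b)⁻¹ * w * (b ^ 3 * a * b * a * b) * a) ^ 3 = 1) :
    a = 1 ∧ b = 1 := by
  have hc : Commute a b := hab
  -- `b ^ 3 = 1`
  have e1 : a⁻¹ * b ^ 2 * a * b ^ 3 = b ^ 5 := by
    calc a⁻¹ * b ^ 2 * a * b ^ 3 = a⁻¹ * (b ^ 2 * a) * b ^ 3 := by group
      _ = a⁻¹ * (a * b ^ 2) * b ^ 3 := by rw [(hc.pow_right 2).eq]
      _ = b ^ 5 := by group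
  rw [e1, ← pow_mul] at r4
  have hb3 : b ^ 3 = 1 := by
    have : b ^ 15 = b ^ 6 * b ^ 6 * b ^ 3 := by group
    rw [this, r1, one_mul, one_mul] at r4
    exact r4
  -- `b ^ 8 = 1`
  have e5 : a ^ 8 * b ^ 8 = 1 := by rw [← hc.mul_pow]; exact r5
  have e6 : a * b * a * b ^ 3 = a ^ 2 * b ^ 4 := by
    calc a * b * a * b ^ 3 = a * (b * a) * b ^ 3 := by group
      _ = a * (a * b) * b ^ 3 := by rw [hab]
      _ = a ^ 2 * b ^ 4 := by
        simp only [pow_succ, pow_zero, one_mul, mul_assoc]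
  rw [e6, (hc.pow_pow 2 4).mul_pow, ← pow_mul, ← pow_mul] at r6
  have hb8 : b ^ 8 = 1 := by
    have : a ^ (2 * 4) * b ^ (4 * 4) = (a ^ 8 * b ^ 8) * b ^ 8 := by group
    rw [this, e5, one_mul] at r6
    exact r6
  have hb : b = 1 := by
    have h9 : b ^ 9 = 1 := by
      have : b ^ 9 = (b ^ 3) ^ 3 := by group
      rw [this, hb3, one_pow]
    have : b ^ 9 = b ^ 8 * b := by group
    rw [this, hb8, one_mul] at h9
    exact h9
  subst hb
  have ha8 : a ^ 8 = 1 := by simpa using e5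
  -- `w` inverts `a`
  have hww : w * w = 1 := by rw [← pow_two]; exact r7
  have hwi : w⁻¹ = w := inv_eq_of_mul_eq_one_right hww
  have hwa : SemiconjBy w a a⁻¹ := by
    have h1 : w * a * (w * a) = 1 := by rw [← pow_two]; exact r8
    have h2 : w * a * w = a⁻¹ := by
      have : w * a * w * a = 1 := by rw [← h1]; group
      exact mul_eq_one_iff_eq_inv.mp this
    show w * a = a⁻¹ * w
    calc w * a = w * a * w * w⁻¹ := by group
      _ = a⁻¹ * w := by rw [h2, hwi]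
  have hwa' : SemiconjBy w a⁻¹ a := by
    have := hwa.inv_right
    rwa [inv_inv] at this
  -- the last relator
  have hu : (1 ^ 3 * a * 1 * a * 1)⁻¹ * w * (1 ^ 3 * a * 1 * a * 1) * a = (a⁻¹) ^ 5 * w := by
    have h3 : w * a ^ 3 = (a⁻¹) ^ 3 * w := (hwa.pow_right 3).eq
    calc (1 ^ 3 * a * 1 * a * 1)⁻¹ * w * (1 ^ 3 * a * 1 * a * 1) * a
        = (a⁻¹) ^ 2 * (w * a ^ 3) := by
          simp only [pow_succ, pow_zero, one_mul, mul_one, mul_assoc, mul_inv_rev]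
      _ = (a⁻¹) ^ 2 * ((a⁻¹) ^ 3 * w) := by rw [h3]
      _ = (a⁻¹) ^ 5 * w := by group
  rw [hu] at r10
  have h5 : w * (a⁻¹) ^ 5 = a ^ 5 * w := (hwa'.pow_right 5).eq
  have hcube : ((a⁻¹) ^ 5 * w) ^ 3 = (a⁻¹) ^ 5 * w := by
    calc ((a⁻¹) ^ 5 * w) ^ 3 = (a⁻¹) ^ 5 * (w * (a⁻¹) ^ 5) * w * ((a⁻¹) ^ 5 * w) := by
          simp only [pow_succ, pow_zero, one_mul, mul_one, mul_assoc]
      _ = (a⁻¹) ^ 5 * (a ^ 5 * w) * w * ((a⁻¹) ^ 5 * w) := by rw [h5]
      _ = (w * w) * ((a⁻¹) ^ 5 * w) := by group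
      _ = (a⁻¹) ^ 5 * w := by rw [hww, one_mul]
  rw [hcube] at r10
  have ha5 : a ^ 5 = 1 := by
    have : w * ((a⁻¹) ^ 5 * w) = (w * (a⁻¹) ^ 5) * w := by group
    rw [this, h5, mul_assoc, hww, mul_one] at r10
    exact r10
  have ha : a = 1 := by
    have h16 : a ^ 16 = 1 := by
      have : a ^ 16 = (a ^ 8) ^ 2 := by group
      rw [this, ha8, one_pow]
    have h15 : a ^ 15 = 1 := by
      have : a ^ 15 = (a ^ 5) ^ 3 := by group
      rw [this, ha5, one_pow]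
    have : a ^ 16 = a ^ 15 * a := by group
    rw [this, h15, one_mul] at h16
    exact h16
  exact ⟨ha, rfl⟩

end Cfsg.Agent.Lib.Helper14.HNx.Clean
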