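set_option autoImplicit false

/-! data for the action of the automorphism group of the Higman-Sims group on 100 points (generated) -/

namespace Cfsg.Agent.Lib.Helper14.HNx.G100Data

/-- rows of the adjacency matrix of the Higman-Sims graph, as bit masks -/
def adjRows : List Nat := [327528462621869963573579090176, 646909202194375835431742750720, 33658916237714477000280883776, 44263618371319556977326294048, 93475065247902522334100389888, 109182416457100563677127447304, 119785735110896098428401757188, 83033860996036164011304158720, 677462988762087978773557313569, 951666873166890141969299931300, 960798054746152418818795241672, 657501517420790725517923860545, 635687055676478355034715340832, 645044156080370067292146008128, 436075282793006852908989290502, 396766441164724936389808890116,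 990357018986586425940609859636, 121475926449009468964239323649, 970623571037138620586769121368, 101823288390434302547195933697, 416112427971900054427586797834, 406122158088807103421472577544, 89138955941774202666561571584, 79926964471639286880277695744, 693713086716823816074380214417, 663536390633014730724254859400, 139887225070004312083831719427, 21402904466717621815926293506, 41035874834267957273461293570, 674060282875747171765509947524, 1954004314225482410755310592, 636303640624456578305531871328, 11185663475385229163267637760, 376799438601645651453024415890, 317166545877570983862013530448, 346664925581583290733212733888, 80930358707455468159057068035, 44649278603546454085542087184, 317268075743078460520912660528, 24841161070836693251322430736, 357167766653481357718216255648,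 7506868568607106491940409408, 316981332155187884017057804300, 7432941171082721800325718048, 44566037111746487768666900642, 634057678620027325215870074904, 66936265359882727540138218496, 634140924274319726731599151124, 169289510508667569425299474560, 318169934696685412731018412130, 24760045244586046370284241346, 169133720936664467005493756288, 318189292289845677162473455714, 66865083823668202615775175168, 168408202395486039735521544712, 10254512638678577760697686144, 5058467077624906358479620104, 24798402902098252202571292809, 44586110558333854858540748933, 159104309415600780864726893828, 796192469385622602610205056, 5005590855402455488625639684, 158804495813387343617084888085, 19853057839800024353478829840, 79228432353480125183565239558, 171309776795937555671400353792, 358645375464085055629318160384,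 79229484895344548462427449866, 170836936785847301260920754752, 162026294798502437894626549760, 713053793305876097451331420173, 713054105764931786713824493581, 158630410367347517364862214681, 39713328284481436698151001616, 161551365204696488015000790048, 348224161879086961455320399872, 165883974885407121912478302305, 1299009737984467047522828865, 158612315419322962643987727186, 158765963592947813727684693042, 1298689594749241175878976545, 163419126088919469283781246990, 158630448137023417490683826379, 633827756448643525485339361521, 745555598647422459129425297408, 755995905577913163801883049984, 158804505183169796475168497831, 4995589142600517661356067876, 5049117096389797591697081160, 24797505967215908396529128027, 163409483079941168620644612508, 316970773866074802218206890398,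 1042193263985702953013255077888, 44585222338417356756110812215, 159094675649594753634289846308, 168398540487856654336766722376, 163466117332807257371493187824, 1090710806209399795592296660992, 165884003116964868470632465921, 163475788573343653597297327874]

/-- level 0: base point 0, orbit of size 100 -/
def mask0 : Nat := 1267650600228229401496703205375
/-- paths for level 0 -/
def paths0 : List (List Nat) := [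
  [],
  [0],
  [2],
  [3],
  [0, 2],
  [2, 0],
  [3, 0],
  [0, 2, 0],
  [2, 0, 2],
  [2, 0, 3],
  [3, 0, 2],
  [3, 0, 3],
  [0, 2, 0, 2],
  [0, 2, 0, 3],
  [2, 0, 2, 0],
  [2, 0, 2, 2],
  [2, 0, 3, 0],
  [2, 0, 3, 3],
  [3, 0, 2, 0],
  [3, 0, 2, 2],
  [3, 0, 3, 0],
  [3, 0, 3, 3],
  [0, 2, 0, 2, 2],
  [0, 2, 0, 3, 3],
  [2, 0, 2, 0, 3],
  [2, 0, 2, 2, 2],
  [2, 0, 3, 0, 3],
  [2, 0, 3, 3, 0],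
  [2, 0, 3, 3, 4],
  [3, 0, 2, 2, 2],
  [0, 2, 0, 2, 2, 0],
  [0, 2, 0, 2, 2, 2],
  [0, 2, 0, 2, 2, 4],
  [2, 0, 2, 0, 3, 0],
  [2, 0, 2, 2, 2, 0],
  [2, 0, 2, 2, 2, 4],
  [2, 0, 3, 0, 3, 0],
  [2, 0, 3, 3, 0, 2],
  [2, 0, 3, 3, 4, 2],
  [2, 0, 3, 3, 4, 3],
  [3, 0, 2, 2, 2, 4],
  [0, 2, 0, 2, 2, 0, 3],
  [0, 2, 0, 2, 2, 2, 0],
  [0, 2, 0, 2, 2, 4, 2],
  [2, 0, 2, 2, 2, 0, 3],
  [2, 0, 2, 2, 2, 0, 4],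
  [2, 0, 2, 2, 2, 4, 2],
  [2, 0, 3, 0, 3, 0, 2],
  [2, 0, 3, 3, 0, 2, 0],
  [2, 0, 3, 3, 0, 2, 2],
  [2, 0, 3, 3, 4, 2, 2],
  [2, 0, 3, 3, 4, 3, 0],
  [2, 0, 3, 3, 4, 3, 3],
  [3, 0, 2, 2, 2, 4, 3],
  [0, 2, 0, 2, 2, 0, 3, 0],
  [0, 2, 0, 2, 2, 0, 3, 3],
  [0, 2, 0, 2, 2, 0, 3, 4],
  [0, 2, 0, 2, 2, 2, 0, 2],
  [0, 2, 0, 2, 2, 2, 0, 3],
  [0, 2, 0, 2, 2, 4, 2, 0],
  [0, 2, 0, 2, 2, 4, 2, 2],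
  [0, 2, 0, 2, 2, 4, 2, 4],
  [2, 0, 2, 2, 2, 0, 3, 0],
  [2, 0, 2, 2, 2, 0, 3, 3],
  [2, 0, 2, 2, 2, 0, 4, 3],
  [2, 0, 2, 2, 2, 4, 2, 0],
  [2, 0, 2, 2, 2, 4, 2, 2],
  [2, 0, 3, 0, 3, 0, 2, 2],
  [2, 0, 3, 3, 0, 2, 0, 2],
  [2, 0, 3, 3, 0, 2, 0, 3],
  [2, 0, 3, 3, 0, 2, 2, 0],
  [2, 0, 3, 3, 0, 2, 2, 4],
  [2, 0, 3, 3, 4, 2, 2, 0],
  [2, 0, 3, 3, 4, 2, 2, 2],
  [2, 0, 3, 3, 4, 3, 0, 3],
  [3, 0, 2, 2, 2, 4, 3, 3],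
  [0, 2, 0, 2, 2, 0, 3, 0, 2],
  [0, 2, 0, 2, 2, 0, 3, 4, 2],
  [0, 2, 0, 2, 2, 2, 0, 2, 0],
  [0, 2, 0, 2, 2, 2, 0, 3, 0],
  [0, 2, 0, 2, 2, 4, 2, 4, 3],
  [2, 0, 2, 2, 2, 0, 3, 0, 2],
  [2, 0, 2, 2, 2, 0, 3, 0, 3],
  [2, 0, 2, 2, 2, 0, 4, 3, 3],
  [2, 0, 2, 2, 2, 4, 2, 2, 0],
  [2, 0, 2, 2, 2, 4, 2, 2, 4],
  [2, 0, 3, 3, 4, 2, 2, 0, 2],
  [0, 2, 0, 2, 2, 0, 3, 4, 2, 2],
  [0, 2, 0, 2, 2, 4, 2, 4, 3, 3],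
  [2, 0, 2, 2, 2, 0, 3, 0, 3, 0],
  [2, 0, 2, 2, 2, 0, 3, 0, 3, 3],
  [2, 0, 2, 2, 2, 0, 4, 3, 3, 0],
  [2, 0, 2, 2, 2, 4, 2, 2, 0, 3],
  [2, 0, 3, 3, 4, 2, 2, 0, 2, 0],
  [0, 2, 0, 2, 2, 0, 3, 4, 2, 2, 0],
  [0, 2, 0, 2, 2, 4, 2, 4, 3, 3, 0],
  [2, 0, 2, 2, 2, 0, 3, 0, 3, 3, 0],
  [2, 0, 2, 2, 2, 4, 2, 2, 0, 3, 0],
  [0, 2, 0, 2, 2, 0, 3, 4, 2, 2, 0, 3],
  [2, 0, 2, 2, 2, 0, 3, 0, 3, 3, 0, 2] ]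

/-- level 1: base point 8, orbit of size 22 -/
def mask1 : Nat := 327528462621869963573579090176
/-- paths for level 1 -/
def paths1 : List (List Nat) := [
  [],
  [],
  [],
  [],
  [],
  [],
  [],
  [],
  [],
  [],
  [],
  [0, 3, 3, 1],
  [],
  [],
  [],
  [],
  [],
  [2, 2, 2],
  [],
  [0, 3, 3, 1, 2, 2, 2],
  [],
  [],
  [],
  [],
  [2, 2, 2, 2, 4, 1, 3, 2, 2, 2],
  [],
  [2, 2, 2, 2, 4, 1, 3],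
  [],
  [],
  [],
  [],
  [],
  [],
  [],
  [],
  [],
  [0, 2, 2, 1],
  [],
  [],
  [],
  [],
  [],
  [],
  [],
  [],
  [],
  [],
  [],
  [],
  [],
  [],
  [],
  [],
  [],
  [],
  [],
  [],
  [0, 2, 2, 1, 2, 2, 2, 0, 3, 3, 1, 2, 4, 1, 3],
  [2, 2, 2, 0, 3, 3, 1, 2, 2, 2, 3, 4, 1, 2],
  [],
  [],
  [],
  [2, 2, 2, 0, 3, 3, 1],
  [],
  [],
  [],
  [],
  [],
  [],
  [],
  [2, 2, 2, 0, 2, 2, 1],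
  [2, 2, 2, 0, 2, 2, 1, 2, 2, 2],
  [0, 3, 3, 1, 2, 2, 2, 0, 2, 2, 1],
  [],
  [],
  [],
  [2, 2, 2, 0, 3, 3, 1, 3, 4, 1, 2, 0, 3, 3, 1],
  [2, 2, 2, 2, 4, 1, 3, 0, 2, 2, 1],
  [],
  [],
  [2, 2, 2, 2, 4, 1, 3, 0, 3, 3, 1],
  [],
  [0, 2, 2, 1, 2, 2, 2, 0, 3, 3, 1],
  [0, 2, 2, 1, 2, 2, 2],
  [],
  [],
  [2, 2, 2, 0, 3, 3, 1, 2, 2, 2],
  [],
  [],
  [2, 2, 2, 0, 3, 3, 1, 3, 4, 1, 2, 0, 2, 2, 1],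
  [],
  [],
  [],
  [2, 2, 2, 0, 3, 3, 1, 3, 4, 1, 2],
  [],
  [],
  [],
  [],
  [2, 2, 2, 2, 4, 1, 3, 0, 3, 3, 1, 3, 4, 1, 2],
  [] ]

/-- level 2: base point 11, orbit of size 21 -/
def mask2 : Nat := 327528462621869963573579089920
/-- paths for level 2 -/
def paths2 : List (List Nat) := [
  [],
  [],
  [],
  [],
  [],
  [],
  [],
  [],
  [],
  [],
  [],
  [],
  [],
  [],
  [],
  [],
  [],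
  [0, 3, 3, 4, 1, 2, 2, 1, 0, 3, 4, 2, 2, 5, 2, 1, 0, 3, 3, 4, 1, 2, 2, 1, 0, 3, 4, 2, 2, 5, 2, 1, 0, 3, 3, 4, 1, 2, 2, 1],
  [],
  [0, 3, 3, 4, 1, 2, 2, 1, 0, 3, 4, 3, 3, 5, 2, 1],
  [],
  [],
  [],
  [],
  [0, 2, 4, 3, 1],
  [],
  [0, 3, 3, 4, 1, 2, 2, 1, 0, 3, 4, 3, 3, 5, 2, 1, 0, 2, 4, 3, 1],
  [],
  [],
  [],
  [],
  [],
  [],
  [],
  [],
  [],
  [0, 3, 4, 3, 3, 5, 2, 1],
  [],
  [],
  [],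
  [],
  [],
  [],
  [],
  [],
  [],
  [],
  [],
  [],
  [],
  [],
  [],
  [],
  [],
  [],
  [],
  [],
  [0, 3, 3, 4, 1, 2, 2, 1, 0, 3, 4, 2, 2, 5, 2, 1, 0, 3, 3, 4, 1, 2, 2, 1],
  [0, 3, 3, 4, 1, 2, 2, 1, 0, 3, 4, 2, 2, 5, 2, 1, 0, 3, 3, 4, 1, 2, 2, 1, 0, 3, 4, 2, 2, 5, 2, 1],
  [],
  [],
  [],
  [0, 3, 3, 4, 1, 2, 2, 1, 0, 3, 4, 3, 3, 5, 2, 1, 0, 3, 3, 4, 1, 2, 2, 1],
  [],
  [],
  [],
  [],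
  [],
  [],
  [],
  [0, 3, 3, 4, 1, 2, 2, 1, 0, 3, 4, 3, 3, 5, 2, 1, 0, 2, 4, 3, 1, 0, 3, 4, 2, 2, 5, 2, 1],
  [0, 3, 3, 4, 1, 2, 2, 1, 0, 3, 4, 2, 2, 5, 2, 1],
  [0, 3, 3, 4, 1, 2, 2, 1, 0, 3, 4, 3, 3, 5, 2, 1, 0, 2, 4, 3, 1, 0, 3, 4, 2, 2, 5, 2, 1, 0, 3, 3, 4, 1, 2, 2, 1],
  [],
  [],
  [],
  [0, 3, 3, 4, 1, 2, 2, 1, 0, 2, 4, 3, 1, 0, 3, 4, 3, 3, 5, 2, 1, 0, 3, 3, 4, 1, 2, 2, 1],
  [0, 3, 3, 4, 1, 2, 2, 1],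
  [],
  [],
  [0, 3, 3, 4, 1, 2, 2, 1, 0, 2, 4, 3, 1, 0, 3, 4, 2, 2, 5, 2, 1],
  [],
  [0, 3, 3, 4, 1, 2, 2, 1, 0, 3, 4, 2, 2, 5, 2, 1, 0, 3, 3, 4, 1, 2, 2, 1, 0, 2, 4, 3, 1, 0, 3, 3, 4, 1, 2, 2, 1],
  [0, 3, 3, 4, 1, 2, 2, 1, 0, 2, 4, 3, 1, 0, 3, 4, 3, 3, 5, 2, 1],
  [],
  [],
  [0, 3, 3, 4, 1, 2, 2, 1, 0, 2, 4, 3, 1],
  [],
  [],
  [0, 3, 3, 4, 1, 2, 2, 1, 0, 3, 4, 2, 2, 5, 2, 1, 0, 3, 3, 4, 1, 2, 2, 1, 0, 2, 4, 3, 1],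
  [],
  [],
  [],
  [0, 3, 3, 4, 1, 2, 2, 1, 0, 3, 4, 2, 2, 5, 2, 1, 0, 3, 3, 4, 1, 2, 2, 1, 0, 3, 4, 3, 3, 5, 2, 1, 0, 2, 4, 3, 1],
  [],
  [],
  [],
  [],
  [0, 3, 3, 4, 1, 2, 2, 1, 0, 3, 4, 2, 2, 5, 2, 1, 0, 3, 3, 4, 1, 2, 2, 1, 0, 3, 4, 3, 3, 5, 2, 1],
  [] ]

/-- level 3: base point 17, orbit of size 20 -/
def mask3 : Nat := 327528462621869963573579087872
/-- paths for level 3 -/
def paths3 : List (List Nat) := [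
  [],
  [],
  [],
  [],
  [],
  [],
  [],
  [],
  [],
  [],
  [],
  [],
  [],
  [],
  [],
  [],
  [],
  [],
  [],
  [4, 1],
  [],
  [],
  [],
  [],
  [4, 1, 2, 4, 1, 3, 0, 2, 2, 2, 4, 3, 3, 3, 1],
  [],
  [2, 4, 1, 3],
  [],
  [],
  [],
  [],
  [],
  [],
  [],
  [],
  [],
  [4, 1, 2, 4, 1, 3],
  [],
  [],
  [],
  [],
  [],
  [],
  [],
  [],
  [],
  [],
  [],
  [],
  [],
  [],
  [],
  [],
  [],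
  [],
  [],
  [],
  [4, 1, 2, 4, 1, 3, 0, 2, 2, 2, 4, 3, 3, 3, 1, 2, 0, 2, 2, 4, 1, 3, 3, 1, 3, 0, 2, 2, 2, 4, 3, 3, 3, 1],
  [2, 4, 1, 3, 0, 2, 2, 2, 4, 3, 3, 3, 1, 2, 0, 2, 2, 4, 1, 3, 3, 1, 3, 4, 1],
  [],
  [],
  [],
  [2, 4, 1, 3, 0, 2, 2, 2, 4, 3, 3, 3, 1, 2, 0, 2, 2, 4, 1, 3, 3, 1, 3],
  [],
  [],
  [],
  [],
  [],
  [],
  [],
  [4, 1, 2, 4, 1, 3, 2, 0, 2, 2, 4, 1, 3, 3, 1, 3, 0, 2, 2, 2, 4, 3, 3, 3, 1, 4, 1],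
  [4, 1, 2, 4, 1, 3, 2, 0, 2, 2, 4, 1, 3, 3, 1, 3, 0, 2, 2, 2, 4, 3, 3, 3, 1],
  [4, 1, 2, 4, 1, 3, 0, 2, 2, 2, 4, 3, 3, 3, 1, 2, 0, 2, 2, 4, 1, 3, 3, 1, 3, 0, 2, 2, 2, 4, 3, 3, 3, 1, 4, 1],
  [],
  [],
  [],
  [4, 1, 2, 0, 2, 2, 4, 1, 3, 3, 1, 3],
  [4, 1, 2, 0, 2, 2, 4, 1, 3, 3, 1, 3, 0, 2, 2, 2, 4, 3, 3, 3, 1, 2, 4, 1, 3],
  [],
  [],
  [4, 1, 2, 4, 1, 3, 2, 0, 2, 2, 4, 1, 3, 3, 1, 3],
  [],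
  [4, 1, 2, 4, 1, 3, 0, 2, 2, 2, 4, 3, 3, 3, 1, 2, 0, 2, 2, 4, 1, 3, 3, 1, 3, 0, 2, 2, 2, 4, 3, 3, 3, 1, 2, 4, 1, 3],
  [2, 4, 1, 3, 0, 2, 2, 2, 4, 3, 3, 3, 1],
  [],
  [],
  [4, 1, 2, 4, 1, 3, 0, 2, 2, 2, 4, 3, 3, 3, 1, 2, 0, 2, 2, 4, 1, 3, 3, 1, 3, 4, 1],
  [],
  [],
  [2, 4, 1, 3, 0, 2, 2, 2, 4, 3, 3, 3, 1, 2, 0, 2, 2, 4, 1, 3, 3, 1, 3, 4, 1, 0, 2, 2, 2, 4, 3, 3, 3, 1],
  [],
  [],
  [],
  [4, 1, 2, 4, 1, 3, 0, 2, 2, 2, 4, 3, 3, 3, 1, 2, 0, 2, 2, 4, 1, 3, 3, 1, 3],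
  [],
  [],
  [],
  [],
  [4, 1, 2, 0, 2, 2, 4, 1, 3, 3, 1, 3, 0, 2, 2, 2, 4, 3, 3, 3, 1],
  [] ]

/-- level 4: base point 24, orbit of size 16 -/
def mask4 : Nat := 10615737006948887285079212032
/-- paths for level 4 -/
def paths4 : List (List Nat) := [
  [],
  [],
  [],
  [],
  [],
  [],
  [],
  [],
  [],
  [],
  [],
  [],
  [],
  [],
  [],
  [],
  [],
  [],
  [],
  [],
  [],
  [],
  [],
  [],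
  [],
  [],
  [4, 2, 2, 2, 4, 3, 3, 3, 5],
  [],
  [],
  [],
  [],
  [],
  [],
  [],
  [],
  [],
  [0, 2, 2, 2, 4, 3, 3, 3, 1],
  [],
  [],
  [],
  [],
  [],
  [],
  [],
  [],
  [],
  [],
  [],
  [],
  [],
  [],
  [],
  [],
  [],
  [],
  [],
  [],
  [2, 0, 2, 2, 4, 1, 3, 3, 1, 3, 0, 2, 2, 2, 4, 3, 3, 3, 1],
  [2, 0, 2, 2, 4, 1, 3, 3, 1, 3, 2, 0, 4, 3, 3, 5, 1, 2, 5, 1],
  [],
  [],
  [],
  [0, 2, 2, 2, 4, 3, 3, 3, 1, 4, 2, 2, 2, 4, 3, 3, 3, 5, 2, 0, 2, 2, 4, 1, 3, 3, 1, 3],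
  [],
  [],
  [],
  [],
  [],
  [],
  [],
  [0, 2, 2, 2, 4, 3, 3, 3, 1, 2, 0, 2, 2, 4, 1, 3, 3, 1, 3, 4, 2, 2, 2, 4, 3, 3, 3, 5],
  [0, 2, 2, 2, 4, 3, 3, 3, 1, 2, 0, 2, 2, 4, 1, 3, 3, 1, 3, 0, 2, 2, 2, 4, 3, 3, 3, 1],
  [2, 0, 2, 2, 4, 1, 3, 3, 1, 3, 0, 2, 2, 2, 4, 3, 3, 3, 1, 2, 0, 4, 3, 3, 5, 1, 2, 5, 1, 2, 0, 2, 2, 4, 1, 3, 3, 1, 3],
  [],
  [],
  [],
  [],
  [0, 2, 2, 2, 4, 3, 3, 3, 1, 2, 0, 2, 2, 4, 1, 3, 3, 1, 3, 2, 0, 4, 3, 3, 5, 1, 2, 5, 1],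
  [],
  [],
  [0, 2, 2, 2, 4, 3, 3, 3, 1, 2, 0, 2, 2, 4, 1, 3, 3, 1, 3],
  [],
  [0, 2, 2, 2, 4, 3, 3, 3, 1, 4, 2, 2, 2, 4, 3, 3, 3, 5, 2, 0, 2, 2, 4, 1, 3, 3, 1, 3, 4, 2, 2, 2, 4, 3, 3, 3, 5],
  [0, 2, 2, 2, 4, 3, 3, 3, 1, 4, 2, 2, 2, 4, 3, 3, 3, 5],
  [],
  [],
  [0, 2, 2, 2, 4, 3, 3, 3, 1, 4, 2, 2, 2, 4, 3, 3, 3, 5, 2, 0, 2, 2, 4, 1, 3, 3, 1, 3, 2, 0, 4, 3, 3, 5, 1, 2, 5, 1],
  [],
  [],
  [2, 0, 2, 2, 4, 1, 3, 3, 1, 3, 0, 2, 2, 2, 4, 3, 3, 3, 1, 2, 0, 4, 3, 3, 5, 1, 2, 5, 1],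
  [],
  [],
  [],
  [2, 0, 2, 2, 4, 1, 3, 3, 1, 3],
  [],
  [],
  [],
  [],
  [],
  [] ]

/-- level 5: base point 19, orbit of size 3 -/
def mask5 : Nat := 316912725614921076288499744768
/-- paths for level 5 -/
def paths5 : List (List Nat) := [
  [],
  [],
  [],
  [],
  [],
  [],
  [],
  [],
  [],
  [],
  [],
  [],
  [],
  [],
  [],
  [],
  [],
  [],
  [],
  [],
  [],
  [],
  [],
  [],
  [],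
  [],
  [],
  [],
  [],
  [],
  [],
  [],
  [],
  [],
  [],
  [],
  [],
  [],
  [],
  [],
  [],
  [],
  [],
  [],
  [],
  [],
  [],
  [],
  [],
  [],
  [],
  [],
  [],
  [],
  [],
  [],
  [],
  [],
  [],
  [],
  [],
  [],
  [],
  [],
  [],
  [],
  [],
  [],
  [],
  [],
  [],
  [],
  [],
  [],
  [],
  [],
  [0, 2, 2, 0, 2, 2, 4, 2, 4, 3, 5, 3, 3, 1, 3, 3, 1, 0, 4, 0, 2, 4, 3, 0, 3, 0, 5, 2, 5, 2, 1, 5, 1, 3, 1],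
  [],
  [],
  [],
  [],
  [],
  [],
  [],
  [],
  [],
  [],
  [],
  [],
  [],
  [],
  [],
  [],
  [],
  [],
  [],
  [],
  [],
  [0, 2, 2, 0, 2, 2, 4, 2, 4, 3, 5, 3, 3, 1, 3, 3, 1],
  [] ]

/-- level 6: base point 57, orbit of size 2 -/
def mask6 : Nat := 618970019786805325525417984
/-- paths for level 6 -/
def paths6 : List (List Nat) := [
  [],
  [],
  [],
  [],
  [],
  [],
  [],
  [],
  [],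
  [],
  [],
  [],
  [],
  [],
  [],
  [],
  [],
  [],
  [],
  [],
  [],
  [],
  [],
  [],
  [],
  [],
  [],
  [],
  [],
  [],
  [],
  [],
  [],
  [],
  [],
  [],
  [],
  [],
  [],
  [],
  [],
  [],
  [],
  [],
  [],
  [],
  [],
  [],
  [],
  [],
  [],
  [],
  [],
  [],
  [],
  [],
  [],
  [],
  [],
  [],
  [],
  [],
  [],
  [],
  [],
  [],
  [],
  [],
  [],
  [],
  [],
  [],
  [],
  [],
  [],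
  [],
  [],
  [],
  [],
  [],
  [],
  [],
  [],
  [],
  [],
  [],
  [],
  [],
  [],
  [2, 0, 4, 3, 3, 5, 1, 2, 5, 1],
  [],
  [],
  [],
  [],
  [],
  [],
  [],
  [],
  [],
  [] ]

/-- the orbit of size 77 of the stabiliser of the point 0: root 1 -/
def maskB : Nat := 940122137606359437923124115198
/-- paths for the orbit of size 77 -/
def pathsB : List (List Nat) := [
  [],
  [],
  [3, 4, 1, 2, 0, 3, 3, 1],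
  [2, 4, 1, 3, 0, 2, 2, 1],
  [2, 2, 2],
  [0, 3, 3, 1],
  [0, 2, 2, 1],
  [2, 4, 1, 3, 3, 4, 1, 2, 2, 2, 2],
  [],
  [0, 2, 2, 1, 2, 2, 2, 3, 4, 1, 2],
  [0, 3, 3, 1, 2, 2, 2, 2, 4, 1, 3],
  [],
  [3, 4, 1, 2],
  [2, 4, 1, 3],
  [0, 2, 2, 1, 2, 4, 1, 3],
  [0, 2, 2, 1, 2, 2, 2, 3, 4, 1, 2, 2, 2, 2],
  [0, 2, 2, 1, 2, 4, 1, 3, 2, 2, 2],
  [],
  [0, 3, 3, 1, 3, 4, 1, 2, 2, 2, 2],
  [],
  [0, 3, 3, 1, 3, 4, 1, 2],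
  [0, 3, 3, 1, 2, 2, 2, 2, 4, 1, 3, 2, 2, 2],
  [2, 4, 1, 3, 2, 2, 2],
  [3, 4, 1, 2, 2, 2, 2],
  [],
  [0, 3, 3, 1, 2, 2, 2],
  [],
  [3, 4, 1, 2, 0, 2, 2, 1],
  [2, 4, 1, 3, 0, 3, 3, 1],
  [0, 2, 2, 1, 2, 2, 2],
  [2, 2, 2, 0, 2, 2, 1],
  [2, 4, 1, 3, 3, 4, 1, 2],
  [2, 2, 2, 0, 3, 3, 1],
  [0, 3, 3, 1, 2, 2, 2, 2, 4, 1, 3, 0, 3, 3, 1],
  [0, 2, 2, 1, 2, 4, 1, 3, 0, 2, 2, 1],
  [0, 2, 2, 1, 2, 2, 2, 0, 3, 3, 1, 2, 4, 1, 3],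
  [],
  [0, 3, 3, 1, 3, 4, 1, 2, 0, 3, 3, 1, 3, 4, 1, 2],
  [0, 3, 3, 1, 3, 4, 1, 2, 0, 3, 3, 1],
  [0, 2, 2, 1, 2, 4, 1, 3, 0, 2, 2, 1, 2, 4, 1, 3],
  [0, 3, 3, 1, 2, 2, 2, 0, 2, 2, 1, 3, 4, 1, 2],
  [2, 2, 2, 0, 2, 2, 1, 2, 4, 1, 3],
  [2, 2, 2, 0, 3, 3, 1, 3, 4, 1, 2, 0, 2, 2, 1, 2, 4, 1, 3],
  [2, 2, 2, 0, 3, 3, 1, 3, 4, 1, 2],
  [2, 2, 2, 0, 3, 3, 1, 2, 2, 2, 3, 4, 1, 2],
  [0, 3, 3, 1, 3, 4, 1, 2, 2, 2, 2, 2, 4, 1, 3],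
  [3, 4, 1, 2, 0, 2, 2, 1, 3, 4, 1, 2],
  [0, 2, 2, 1, 2, 4, 1, 3, 2, 2, 2, 3, 4, 1, 2],
  [0, 3, 3, 1, 2, 2, 2, 0, 2, 2, 1],
  [2, 2, 2, 0, 3, 3, 1, 2, 4, 1, 3, 3, 4, 1, 2],
  [2, 2, 2, 0, 2, 2, 1, 2, 2, 2, 2, 4, 1, 3],
  [0, 2, 2, 1, 2, 2, 2, 0, 3, 3, 1],
  [2, 2, 2, 0, 2, 2, 1, 2, 4, 1, 3, 3, 4, 1, 2],
  [2, 4, 1, 3, 0, 3, 3, 1, 2, 4, 1, 3],
  [3, 4, 1, 2, 2, 2, 2, 0, 3, 3, 1],
  [2, 2, 2, 0, 3, 3, 1, 2, 2, 2],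
  [2, 4, 1, 3, 0, 3, 3, 1, 2, 4, 1, 3, 0, 2, 2, 1],
  [],
  [],
  [2, 4, 1, 3, 2, 2, 2, 0, 2, 2, 1],
  [2, 2, 2, 0, 2, 2, 1, 2, 2, 2],
  [2, 4, 1, 3, 2, 2, 2, 0, 2, 2, 1, 2, 4, 1, 3],
  [],
  [3, 4, 1, 2, 2, 2, 2, 0, 2, 2, 1],
  [2, 2, 2, 0, 3, 3, 1, 2, 4, 1, 3, 0, 3, 3, 1],
  [2, 4, 1, 3, 0, 3, 3, 1, 3, 4, 1, 2],
  [3, 4, 1, 2, 0, 2, 2, 1, 2, 4, 1, 3, 3, 4, 1, 2],
  [2, 2, 2, 0, 2, 2, 1, 3, 4, 1, 2, 0, 2, 2, 1],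
  [2, 2, 2, 0, 3, 3, 1, 2, 4, 1, 3],
  [3, 4, 1, 2, 0, 2, 2, 1, 2, 4, 1, 3],
  [],
  [],
  [],
  [2, 4, 1, 3, 2, 2, 2, 0, 3, 3, 1],
  [2, 2, 2, 0, 2, 2, 1, 3, 4, 1, 2],
  [2, 4, 1, 3, 0, 3, 3, 1, 2, 4, 1, 3, 3, 4, 1, 2],
  [],
  [],
  [2, 4, 1, 3, 3, 4, 1, 2, 0, 3, 3, 1],
  [2, 4, 1, 3, 3, 4, 1, 2, 0, 2, 2, 1],
  [],
  [2, 2, 2, 0, 3, 3, 1, 3, 4, 1, 2, 0, 2, 2, 1],
  [],
  [],
  [3, 4, 1, 2, 0, 2, 2, 1, 2, 4, 1, 3, 0, 3, 3, 1],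
  [2, 4, 1, 3, 0, 3, 3, 1, 3, 4, 1, 2, 0, 2, 2, 1],
  [],
  [2, 2, 2, 0, 3, 3, 1, 2, 4, 1, 3, 0, 2, 2, 1, 2, 4, 1, 3],
  [2, 2, 2, 0, 2, 2, 1, 3, 4, 1, 2, 0, 3, 3, 1, 3, 4, 1, 2],
  [],
  [2, 2, 2, 0, 3, 3, 1, 3, 4, 1, 2, 0, 2, 2, 1, 2, 2, 2],
  [0, 3, 3, 1, 2, 2, 2, 0, 2, 2, 1, 3, 4, 1, 2, 0, 2, 2, 1],
  [2, 4, 1, 3, 0, 3, 3, 1, 3, 4, 1, 2, 0, 2, 2, 1, 3, 4, 1, 2],
  [],
  [2, 2, 2, 0, 3, 3, 1, 2, 4, 1, 3, 0, 2, 2, 1],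
  [2, 2, 2, 0, 2, 2, 1, 3, 4, 1, 2, 0, 3, 3, 1],
  [2, 2, 2, 0, 3, 3, 1, 2, 2, 2, 3, 4, 1, 2, 0, 3, 3, 1],
  [2, 4, 1, 3, 0, 3, 3, 1, 2, 4, 1, 3, 3, 4, 1, 2, 0, 3, 3, 1],
  [],
  [2, 2, 2, 0, 3, 3, 1, 2, 2, 2, 3, 4, 1, 2, 0, 3, 3, 1, 2, 2, 2] ]

end Cfsg.Agent.Lib.Helper14.HNx.G100Data
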