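import Cfsg.Agent.Lib.Helper28.TC2Orbit
set_option autoImplicit false
set_option maxRecDepth 100000

namespace Cfsg.Agent.Lib.Helper14.HNx.L100Table
open Cfsg.Agent.Lib.Helper28.TC2Upper Cfsg.Agent.Lib.Helper28.TC2Lower Cfsg.Agent.Lib.Helper28.TC2Orbit

def cT0 : ℕ := 0xc58ee5ab15eb61a78295fbd765c2b76664074e61d1aaf5bb268c5ab89b5175078b253f573e74492a62c74f2232551051be767db2f667581a5a64c1754593132291121407868b3828d891820a8f284880e080c1070c14001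
def cT1 : ℕ := 0xc58ee5ab15eb61a78295fbd765c2b76664074e61d1aaf5bb268c5ab89b5175078b253f573e74492a62c74f2232551051be767db2f667581a5a64c1754593132291121407868b3828d891820a8f284880e080c1070c14001
def cT2 : ℕ := 0xc17b0e3c57edd4b34aed0b16ae5580fa43d9d3ebbb6acda568d1d84aa72e2ad5945c376ca9d4d53314278325fc4870922278e4f2338c98af5c6d0ab2e80aa64a4088e1a7c5983a6849432483960c4c28f1828401000c202
def cT3 : ℕ := 0xc17f0e3bd8acd5bb5add79b22a5c8769f589d3dc3685119518d1e0b05eb99d3634a82b98e553d78ee5c994992c5488e03f40e9bb56870dad50b109e2ca49a744487943e30e901438c9a1060b872a188851a2c4810400203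
def cT4 : ℕ := 0xc58f0dabf7aedca782cd8af5a14bb74a6407d221d1a8ee4ce62d22b69b560d07f3d5bc94b19296f11ac666e63b04cb913a7a7dc1d4ebd2a432b4c16545d41126691a13c8068b3648e101820a8f282848e0e0c1040c14001
def cT5 : ℕ := 0xc58f0dabf7aedca782cd8af5a14bb74a6407d221d1a8ee4ce62d22b69b560d07f3d5bc94b19296f11ac666e63b04cb913a7a7dc1d4ebd2a432b4c16545d41126691a13c8068b3648e101820a8f282848e0e0c1040c14001
def cR0 : ℕ := 0x2c0077802e005a00b0015c02b01d400a6074802901d0029a05201210042038006f809f01bd007400e409c0136036a06cc0990032046200c40d80130025e04b801701ad035800b0115812b005606a80950229035200a40d401a7004e049809280250248048c11101a20240007c0cf021d0338047008d801a0432006400c0216022c0058089821100220640087818e031a04300c5800b021400280c48009021000200c38107030c04180c281050008000c0010101030004000000000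
/-- table chunks -/
def colTT : BT ℕ := (BT.node 2 (BT.node 1 (BT.node 0 (BT.leaf cT0) (BT.leaf cT1)) (BT.leaf cT2)) (BT.node 4 (BT.node 3 (BT.leaf cT3) (BT.leaf cT4)) (BT.leaf cT5)))
/-- spanning tree chunks -/
def treeT : BT ℕ := (BT.leaf cR0)
/-- the paths that are checked -/
def chkPaths : List (List ℕ) := [[2, 2, 2, 2, 2, 2], [3, 0, 0, 2, 0, 0], [2, 0, 3, 1, 2, 0, 3, 1, 2, 0, 3, 1], [2, 2, 2, 0, 2, 2, 1, 2, 2, 2, 0, 2, 2, 1, 2, 2, 2, 0, 2, 2, 1], [2, 0, 2, 0, 2, 0, 2, 0, 2, 0, 2, 0, 2, 0, 2, 0], [2, 2, 2, 0, 2, 0, 2, 2, 2, 0, 2, 0, 2, 2, 2, 0, 2, 0, 2, 2, 2, 0, 2, 0], [4, 4], [0, 4, 0, 4], [1, 1, 3, 0, 2, 2, 0, 2, 0, 2, 4, 3, 1, 3, 1, 3, 3, 1, 2, 5], [0, 2, 0, 2, 0, 2, 2, 2, 4, 3, 3, 3, 1, 3, 1, 3, 0, 2, 0, 2, 0, 2, 2, 2, 4, 3, 3, 3, 1, 3, 1, 3, 0, 2, 0, 2, 0, 2, 2, 2, 4, 3, 3, 3, 1, 3, 1, 3, 4]]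
/-- the table -/
def table : Table where
  n := 100
  k := 6
  w := 7
  M := 128
  CH := 1024
  NCH := 1
  col := colTT
  inv := (BT.node 3 (BT.node 1 (BT.node 0 (BT.leaf 1) (BT.leaf 0)) (BT.node 2 (BT.leaf 3) (BT.leaf 2))) (BT.node 5 (BT.node 4 (BT.leaf 5) (BT.leaf 4)) (BT.leaf 6)))
  tw := 15
  TM := 32768
  tree := treeT

end Cfsg.Agent.Lib.Helper14.HNx.L100Table
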