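import Cfsg.Agent.Lib.Helper28.TC2Bsgs
import Cfsg.Agent.Lib.Helper14.HSRecD
import Cfsg.Agent.Lib.Helper14.HNx.L100Low
import Cfsg.Agent.Lib.Helper14.HNx.G100Data

set_option autoImplicit false
set_option maxRecDepth 100000

/-!
# The automorphism group of the Higman-Sims group on 100 points, from a table

The group `Gam` generated by the six letters of the table `L100Table.table` is a rank 3 group of order
at least `88704000` on 100 points with subdegrees `1, 22, 77` (adapted from helper16's `HSM.HS100`).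
-/

namespace Cfsg.Agent.Lib.Helper14.HNx.G100

open Cfsg.Agent.Lib.Helper28.TC2Upper Cfsg.Agent.Lib.Helper28.TC2Lower Cfsg.Agent.Lib.Helper28.TC2Bsgs
open Cfsg.Agent.Lib.Helper28.TC2Range
open Cfsg.Agent.Lib.Helper14.HNx.L100Table Cfsg.Agent.Lib.Helper14.HNx.G100Data

/-- the table -/
abbrev T : Table := table

theorem hT : T.OK := L100Low.hT

theorem Tk : T.k = 6 := rfl
theorem Tn : T.n = 100 := rfl

/-- the group generated by the letters -/
noncomputable def Gam : Subgroup (Equiv.Perm (Fin T.n)) :=
  Subgroup.closure {π | ∃ l, l < 6 ∧ π = Table.sigma hT l}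

theorem sigma_mem {l : ℕ} (hl : l < 6) : Table.sigma hT l ∈ Gam :=
  Subgroup.subset_closure ⟨l, hl, rfl⟩

theorem path_mem (w : List ℕ) (hw : ∀ l ∈ w, l < 6) : pathProd (Table.sigma hT) w ∈ Gam :=
  pathProd_mem Gam _ w fun l hl => sigma_mem (hw l hl)

theorem path_apply (w : List ℕ) (hw : ∀ l ∈ w, l < 6) (p : Fin T.n) :
    (pathProd (Table.sigma hT) w p).val = T.walkT w p.val :=
  Table.pathProd_sigma_apply hT w (fun l hl => by rw [Tk]; exact hw l hl) p

/-! ### the graph -/

/-- adjacency in the Higman-Sims graph -/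
def adjB (p q : ℕ) : Bool := Nat.testBit (adjRows.getD p 0) q

/-- the letters preserve adjacency -/
noncomputable def adjChk : Bool :=
  allLoop (fun l => allLoop (fun p => allLoop (fun q =>
    not (Bool.xor (adjB (T.tau l p) (T.tau l q)) (adjB p q))) 100) 100) 6

theorem adjChk_true : adjChk = true := by decide +kernel

theorem adj_letter {l : ℕ} (hl : l < 6) (p q : Fin T.n) :
    adjB (Table.sigma hT l p).val (Table.sigma hT l q).val = adjB p.val q.val := by
  have h := adjChk_true
  unfold adjChk at h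
  rw [allLoop_eq_true] at h
  have h1 := h l hl
  rw [allLoop_eq_true] at h1
  have h2 := h1 p.val p.2
  rw [allLoop_eq_true] at h2
  have h3 := h2 q.val q.2
  rw [Table.sigma_apply hT (by rw [Tk]; exact hl), Table.sigma_apply hT (by rw [Tk]; exact hl)]
  cases h4 : adjB (T.tau l p.val) (T.tau l q.val) <;> cases h5 : adjB p.val q.val <;>
    simp_all

theorem adj_mem {π : Equiv.Perm (Fin T.n)} (hπ : π ∈ Gam) :
    ∀ p q : Fin T.n, adjB (π p).val (π q).val = adjB p.val q.val := by
  induction hπ using Subgroup.closure_induction with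
  | mem x hx =>
    obtain ⟨l, hl, rfl⟩ := hx
    exact adj_letter hl
  | one => intro p q; rfl
  | mul x y _ _ hx hy =>
    intro p q
    rw [Equiv.Perm.mul_apply, Equiv.Perm.mul_apply, hx, hy]
  | inv x _ hx =>
    intro p q
    have := hx (x⁻¹ p) (x⁻¹ q)
    have e1 : x (x⁻¹ p) = p := by simp
    have e2 : x (x⁻¹ q) = q := by simp
    rw [e1, e2] at this
    exact this.symm

/-! ### orbit data -/

/-- the path `w` takes `b` to `q` and fixes the points of `bs` -/
noncomputable def pathOK (bs : List ℕ) (b : ℕ) (w : List ℕ) (q : ℕ) : Bool :=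
  and (w.all fun l => Nat.blt l 6)
    (and (Nat.beq (T.walkT w b) q) (bs.all fun b' => Nat.beq (T.walkT w b') b'))

/-- the points of the mask `m` are images of `b` under paths fixing the points of `bs` -/
noncomputable def orbOK (bs : List ℕ) (b m : ℕ) (paths : List (List ℕ)) : Bool :=
  allLoop (fun q => or (not (Nat.testBit m q)) (pathOK bs b (paths.getD q []) q)) 100

theorem pathOK_iff (bs : List ℕ) (b : ℕ) (w : List ℕ) (q : ℕ) :
    pathOK bs b w q = true ↔ (∀ l ∈ w, l < 6) ∧ T.walkT w b = q ∧ ∀ b' ∈ bs, T.walkT w b' = b' := by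
  unfold pathOK
  rw [Bool.and_eq_true, Bool.and_eq_true, List.all_eq_true, List.all_eq_true, Data.nbeq_iff]
  constructor
  · rintro ⟨h1, h2, h3⟩
    exact ⟨fun l hl => by simpa [Nat.blt_eq] using h1 l hl, h2,
      fun b' hb' => (Data.nbeq_iff _ _).mp (h3 b' hb')⟩
  · rintro ⟨h1, h2, h3⟩
    exact ⟨fun l hl => by simpa [Nat.blt_eq] using h1 l hl, h2,
      fun b' hb' => (Data.nbeq_iff _ _).mpr (h3 b' hb')⟩

theorem orb_elem {bs : List ℕ} {b m : ℕ} {paths : List (List ℕ)} (h : orbOK bs b m paths = true)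
    (hb : b < T.n) (q : Fin T.n) (hq : Nat.testBit m q.val = true) :
    ∃ π ∈ Gam, (∀ b' ∈ bs, ∀ hb' : b' < T.n, π ⟨b', hb'⟩ = ⟨b', hb'⟩) ∧ π ⟨b, hb⟩ = q := by
  unfold orbOK at h
  rw [allLoop_eq_true] at h
  have h1 := h q.val q.2
  rw [hq] at h1
  simp only [Bool.not_true, Bool.false_or] at h1
  obtain ⟨hw, hq', hbs⟩ := (pathOK_iff _ _ _ _).mp h1
  refine ⟨pathProd (Table.sigma hT) (paths.getD q.val []), path_mem _ hw, ?_, ?_⟩
  · intro b' hb' hlt
    apply Fin.ext
    rw [path_apply _ hw]
    exact hbs b' hb'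
  · apply Fin.ext
    rw [path_apply _ hw]
    exact hq'

/-- the set of points of a mask -/
def maskSet (m : ℕ) : Finset (Fin T.n) := Finset.univ.filter fun q => Nat.testBit m q.val = true

theorem level {bs : List ℕ} {b m s : ℕ} {paths : List (List ℕ)} (h : orbOK bs b m paths = true)
    (hb : b < T.n) (hcnt : (maskSet m).card = s) :
    s * Nat.card (pstab Gam (toFin T.n (b :: bs))) ≤ Nat.card (pstab Gam (toFin T.n bs)) := by
  rw [toFin_cons hb]
  have := step_le Gam (toFin T.n bs) ⟨b, hb⟩ (pstab Gam (toFin T.n bs)) le_rfl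
    (↑(maskSet m) : Set (Fin T.n)) (by
      intro q hq
      have hq' : Nat.testBit m q.val = true := by
        have := Finset.mem_coe.mp hq
        unfold maskSet at this
        rw [Finset.mem_filter] at this
        exact this.2
      obtain ⟨π, hπ, hfix, hmap⟩ := orb_elem h hb q hq'
      refine ⟨π, ?_, hmap⟩
      rw [mem_pstab]
      refine ⟨hπ, fun b'' hb'' => ?_⟩
      have := hfix b''.val (val_mem_of_mem_toFin hb'') b''.2
      exact this)
  rw [Set.ncard_coe_finset, hcnt] at this
  exact this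

theorem orb0 : orbOK [] 0 mask0 paths0 = true := by decide +kernel
theorem orb1 : orbOK [0] 8 mask1 paths1 = true := by decide +kernel
theorem orb2 : orbOK [8, 0] 11 mask2 paths2 = true := by decide +kernel
theorem orb3 : orbOK [11, 8, 0] 17 mask3 paths3 = true := by decide +kernel
theorem orb4 : orbOK [17, 11, 8, 0] 24 mask4 paths4 = true := by decide +kernel
theorem orb5 : orbOK [24, 17, 11, 8, 0] 19 mask5 paths5 = true := by decide +kernel
theorem orb6 : orbOK [19, 24, 17, 11, 8, 0] 57 mask6 paths6 = true := by decide +kernel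
theorem orbB : orbOK [0] 1 maskB pathsB = true := by decide +kernel

theorem cnt0 : (maskSet mask0).card = 100 := by decide +kernel
theorem cnt1 : (maskSet mask1).card = 22 := by decide +kernel
theorem cnt2 : (maskSet mask2).card = 21 := by decide +kernel
theorem cnt3 : (maskSet mask3).card = 20 := by decide +kernel
theorem cnt4 : (maskSet mask4).card = 16 := by decide +kernel
theorem cnt5 : (maskSet mask5).card = 3 := by decide +kernel
theorem cnt6 : (maskSet mask6).card = 2 := by decide +kernel
theorem cntB : (maskSet maskB).card = 77 := by decide +kernel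

/-- the order of the group is at least `88704000` -/
theorem card_ge : 88704000 ≤ Nat.card Gam := by
  have h0 := level orb0 (by decide) cnt0
  have h1 := level orb1 (by decide) cnt1
  have h2 := level orb2 (by decide) cnt2
  have h3 := level orb3 (by decide) cnt3
  have h4 := level orb4 (by decide) cnt4
  have h5 := level orb5 (by decide) cnt5
  have h6 := level orb6 (by decide) cnt6
  have h7 : 1 ≤ Nat.card (pstab Gam (toFin T.n [57, 19, 24, 17, 11, 8, 0])) := one_le_card _ _
  have e : pstab Gam (toFin T.n []) = Gam := rfl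
  rw [e] at h0
  have := chain_stepN h0 (chain_stepN h1 (chain_stepN h2 (chain_stepN h3 (chain_stepN h4
    (chain_stepN h5 (chain_stepN h6 h7))))))
  norm_num at this
  exact this

/-! ### rank 3 -/

/-- the base point -/
def v0 : Fin T.n := ⟨0, by decide⟩

/-- the neighbours of the base point -/
def setA : Set (Fin T.n) := {y | adjB 0 y.val = true}

/-- the other points -/
def setB : Set (Fin T.n) := {y | y ≠ v0 ∧ adjB 0 y.val = false}

/-- the masks describe the suborbits -/
noncomputable def maskChk : Bool :=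
  allLoop (fun q => and (Nat.testBit mask0 q)
    (and (not (Bool.xor (Nat.testBit mask1 q) (adjB 0 q)))
      (not (Bool.xor (Nat.testBit maskB q) (and (not (Nat.beq q 0)) (not (adjB 0 q))))))) 100

theorem maskChk_true : maskChk = true := by decide +kernel

theorem mask_facts (q : Fin T.n) : Nat.testBit mask0 q.val = true ∧
    (Nat.testBit mask1 q.val = true ↔ adjB 0 q.val = true) ∧
    (Nat.testBit maskB q.val = true ↔ q ≠ v0 ∧ adjB 0 q.val = false) := by
  have h := maskChk_true
  unfold maskChk at h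
  rw [allLoop_eq_true] at h
  have h1 := h q.val q.2
  rw [Bool.and_eq_true, Bool.and_eq_true] at h1
  obtain ⟨h2, h3, h4⟩ := h1
  refine ⟨h2, ?_, ?_⟩
  · cases h5 : Nat.testBit mask1 q.val <;> cases h6 : adjB 0 q.val <;> simp_all
  · have hq : (q ≠ v0) ↔ Nat.beq q.val 0 = false := by
      constructor
      · intro hne
        cases hb : Nat.beq q.val 0
        · rfl
        · exact absurd (Fin.ext ((Data.nbeq_iff _ _).mp hb)) hne
      · intro hb hne
        rw [hne] at hb
        exact absurd hb (by decide)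
    rw [hq]
    cases h5 : Nat.testBit maskB q.val <;> cases h6 : adjB 0 q.val <;> cases h7 : Nat.beq q.val 0 <;>
      simp_all

theorem setA_eq : setA = ↑(maskSet mask1) := by
  ext q
  unfold setA maskSet
  rw [Set.mem_setOf_eq, Finset.mem_coe, Finset.mem_filter]
  exact ⟨fun h => ⟨Finset.mem_univ _, (mask_facts q).2.1.mpr h⟩, fun h => (mask_facts q).2.1.mp h.2⟩

theorem setB_eq : setB = ↑(maskSet maskB) := by
  ext q
  unfold setB maskSet
  rw [Set.mem_setOf_eq, Finset.mem_coe, Finset.mem_filter]
  exact ⟨fun h => ⟨Finset.mem_univ _, (mask_facts q).2.2.mpr h⟩, fun h => (mask_facts q).2.2.mp h.2⟩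

/-- two elements of the group with the same fixed points and a common source give an element between their targets -/
theorem exists_between {bs : List ℕ} {b m : ℕ} {paths : List (List ℕ)} (h : orbOK bs b m paths = true)
    (hb : b < T.n) (x y : Fin T.n) (hx : Nat.testBit m x.val = true) (hy : Nat.testBit m y.val = true) :
    ∃ π ∈ Gam, (∀ b' ∈ bs, ∀ hb' : b' < T.n, π ⟨b', hb'⟩ = ⟨b', hb'⟩) ∧ π x = y := by
  obtain ⟨π1, h1, f1, m1⟩ := orb_elem h hb x hx
  obtain ⟨π2, h2, f2, m2⟩ := orb_elem h hb y hy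
  refine ⟨π2 * π1⁻¹, Gam.mul_mem h2 (Gam.inv_mem h1), ?_, ?_⟩
  · intro b' hb' hlt
    rw [Equiv.Perm.mul_apply]
    have e : π1⁻¹ ⟨b', hlt⟩ = ⟨b', hlt⟩ := by
      rw [Equiv.Perm.inv_eq_iff_eq]
      exact (f1 b' hb' hlt).symm
    rw [e]
    exact f2 b' hb' hlt
  · rw [Equiv.Perm.mul_apply]
    have e : π1⁻¹ x = ⟨b, hb⟩ := by
      rw [Equiv.Perm.inv_eq_iff_eq]
      exact m1.symm
    rw [e]
    exact m2

/-- the rank 3 data -/
theorem r3 : Cfsg.Agent.Lib.Helper14.HSRec.R3 ↥Gam v0 setA setB where
  cardV := by rw [Fintype.card_fin]; rfl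
  trans := by
    intro x y
    obtain ⟨π, hπ, -, hm⟩ := exists_between orb0 (by decide) x y (mask_facts x).1 (mask_facts y).1
    exact ⟨⟨π, hπ⟩, hm⟩
  cover := by
    intro y
    by_cases h1 : y = v0
    · exact Or.inl h1
    · cases h2 : adjB 0 y.val
      · exact Or.inr (Or.inr ⟨h1, h2⟩)
      · exact Or.inr (Or.inl h2)
  notA := by
    show ¬ (adjB 0 0 = true)
    decide
  notB := fun h => h.1 rfl
  cardA := by rw [setA_eq, Set.ncard_coe_finset, cnt1]
  cardB := by rw [setB_eq, Set.ncard_coe_finset, cntB]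
  invA := by
    intro h hv a ha
    have h1 := adj_mem h.2 v0 a
    have h2 : (h : Equiv.Perm (Fin T.n)) v0 = v0 := hv
    rw [h2] at h1
    show adjB 0 ((h : Equiv.Perm (Fin T.n)) a).val = true
    have ha' : adjB 0 a.val = true := ha
    rw [← ha']
    exact h1
  transA := by
    intro a ha a' ha'
    obtain ⟨π, hπ, hf, hm⟩ := exists_between orb1 (by decide) a a'
      ((mask_facts a).2.1.mpr ha) ((mask_facts a').2.1.mpr ha')
    exact ⟨⟨π, hπ⟩, hf 0 (by simp) (by decide), hm⟩
  transB := by
    intro b hb b' hb'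
    obtain ⟨π, hπ, hf, hm⟩ := exists_between orbB (by decide) b b'
      ((mask_facts b).2.2.mpr hb) ((mask_facts b').2.2.mpr hb')
    exact ⟨⟨π, hπ⟩, hf 0 (by simp) (by decide), hm⟩

end Cfsg.Agent.Lib.Helper14.HNx.G100
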