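import Cfsg.Agent.Lib.Helper14.HSAut
import Cfsg.Agent.Lib.Helper14.HNx.G100

set_option autoImplicit false
set_option linter.unusedVariables false
set_option linter.style.haveILetI false

/-! The structure of the group `G100.Gam` on 100 points: it is the full automorphism group of the
Higman–Sims graph. -/

namespace Cfsg.Agent.Lib.Helper14.HNx.GamStruct

open Cfsg
open Cfsg.Agent.Lib.Helper14.HSRec
open scoped Classical

theorem gam_structure : Nat.card G100.Gam = 88704000 ∧
    ∃ S : Subgroup G100.Gam, S.Normal ∧ S.index = 2 ∧ IsSimpleGroup S ∧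
      Nat.card S = 44352000 ∧ Nonempty (S ≃* Spor.HS) ∧ Subgroup.center G100.Gam = ⊥ := by
  have hR := G100.r3
  have hΓ := isSRG hR
  have hinj := toAut_injective hR
  have hA := card_aut hΓ
  have hge := G100.card_ge
  haveI : Finite (Gr hR ≃g Gr hR) := finite_aut
  have hle : Nat.card G100.Gam ≤ 88704000 := by
    rw [← hA]
    exact Nat.card_le_card_of_injective _ hinj
  have hc : Nat.card G100.Gam = 88704000 := le_antisymm hle hge
  haveI : Finite G100.Gam := Nat.finite_of_card_ne_zero (by rw [hc]; norm_num)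
  have hbij : Function.Bijective (toAut hR) :=
    hinj.bijective_of_nat_card_le (by rw [hA, hc])
  let τ : G100.Gam ≃* (Gr hR ≃g Gr hR) := MulEquiv.ofBijective (toAut hR) hbij
  obtain ⟨S', hn, hi, hs, hcS, ⟨e⟩, hZ⟩ := aut_structure hΓ
  refine ⟨hc, S'.map τ.symm.toMonoidHom, hn.map _ τ.symm.surjective, ?_, ?_, ?_, ?_, ?_⟩
  · rw [← hi]
    exact Subgroup.index_map_equiv S' τ.symm
  · exact (τ.symm.subgroupMap S').symm.isSimpleGroup
  · rw [← hcS]
    exact (Nat.card_congr (τ.symm.subgroupMap S').toEquiv).symm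
  · exact ⟨(τ.symm.subgroupMap S').symm.trans e⟩
  · rw [Subgroup.eq_bot_iff_forall]
    intro c hcc
    have h1 : τ c ∈ Subgroup.center (Gr hR ≃g Gr hR) := by
      rw [Subgroup.mem_center_iff]
      intro g
      obtain ⟨g', rfl⟩ := τ.surjective g
      rw [← map_mul, ← map_mul, (Subgroup.mem_center_iff.mp hcc) g']
    rw [hZ, Subgroup.mem_bot] at h1
    exact (MulEquiv.map_eq_one_iff τ).mp h1

end Cfsg.Agent.Lib.Helper14.HNx.GamStruct
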