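import Mathlib

set_option autoImplicit false
set_option linter.style.haveILetI false
set_option linter.deprecated false

/-!
# Abstract glue for S1708, part A

Small groups are solvable; a group generated by `x, y, z` with `z * z = 1` modulo a normal subgroup
containing `x` and `y`.
-/

namespace Cfsg.Agent.Lib.Helper14.HNx.Glue

open Subgroup
open scoped commutatorElement

theorem isSolvable_of_card_prime_pow {Y : Type*} [Group Y] [Finite Y] {p n : ℕ} [Fact p.Prime]
    (h : Nat.card Y = p ^ n) : IsSolvable Y := by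
  haveI := (IsPGroup.of_card h).isNilpotent
  exact IsNilpotent.to_isSolvable

theorem isSolvable_of_card_le_six {Y : Type*} [Group Y] [Finite Y] (h : Nat.card Y ≤ 6) :
    IsSolvable Y := by
  haveI : Fact (Nat.Prime 2) := ⟨Nat.prime_two⟩
  haveI : Fact (Nat.Prime 3) := ⟨Nat.prime_three⟩
  haveI : Fact (Nat.Prime 5) := ⟨Nat.prime_five⟩
  have hpos : 0 < Nat.card Y := Nat.card_pos
  obtain ⟨n, hn⟩ : ∃ n, Nat.card Y = n := ⟨_, rfl⟩
  rw [hn] at h hpos
  interval_cases n
  · exact isSolvable_of_card_prime_pow (p := 2) (n := 0) hn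
  · exact isSolvable_of_card_prime_pow (p := 2) (n := 1) hn
  · exact isSolvable_of_card_prime_pow (p := 3) (n := 1) hn
  · exact isSolvable_of_card_prime_pow (p := 2) (n := 2) hn
  · exact isSolvable_of_card_prime_pow (p := 5) (n := 1) hn
  · -- order six: a normal subgroup of order three
    haveI : Fintype Y := Fintype.ofFinite Y
    obtain ⟨a, ha⟩ := exists_prime_orderOf_dvd_card (G := Y) 3
      (by rw [← Nat.card_eq_fintype_card, hn]; norm_num)
    set N : Subgroup Y := Subgroup.zpowers a with hN
    have hcN : Nat.card N = 3 := by rw [hN, Nat.card_zpowers, ha]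
    have hidx : N.index = 2 := by
      have := N.card_mul_index
      rw [hcN, hn] at this
      omega
    haveI : N.Normal := Subgroup.normal_of_index_eq_two hidx
    have h1 : IsSolvable N := isSolvable_of_card_prime_pow (p := 3) (n := 1) hcN
    have h2 : IsSolvable (Y ⧸ N) :=
      isSolvable_of_card_prime_pow (p := 2) (n := 1) (by rw [← Subgroup.index_eq_card, hidx]; rfl)
    exact (Group.isSolvable_iff_subgroup_quotient N).mpr ⟨h1, h2⟩

/-- a perfect subgroup of order at most six is trivial -/
theorem eq_bot_of_perfect_of_card_le_six {G : Type*} [Group G] (Y : Subgroup G) [Finite Y]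
    (hp : ⁅Y, Y⁆ = Y) (h : Nat.card Y ≤ 6) : Y = ⊥ := by
  by_contra hne
  have hs : IsSolvable Y := isSolvable_of_card_le_six h
  haveI : Nontrivial Y := (Subgroup.nontrivial_iff_ne_bot Y).mpr hne
  haveI : Group.IsPerfect Y := Subgroup.isPerfect_iff.mpr hp
  exact Group.IsPerfect.not_isSolvable Y hs

section gens

variable {P : Type*} [Group P] {x y z : P}

/-- modulo a normal subgroup containing `x` and `y`, every element is `1` or `z` -/
theorem mk_eq_one_or (hgen : Subgroup.closure ({x, y, z} : Set P) = ⊤) (hz : z * z = 1)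
    (L : Subgroup P) [L.Normal] (hx : x ∈ L) (hy : y ∈ L) (g : P) :
    (g : P ⧸ L) = 1 ∨ (g : P ⧸ L) = (z : P ⧸ L) := by
  have hg : g ∈ Subgroup.closure ({x, y, z} : Set P) := by rw [hgen]; trivial
  have hzz : ((z : P) : P ⧸ L) * (z : P ⧸ L) = 1 := by
    rw [← QuotientGroup.mk_mul, hz]; rfl
  induction hg using Subgroup.closure_induction with
  | mem a ha =>
    rcases ha with rfl | rfl | rfl
    · left; exact (QuotientGroup.eq_one_iff _).mpr hx
    · left; exact (QuotientGroup.eq_one_iff _).mpr hy
    · right; rfl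
  | one => left; rfl
  | mul a b _ _ ha hb =>
    rw [QuotientGroup.mk_mul]
    rcases ha with ha | ha <;> rcases hb with hb | hb <;> rw [ha, hb]
    · left; exact one_mul 1
    · right; exact one_mul _
    · right; exact mul_one _
    · left; exact hzz
  | inv a _ ha =>
    rw [QuotientGroup.mk_inv]
    rcases ha with ha | ha <;> rw [ha]
    · left; exact inv_one
    · right; exact inv_eq_of_mul_eq_one_right hzz

/-- all commutators lie in a normal subgroup containing `x` and `y` -/
theorem commutator_mem_of (hgen : Subgroup.closure ({x, y, z} : Set P) = ⊤) (hz : z * z = 1)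
    (L : Subgroup P) [L.Normal] (hx : x ∈ L) (hy : y ∈ L) (a b : P) : ⁅a, b⁆ ∈ L := by
  rw [← QuotientGroup.eq_one_iff, commutatorElement_def, QuotientGroup.mk_mul, QuotientGroup.mk_mul,
    QuotientGroup.mk_mul, QuotientGroup.mk_inv, QuotientGroup.mk_inv]
  have hzz : ((z : P) : P ⧸ L) * (z : P ⧸ L) = 1 := by
    rw [← QuotientGroup.mk_mul, hz]; rfl
  rcases mk_eq_one_or hgen hz L hx hy a with ha | ha <;>
    rcases mk_eq_one_or hgen hz L hx hy b with hb | hb <;> rw [ha, hb] <;> group

/-- a normal subgroup containing `x` and `y` has index at most two -/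
theorem index_le_two (hgen : Subgroup.closure ({x, y, z} : Set P) = ⊤) (hz : z * z = 1)
    (L : Subgroup P) [L.Normal] (hx : x ∈ L) (hy : y ∈ L) : L.index ≤ 2 ∧ L.index ≠ 0 := by
  let f : Bool → P ⧸ L := fun b => if b then 1 else (z : P ⧸ L)
  have hf : Function.Surjective f := by
    intro q
    obtain ⟨g, rfl⟩ := QuotientGroup.mk_surjective q
    rcases mk_eq_one_or hgen hz L hx hy g with hg | hg
    · exact ⟨true, hg.symm⟩
    · exact ⟨false, hg.symm⟩
  haveI : Finite (P ⧸ L) := Finite.of_surjective f hf
  have h1 : Nat.card (P ⧸ L) ≤ Nat.card Bool := Nat.card_le_card_of_surjective f hf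
  have hb : Nat.card Bool = 2 := by rw [Nat.card_eq_fintype_card, Fintype.card_bool]
  rw [hb] at h1
  rw [Subgroup.index_eq_card]
  exact ⟨h1, Nat.card_pos.ne'⟩

end gens

end Cfsg.Agent.Lib.Helper14.HNx.Glue
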