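import Mathlib
import Cfsg.Prelude.Def_SporadicB
import Cfsg.Prelude.Def_KGroupFacts
import Cfsg.Agent.Lib.Helper14.HNx.GlueA

set_option autoImplicit false
set_option linter.style.haveILetI false
set_option linter.deprecated false
set_option linter.unusedVariables false

/-!
# Abstract glue for S1708, part B

Transport of `IsNonsplitDoubleCover` along an isomorphism, commutators and subgroups of index two,
and centrality of a small normal subgroup in a perfect group with a large simple quotient.
-/

namespace Cfsg.Agent.Lib.Helper14.HNx.Glue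

open Subgroup
open scoped commutatorElement

theorem commutator_mem_of_index_two {G : Type*} [Group G] {H : Subgroup G} (h : H.index = 2)
    (a b : G) : ⁅a, b⁆ ∈ H := by
  rw [commutatorElement_def, mul_assoc (a * b), Subgroup.mul_mem_iff_of_index_two h,
    Subgroup.mul_mem_iff_of_index_two h, Subgroup.mul_mem_iff_of_index_two h, inv_mem_iff, inv_mem_iff]

/-- transport of a non-split double cover along an isomorphism -/
theorem nonsplit_congr {H H' K : Type*} [Group H] [Finite H] [Group H'] [Group K] (ε : H ≃* H')
    (h : Cfsg.IsNonsplitDoubleCover H K) : Cfsg.IsNonsplitDoubleCover H' K := by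
  obtain ⟨h1, ⟨e⟩, h3⟩ := h
  haveI : Finite H' := Finite.of_equiv H ε.toEquiv
  have hmap : (Subgroup.center H).map (ε : H →* H') = Subgroup.center H' := by
    ext g
    constructor
    · rintro ⟨a, ha, rfl⟩
      rw [Subgroup.mem_center_iff]
      intro b
      obtain ⟨b', rfl⟩ := ε.surjective b
      have := (Subgroup.mem_center_iff.mp ha) b'
      show ε b' * ε a = ε a * ε b'
      rw [← map_mul, ← map_mul, this]
    · intro hg
      refine ⟨ε.symm g, ?_, by simp⟩
      show ε.symm g ∈ Subgroup.center H
      rw [Subgroup.mem_center_iff]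
      intro b
      have := (Subgroup.mem_center_iff.mp hg) (ε b)
      apply ε.injective
      rw [map_mul, map_mul, ε.apply_symm_apply, this]
  refine ⟨?_, ?_, ?_⟩
  · rw [← h1]
    exact (Nat.card_congr (Subgroup.centerCongr ε).toEquiv).symm
  · exact ⟨(QuotientGroup.congr (Subgroup.center H) (Subgroup.center H') ε hmap).symm.trans e⟩
  · intro L hL
    apply h3 (L.map (ε.symm : H' →* H))
    rw [Subgroup.isComplement'_iff_card_mul_and_disjoint] at hL ⊢
    obtain ⟨hc, hd⟩ := hL
    refine ⟨?_, ?_⟩
    · rw [Subgroup.card_map_of_injective (f := (ε.symm : H' →* H)) ε.symm.injective,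
        Nat.card_congr (Subgroup.centerCongr ε).toEquiv, hc]
      exact (Nat.card_congr ε.toEquiv).symm
    · rw [Subgroup.disjoint_def] at hd ⊢
      intro g hg1 hg2
      obtain ⟨l, hl, rfl⟩ := hg2
      have h4 : l ∈ Subgroup.center H' := by
        rw [← hmap]
        exact ⟨ε.symm l, hg1, by simp⟩
      have := hd h4 hl
      rw [this]
      simp

end Cfsg.Agent.Lib.Helper14.HNx.Glue
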