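import Mathlib
import Cfsg.Agent.Lib.Helper14.HNx.GlueA

set_option autoImplicit false
set_option linter.style.haveILetI false
set_option linter.deprecated false
set_option linter.unusedVariables false

/-!
# Abstract glue for S1708, part C

A perfect normal subgroup `E` with a large simple quotient centralizes a normal subgroup of order at most six.
-/

namespace Cfsg.Agent.Lib.Helper14.HNx.Glue

open Subgroup
open scoped commutatorElement

theorem conjNormal_eq_one_iff {P : Type*} [Group P] (R : Subgroup P) [R.Normal] (g : P) :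
    (MulAut.conjNormal g : MulAut R) = 1 ↔ g ∈ Subgroup.centralizer (R : Set P) := by
  rw [Subgroup.mem_centralizer_iff]
  constructor
  · intro h r hr
    have h1 := congrArg (fun α : MulAut R => ((α ⟨r, hr⟩ : R) : P)) h
    simp only [MulAut.conjNormal_apply, MulAut.one_apply] at h1
    calc r * g = g * r * g⁻¹ * g := by rw [h1]
      _ = g * r := by group
  · intro h
    ext r
    rw [MulAut.conjNormal_apply, MulAut.one_apply]
    have := h r.1 r.2
    calc g * (r : P) * g⁻¹ = (r : P) * g * g⁻¹ := by rw [this]
      _ = r := by group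

theorem le_centralizer_ker {P : Type*} [Group P] [Finite P] {A : Type*} [Group A]
    (π : P →* A) (hπ : Function.Surjective π) (hker : Nat.card π.ker ≤ 6)
    (S : Subgroup A) [hSn : S.Normal] (hSs : IsSimpleGroup S) (hScard : 4320 < Nat.card S)
    (hperf : ⁅S.comap π, S.comap π⁆ = S.comap π) :
    S.comap π ≤ Subgroup.centralizer (π.ker : Set P) := by
  classical
  set E : Subgroup P := S.comap π with hE
  haveI hEn : E.Normal := hSn.comap π
  set R : Subgroup P := π.ker with hR
  haveI hRn : R.Normal := MonoidHom.normal_ker π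
  set C : Subgroup P := Subgroup.centralizer (R : Set P) with hC
  haveI hCn : C.Normal := Subgroup.normal_centralizer
  let f : P →* MulAut R := MulAut.conjNormal
  have hkerf : ∀ g, f g = 1 ↔ g ∈ C := fun g => conjNormal_eq_one_iff R g
  set J : Subgroup A := (C ⊓ E).map π with hJ
  have hJn : J.Normal := (inferInstance : (C ⊓ E).Normal).map π hπ
  have hJS : J ≤ S := by
    rintro _ ⟨g, hg, rfl⟩
    exact hg.2
  have hJ' : (J.subgroupOf S).Normal := hJn.subgroupOf S
  rcases hSs.eq_bot_or_eq_top_of_normal _ hJ' with h | h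
  · -- the small case is impossible
    exfalso
    rw [Subgroup.subgroupOf_eq_bot, disjoint_iff, inf_eq_left.mpr hJS] at h
    have hCE : C ⊓ E ≤ R := by
      intro g hg
      have : π g ∈ J := ⟨g, hg, rfl⟩
      rw [h, Subgroup.mem_bot] at this
      exact this
    -- the restriction of `f` to `E`
    let fE : E →* MulAut R := f.comp E.subtype
    have hk : Nat.card fE.ker ≤ 6 := by
      refine le_trans ?_ hker
      refine Nat.card_le_card_of_injective (fun k : fE.ker => (⟨k.1.1, hCE ⟨?_, k.1.2⟩⟩ : R)) ?_
      · exact (hkerf k.1.1).mp k.2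
      · intro a b hab
        have h1 : (a.1.1 : P) = b.1.1 := congrArg (fun r : R => (r : P)) hab
        exact Subtype.ext (Subtype.ext h1)
    have hr : Nat.card fE.range ≤ 720 := by
      have h1 : Nat.card fE.range ≤ Nat.card (MulAut R) := Subgroup.card_le_card_group _
      have h2 : Nat.card (MulAut R) ≤ Nat.card (Equiv.Perm R) :=
        Nat.card_le_card_of_injective (fun α : MulAut R => α.toEquiv) MulEquiv.toEquiv_injective
      have h3 : Nat.card (Equiv.Perm R) ≤ 720 := by
        rw [Nat.card_perm]
        exact le_trans (Nat.factorial_le hker) (by decide)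
      exact le_trans h1 (le_trans h2 h3)
    have hcard : Nat.card E = Nat.card fE.ker * Nat.card fE.range := by
      rw [← Subgroup.index_ker, Subgroup.card_mul_index]
    have hSE : Nat.card S ≤ Nat.card E := by
      refine Nat.card_le_card_of_surjective (fun g : E => (⟨π g.1, g.2⟩ : S)) ?_
      rintro ⟨s, hs⟩
      obtain ⟨g, rfl⟩ := hπ s
      exact ⟨⟨g, hs⟩, rfl⟩
    have : Nat.card E ≤ 6 * 720 := by
      rw [hcard]
      exact Nat.mul_le_mul hk hr
    omega
  · have hSJ : S ≤ J := Subgroup.subgroupOf_eq_top.mp h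
    haveI : Finite (E.map f) :=
      Finite.of_surjective (fun g : E => (⟨f g.1, g.1, g.2, rfl⟩ : E.map f)) (by
        rintro ⟨_, g, hg, rfl⟩
        exact ⟨⟨g, hg⟩, rfl⟩)
    haveI : Finite (R.map f) :=
      Finite.of_surjective (fun g : R => (⟨f g.1, g.1, g.2, rfl⟩ : R.map f)) (by
        rintro ⟨_, g, hg, rfl⟩
        exact ⟨⟨g, hg⟩, rfl⟩)
    have hY : E.map f = ⊥ := by
      apply eq_bot_of_perfect_of_card_le_six
      · rw [← Subgroup.map_commutator, hperf]
      · have hsub : E.map f ≤ R.map f := by
          rintro _ ⟨g, hg, rfl⟩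
          obtain ⟨c, hc, hcg⟩ := hSJ hg
          have hr : c⁻¹ * g ∈ R := by
            rw [hR, MonoidHom.mem_ker, map_mul, map_inv, hcg]
            simp
          refine ⟨c⁻¹ * g, hr, ?_⟩
          rw [map_mul, map_inv, (hkerf c).mpr hc.1]
          simp
        have h1 : Nat.card (E.map f) ≤ Nat.card (R.map f) := Subgroup.card_le_of_le hsub
        have h2 : Nat.card (R.map f) ≤ Nat.card R :=
          Nat.card_le_card_of_surjective (fun g : R => (⟨f g.1, g.1, g.2, rfl⟩ : R.map f)) (by
            rintro ⟨_, g, hg, rfl⟩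
            exact ⟨⟨g, hg⟩, rfl⟩)
        exact le_trans h1 (le_trans h2 hker)
    intro g hg
    have : f g ∈ E.map f := ⟨g, hg, rfl⟩
    rw [hY, Subgroup.mem_bot] at this
    exact (hkerf g).mp this

end Cfsg.Agent.Lib.Helper14.HNx.Glue
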