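import Cfsg.Agent.Lib.Helper28.TC2Upper
import Cfsg.Agent.Lib.Helper14.HNx.P0DataC0
set_option autoImplicit false
set_option maxRecDepth 100000

namespace Cfsg.Agent.Lib.Helper14.HNx.P0Data
open Cfsg.Agent.Lib.Helper28.TC2Upper

/-- relators -/
def relT : BT (ℕ × List ℕ × List ℕ) := (BT.node 4 (BT.node 2 (BT.node 1 (BT.node 0 (BT.leaf (6, [2, 2, 2, 2, 2, 2], [3, 3, 3, 3, 3, 3])) (BT.leaf (6, [3, 0, 0, 2, 0, 0], [1, 1, 3, 1, 1, 2]))) (BT.leaf (12, [2, 0, 3, 1, 2, 0, 3, 1, 2, 0, 3, 1], [0, 2, 1, 3, 0, 2, 1, 3, 0, 2, 1, 3]))) (BT.node 3 (BT.leaf (21, [2, 2, 2, 0, 2, 2, 1, 2, 2, 2, 0, 2, 2, 1, 2, 2, 2, 0, 2, 2, 1], [0, 3, 3, 1, 3, 3, 3, 0, 3, 3, 1, 3, 3, 3, 0, 3, 3, 1, 3, 3, 3])) (BT.leaf (16, [2, 0, 2, 0, 2, 0, 2, 0, 2, 0, 2, 0, 2, 0, 2, 0], [1, 3, 1, 3, 1, 3, 1, 3, 1, 3, 1, 3, 1, 3, 1, 3])))) (BT.node 7 (BT.node 6 (BT.node 5 (BT.leaf (24,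 [2, 2, 2, 0, 2, 0, 2, 2, 2, 0, 2, 0, 2, 2, 2, 0, 2, 0, 2, 2, 2, 0, 2, 0], [1, 3, 1, 3, 3, 3, 1, 3, 1, 3, 3, 3, 1, 3, 1, 3, 3, 3, 1, 3, 1, 3, 3, 3])) (BT.leaf (2, [4, 4], [5, 5]))) (BT.leaf (4, [0, 4, 0, 4], [5, 1, 5, 1]))) (BT.node 8 (BT.leaf (20, [1, 1, 3, 0, 2, 2, 0, 2, 0, 2, 4, 3, 1, 3, 1, 3, 3, 1, 2, 5], [4, 3, 0, 2, 2, 0, 2, 0, 2, 5, 3, 1, 3, 1, 3, 3, 1, 2, 0, 0])) (BT.leaf (49, [0, 2, 0, 2, 0, 2, 2, 2, 4, 3, 3, 3, 1, 3, 1, 3, 0, 2, 0, 2, 0, 2, 2, 2, 4, 3, 3, 3, 1, 3, 1, 3, 0, 2, 0, 2, 0, 2, 2, 2, 4, 3, 3, 3, 1, 3, 1, 3, 4], [5, 2, 0, 2, 0, 2, 2, 2, 5, 3, 3, 3, 1, 3, 1, 3, 1, 2, 0, 2, 0, 2, 2, 2, 5, 3, 3, 3, 1, 3, 1, 3, 1, 2, 0, 2, 0, 2, 2, 2, 5, 3, 3, 3, 1, 3, 1, 3, 1])))))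
/-- subgroup generators -/
def subT : BT (ℕ × List ℕ × List ℕ) := (BT.node 0 (BT.leaf (1, [0], [1])) (BT.leaf (1, [2], [3])))
/-- fact chunks -/
def colET : BT ℕ := (BT.node 111 (BT.node 55 (BT.node 27 (BT.node 13 (BT.node 6 (BT.node 3 (BT.node 1 (BT.node 0 (BT.leaf cE0) (BT.leaf cE1)) (BT.node 2 (BT.leaf cE2) (BT.leaf cE3))) (BT.node 5 (BT.node 4 (BT.leaf cE4) (BT.leaf cE5)) (BT.leaf cE6))) (BT.node 10 (BT.node 8 (BT.node 7 (BT.leaf cE7) (BT.leaf cE8)) (BT.node 9 (BT.leaf cE9) (BT.leaf cE10))) (BT.node 12 (BT.node 11 (BT.leaf cE11) (BT.leaf cE12)) (BT.leaf cE13)))) (BT.node 20 (BT.node 17 (BT.node 15 (BT.node 14 (BT.leaf cE14) (BT.leaf cE15)) (BT.node 16 (BT.leaf cE16) (BT.leaf cE17))) (BT.node 19 (BT.node 18 (BT.leaf cE18) (BT.leaf cE19)) (BT.leaf cE20))) (BT.node 24 (BT.node 22 (BT.node 21 (BT.leaf cE21) (BT.leaf cE22)) (BT.node 23 (BT.leaf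 cE23) (BT.leaf cE24))) (BT.node 26 (BT.node 25 (BT.leaf cE25) (BT.leaf cE26)) (BT.leaf cE27))))) (BT.node 41 (BT.node 34 (BT.node 31 (BT.node 29 (BT.node 28 (BT.leaf cE28) (BT.leaf cE29)) (BT.node 30 (BT.leaf cE30) (BT.leaf cE31))) (BT.node 33 (BT.node 32 (BT.leaf cE32) (BT.leaf cE33)) (BT.leaf cE34))) (BT.node 38 (BT.node 36 (BT.node 35 (BT.leaf cE35) (BT.leaf cE36)) (BT.node 37 (BT.leaf cE37) (BT.leaf cE38))) (BT.node 40 (BT.node 39 (BT.leaf cE39) (BT.leaf cE40)) (BT.leaf cE41)))) (BT.node 48 (BT.node 45 (BT.node 43 (BT.node 42 (BT.leaf cE42) (BT.leaf cE43)) (BT.node 44 (BT.leaf cE44) (BT.leaf cE45))) (BT.node 47 (BT.node 46 (BT.leaf cE46) (BT.leaf cE47)) (BT.leaf cE48))) (BT.node 52 (BT.node 50 (BT.node 49 (BT.leaf cE49) (BT.leaf cE50)) (BT.node 51 (BT.leaf cE51) (BT.leaf cE52))) (BT.node 54 (BT.node 53 (BT.leaf cE53) (BT.leaf cE54))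 (BT.leaf cE55)))))) (BT.node 83 (BT.node 69 (BT.node 62 (BT.node 59 (BT.node 57 (BT.node 56 (BT.leaf cE56) (BT.leaf cE57)) (BT.node 58 (BT.leaf cE58) (BT.leaf cE59))) (BT.node 61 (BT.node 60 (BT.leaf cE60) (BT.leaf cE61)) (BT.leaf cE62))) (BT.node 66 (BT.node 64 (BT.node 63 (BT.leaf cE63) (BT.leaf cE64)) (BT.node 65 (BT.leaf cE65) (BT.leaf cE66))) (BT.node 68 (BT.node 67 (BT.leaf cE67) (BT.leaf cE68)) (BT.leaf cE69)))) (BT.node 76 (BT.node 73 (BT.node 71 (BT.node 70 (BT.leaf cE70) (BT.leaf cE71)) (BT.node 72 (BT.leaf cE72) (BT.leaf cE73))) (BT.node 75 (BT.node 74 (BT.leaf cE74) (BT.leaf cE75)) (BT.leaf cE76))) (BT.node 80 (BT.node 78 (BT.node 77 (BT.leaf cE77) (BT.leaf cE78)) (BT.node 79 (BT.leaf cE79) (BT.leaf cE80))) (BT.node 82 (BT.node 81 (BT.leaf cE81) (BT.leaf cE82)) (BT.leaf cE83))))) (BT.node 97 (BT.node 90 (BT.node 87 (BT.node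 85 (BT.node 84 (BT.leaf cE84) (BT.leaf cE85)) (BT.node 86 (BT.leaf cE86) (BT.leaf cE87))) (BT.node 89 (BT.node 88 (BT.leaf cE88) (BT.leaf cE89)) (BT.leaf cE90))) (BT.node 94 (BT.node 92 (BT.node 91 (BT.leaf cE91) (BT.leaf cE92)) (BT.node 93 (BT.leaf cE93) (BT.leaf cE94))) (BT.node 96 (BT.node 95 (BT.leaf cE95) (BT.leaf cE96)) (BT.leaf cE97)))) (BT.node 104 (BT.node 101 (BT.node 99 (BT.node 98 (BT.leaf cE98) (BT.leaf cE99)) (BT.node 100 (BT.leaf cE100) (BT.leaf cE101))) (BT.node 103 (BT.node 102 (BT.leaf cE102) (BT.leaf cE103)) (BT.leaf cE104))) (BT.node 108 (BT.node 106 (BT.node 105 (BT.leaf cE105) (BT.leaf cE106)) (BT.node 107 (BT.leaf cE107) (BT.leaf cE108))) (BT.node 110 (BT.node 109 (BT.leaf cE109) (BT.leaf cE110)) (BT.leaf cE111))))))) (BT.node 167 (BT.node 139 (BT.node 125 (BT.node 118 (BT.node 115 (BT.node 113 (BT.node 112 (BT.leaf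 cE112) (BT.leaf cE113)) (BT.node 114 (BT.leaf cE114) (BT.leaf cE115))) (BT.node 117 (BT.node 116 (BT.leaf cE116) (BT.leaf cE117)) (BT.leaf cE118))) (BT.node 122 (BT.node 120 (BT.node 119 (BT.leaf cE119) (BT.leaf cE120)) (BT.node 121 (BT.leaf cE121) (BT.leaf cE122))) (BT.node 124 (BT.node 123 (BT.leaf cE123) (BT.leaf cE124)) (BT.leaf cE125)))) (BT.node 132 (BT.node 129 (BT.node 127 (BT.node 126 (BT.leaf cE126) (BT.leaf cE127)) (BT.node 128 (BT.leaf cE128) (BT.leaf cE129))) (BT.node 131 (BT.node 130 (BT.leaf cE130) (BT.leaf cE131)) (BT.leaf cE132))) (BT.node 136 (BT.node 134 (BT.node 133 (BT.leaf cE133) (BT.leaf cE134)) (BT.node 135 (BT.leaf cE135) (BT.leaf cE136))) (BT.node 138 (BT.node 137 (BT.leaf cE137) (BT.leaf cE138)) (BT.leaf cE139))))) (BT.node 153 (BT.node 146 (BT.node 143 (BT.node 141 (BT.node 140 (BT.leaf cE140) (BT.leaf cE141))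 (BT.node 142 (BT.leaf cE142) (BT.leaf cE143))) (BT.node 145 (BT.node 144 (BT.leaf cE144) (BT.leaf cE145)) (BT.leaf cE146))) (BT.node 150 (BT.node 148 (BT.node 147 (BT.leaf cE147) (BT.leaf cE148)) (BT.node 149 (BT.leaf cE149) (BT.leaf cE150))) (BT.node 152 (BT.node 151 (BT.leaf cE151) (BT.leaf cE152)) (BT.leaf cE153)))) (BT.node 160 (BT.node 157 (BT.node 155 (BT.node 154 (BT.leaf cE154) (BT.leaf cE155)) (BT.node 156 (BT.leaf cE156) (BT.leaf cE157))) (BT.node 159 (BT.node 158 (BT.leaf cE158) (BT.leaf cE159)) (BT.leaf cE160))) (BT.node 164 (BT.node 162 (BT.node 161 (BT.leaf cE161) (BT.leaf cE162)) (BT.node 163 (BT.leaf cE163) (BT.leaf cE164))) (BT.node 166 (BT.node 165 (BT.leaf cE165) (BT.leaf cE166)) (BT.leaf cE167)))))) (BT.node 195 (BT.node 181 (BT.node 174 (BT.node 171 (BT.node 169 (BT.node 168 (BT.leaf cE168) (BT.leaf cE169)) (BT.node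 170 (BT.leaf cE170) (BT.leaf cE171))) (BT.node 173 (BT.node 172 (BT.leaf cE172) (BT.leaf cE173)) (BT.leaf cE174))) (BT.node 178 (BT.node 176 (BT.node 175 (BT.leaf cE175) (BT.leaf cE176)) (BT.node 177 (BT.leaf cE177) (BT.leaf cE178))) (BT.node 180 (BT.node 179 (BT.leaf cE179) (BT.leaf cE180)) (BT.leaf cE181)))) (BT.node 188 (BT.node 185 (BT.node 183 (BT.node 182 (BT.leaf cE182) (BT.leaf cE183)) (BT.node 184 (BT.leaf cE184) (BT.leaf cE185))) (BT.node 187 (BT.node 186 (BT.leaf cE186) (BT.leaf cE187)) (BT.leaf cE188))) (BT.node 192 (BT.node 190 (BT.node 189 (BT.leaf cE189) (BT.leaf cE190)) (BT.node 191 (BT.leaf cE191) (BT.leaf cE192))) (BT.node 194 (BT.node 193 (BT.leaf cE193) (BT.leaf cE194)) (BT.leaf cE195))))) (BT.node 209 (BT.node 202 (BT.node 199 (BT.node 197 (BT.node 196 (BT.leaf cE196) (BT.leaf cE197)) (BT.node 198 (BT.leaf cE198) (BT.leaf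 cE199))) (BT.node 201 (BT.node 200 (BT.leaf cE200) (BT.leaf cE201)) (BT.leaf cE202))) (BT.node 206 (BT.node 204 (BT.node 203 (BT.leaf cE203) (BT.leaf cE204)) (BT.node 205 (BT.leaf cE205) (BT.leaf cE206))) (BT.node 208 (BT.node 207 (BT.leaf cE207) (BT.leaf cE208)) (BT.leaf cE209)))) (BT.node 216 (BT.node 213 (BT.node 211 (BT.node 210 (BT.leaf cE210) (BT.leaf cE211)) (BT.node 212 (BT.leaf cE212) (BT.leaf cE213))) (BT.node 215 (BT.node 214 (BT.leaf cE214) (BT.leaf cE215)) (BT.leaf cE216))) (BT.node 220 (BT.node 218 (BT.node 217 (BT.leaf cE217) (BT.leaf cE218)) (BT.node 219 (BT.leaf cE219) (BT.leaf cE220))) (BT.node 222 (BT.node 221 (BT.leaf cE221) (BT.leaf cE222)) (BT.leaf cE223))))))))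
/-- justification chunks -/
def colJT : BT ℕ := (BT.node 111 (BT.node 55 (BT.node 27 (BT.node 13 (BT.node 6 (BT.node 3 (BT.node 1 (BT.node 0 (BT.leaf cJ0) (BT.leaf cJ1)) (BT.node 2 (BT.leaf cJ2) (BT.leaf cJ3))) (BT.node 5 (BT.node 4 (BT.leaf cJ4) (BT.leaf cJ5)) (BT.leaf cJ6))) (BT.node 10 (BT.node 8 (BT.node 7 (BT.leaf cJ7) (BT.leaf cJ8)) (BT.node 9 (BT.leaf cJ9) (BT.leaf cJ10))) (BT.node 12 (BT.node 11 (BT.leaf cJ11) (BT.leaf cJ12)) (BT.leaf cJ13)))) (BT.node 20 (BT.node 17 (BT.node 15 (BT.node 14 (BT.leaf cJ14) (BT.leaf cJ15)) (BT.node 16 (BT.leaf cJ16) (BT.leaf cJ17))) (BT.node 19 (BT.node 18 (BT.leaf cJ18) (BT.leaf cJ19)) (BT.leaf cJ20))) (BT.node 24 (BT.node 22 (BT.node 21 (BT.leaf cJ21) (BT.leaf cJ22)) (BT.node 23 (BT.leaf cJ23) (BT.leaf cJ24))) (BT.node 26 (BT.node 25 (BT.leaf cJ25) (BT.leaf cJ26)) (BT.leaf cJ27))))) (BT.node 41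 (BT.node 34 (BT.node 31 (BT.node 29 (BT.node 28 (BT.leaf cJ28) (BT.leaf cJ29)) (BT.node 30 (BT.leaf cJ30) (BT.leaf cJ31))) (BT.node 33 (BT.node 32 (BT.leaf cJ32) (BT.leaf cJ33)) (BT.leaf cJ34))) (BT.node 38 (BT.node 36 (BT.node 35 (BT.leaf cJ35) (BT.leaf cJ36)) (BT.node 37 (BT.leaf cJ37) (BT.leaf cJ38))) (BT.node 40 (BT.node 39 (BT.leaf cJ39) (BT.leaf cJ40)) (BT.leaf cJ41)))) (BT.node 48 (BT.node 45 (BT.node 43 (BT.node 42 (BT.leaf cJ42) (BT.leaf cJ43)) (BT.node 44 (BT.leaf cJ44) (BT.leaf cJ45))) (BT.node 47 (BT.node 46 (BT.leaf cJ46) (BT.leaf cJ47)) (BT.leaf cJ48))) (BT.node 52 (BT.node 50 (BT.node 49 (BT.leaf cJ49) (BT.leaf cJ50)) (BT.node 51 (BT.leaf cJ51) (BT.leaf cJ52))) (BT.node 54 (BT.node 53 (BT.leaf cJ53) (BT.leaf cJ54)) (BT.leaf cJ55)))))) (BT.node 83 (BT.node 69 (BT.node 62 (BT.node 59 (BT.node 57 (BT.node 56 (BT.leaf cJ56) (BT.leaf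 cJ57)) (BT.node 58 (BT.leaf cJ58) (BT.leaf cJ59))) (BT.node 61 (BT.node 60 (BT.leaf cJ60) (BT.leaf cJ61)) (BT.leaf cJ62))) (BT.node 66 (BT.node 64 (BT.node 63 (BT.leaf cJ63) (BT.leaf cJ64)) (BT.node 65 (BT.leaf cJ65) (BT.leaf cJ66))) (BT.node 68 (BT.node 67 (BT.leaf cJ67) (BT.leaf cJ68)) (BT.leaf cJ69)))) (BT.node 76 (BT.node 73 (BT.node 71 (BT.node 70 (BT.leaf cJ70) (BT.leaf cJ71)) (BT.node 72 (BT.leaf cJ72) (BT.leaf cJ73))) (BT.node 75 (BT.node 74 (BT.leaf cJ74) (BT.leaf cJ75)) (BT.leaf cJ76))) (BT.node 80 (BT.node 78 (BT.node 77 (BT.leaf cJ77) (BT.leaf cJ78)) (BT.node 79 (BT.leaf cJ79) (BT.leaf cJ80))) (BT.node 82 (BT.node 81 (BT.leaf cJ81) (BT.leaf cJ82)) (BT.leaf cJ83))))) (BT.node 97 (BT.node 90 (BT.node 87 (BT.node 85 (BT.node 84 (BT.leaf cJ84) (BT.leaf cJ85)) (BT.node 86 (BT.leaf cJ86) (BT.leaf cJ87))) (BT.node 89 (BT.node 88 (BT.leaf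 cJ88) (BT.leaf cJ89)) (BT.leaf cJ90))) (BT.node 94 (BT.node 92 (BT.node 91 (BT.leaf cJ91) (BT.leaf cJ92)) (BT.node 93 (BT.leaf cJ93) (BT.leaf cJ94))) (BT.node 96 (BT.node 95 (BT.leaf cJ95) (BT.leaf cJ96)) (BT.leaf cJ97)))) (BT.node 104 (BT.node 101 (BT.node 99 (BT.node 98 (BT.leaf cJ98) (BT.leaf cJ99)) (BT.node 100 (BT.leaf cJ100) (BT.leaf cJ101))) (BT.node 103 (BT.node 102 (BT.leaf cJ102) (BT.leaf cJ103)) (BT.leaf cJ104))) (BT.node 108 (BT.node 106 (BT.node 105 (BT.leaf cJ105) (BT.leaf cJ106)) (BT.node 107 (BT.leaf cJ107) (BT.leaf cJ108))) (BT.node 110 (BT.node 109 (BT.leaf cJ109) (BT.leaf cJ110)) (BT.leaf cJ111))))))) (BT.node 167 (BT.node 139 (BT.node 125 (BT.node 118 (BT.node 115 (BT.node 113 (BT.node 112 (BT.leaf cJ112) (BT.leaf cJ113)) (BT.node 114 (BT.leaf cJ114) (BT.leaf cJ115))) (BT.node 117 (BT.node 116 (BT.leaf cJ116) (BT.leaf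 cJ117)) (BT.leaf cJ118))) (BT.node 122 (BT.node 120 (BT.node 119 (BT.leaf cJ119) (BT.leaf cJ120)) (BT.node 121 (BT.leaf cJ121) (BT.leaf cJ122))) (BT.node 124 (BT.node 123 (BT.leaf cJ123) (BT.leaf cJ124)) (BT.leaf cJ125)))) (BT.node 132 (BT.node 129 (BT.node 127 (BT.node 126 (BT.leaf cJ126) (BT.leaf cJ127)) (BT.node 128 (BT.leaf cJ128) (BT.leaf cJ129))) (BT.node 131 (BT.node 130 (BT.leaf cJ130) (BT.leaf cJ131)) (BT.leaf cJ132))) (BT.node 136 (BT.node 134 (BT.node 133 (BT.leaf cJ133) (BT.leaf cJ134)) (BT.node 135 (BT.leaf cJ135) (BT.leaf cJ136))) (BT.node 138 (BT.node 137 (BT.leaf cJ137) (BT.leaf cJ138)) (BT.leaf cJ139))))) (BT.node 153 (BT.node 146 (BT.node 143 (BT.node 141 (BT.node 140 (BT.leaf cJ140) (BT.leaf cJ141)) (BT.node 142 (BT.leaf cJ142) (BT.leaf cJ143))) (BT.node 145 (BT.node 144 (BT.leaf cJ144) (BT.leaf cJ145)) (BT.leaf cJ146)))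 (BT.node 150 (BT.node 148 (BT.node 147 (BT.leaf cJ147) (BT.leaf cJ148)) (BT.node 149 (BT.leaf cJ149) (BT.leaf cJ150))) (BT.node 152 (BT.node 151 (BT.leaf cJ151) (BT.leaf cJ152)) (BT.leaf cJ153)))) (BT.node 160 (BT.node 157 (BT.node 155 (BT.node 154 (BT.leaf cJ154) (BT.leaf cJ155)) (BT.node 156 (BT.leaf cJ156) (BT.leaf cJ157))) (BT.node 159 (BT.node 158 (BT.leaf cJ158) (BT.leaf cJ159)) (BT.leaf cJ160))) (BT.node 164 (BT.node 162 (BT.node 161 (BT.leaf cJ161) (BT.leaf cJ162)) (BT.node 163 (BT.leaf cJ163) (BT.leaf cJ164))) (BT.node 166 (BT.node 165 (BT.leaf cJ165) (BT.leaf cJ166)) (BT.leaf cJ167)))))) (BT.node 195 (BT.node 181 (BT.node 174 (BT.node 171 (BT.node 169 (BT.node 168 (BT.leaf cJ168) (BT.leaf cJ169)) (BT.node 170 (BT.leaf cJ170) (BT.leaf cJ171))) (BT.node 173 (BT.node 172 (BT.leaf cJ172) (BT.leaf cJ173)) (BT.leaf cJ174))) (BT.node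 178 (BT.node 176 (BT.node 175 (BT.leaf cJ175) (BT.leaf cJ176)) (BT.node 177 (BT.leaf cJ177) (BT.leaf cJ178))) (BT.node 180 (BT.node 179 (BT.leaf cJ179) (BT.leaf cJ180)) (BT.leaf cJ181)))) (BT.node 188 (BT.node 185 (BT.node 183 (BT.node 182 (BT.leaf cJ182) (BT.leaf cJ183)) (BT.node 184 (BT.leaf cJ184) (BT.leaf cJ185))) (BT.node 187 (BT.node 186 (BT.leaf cJ186) (BT.leaf cJ187)) (BT.leaf cJ188))) (BT.node 192 (BT.node 190 (BT.node 189 (BT.leaf cJ189) (BT.leaf cJ190)) (BT.node 191 (BT.leaf cJ191) (BT.leaf cJ192))) (BT.node 194 (BT.node 193 (BT.leaf cJ193) (BT.leaf cJ194)) (BT.leaf cJ195))))) (BT.node 209 (BT.node 202 (BT.node 199 (BT.node 197 (BT.node 196 (BT.leaf cJ196) (BT.leaf cJ197)) (BT.node 198 (BT.leaf cJ198) (BT.leaf cJ199))) (BT.node 201 (BT.node 200 (BT.leaf cJ200) (BT.leaf cJ201)) (BT.leaf cJ202))) (BT.node 206 (BT.node 204 (BT.node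 203 (BT.leaf cJ203) (BT.leaf cJ204)) (BT.node 205 (BT.leaf cJ205) (BT.leaf cJ206))) (BT.node 208 (BT.node 207 (BT.leaf cJ207) (BT.leaf cJ208)) (BT.leaf cJ209)))) (BT.node 216 (BT.node 213 (BT.node 211 (BT.node 210 (BT.leaf cJ210) (BT.leaf cJ211)) (BT.node 212 (BT.leaf cJ212) (BT.leaf cJ213))) (BT.node 215 (BT.node 214 (BT.leaf cJ214) (BT.leaf cJ215)) (BT.leaf cJ216))) (BT.node 220 (BT.node 218 (BT.node 217 (BT.leaf cJ217) (BT.leaf cJ218)) (BT.node 219 (BT.leaf cJ219) (BT.leaf cJ220))) (BT.node 222 (BT.node 221 (BT.leaf cJ221) (BT.leaf cJ222)) (BT.leaf cJ223))))))))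
/-- parent chunks -/
def parCT : BT ℕ := (BT.node 15 (BT.node 7 (BT.node 3 (BT.node 1 (BT.node 0 (BT.leaf cP0) (BT.leaf cP1)) (BT.node 2 (BT.leaf cP2) (BT.leaf cP3))) (BT.node 5 (BT.node 4 (BT.leaf cP4) (BT.leaf cP5)) (BT.node 6 (BT.leaf cP6) (BT.leaf cP7)))) (BT.node 11 (BT.node 9 (BT.node 8 (BT.leaf cP8) (BT.leaf cP9)) (BT.node 10 (BT.leaf cP10) (BT.leaf cP11))) (BT.node 13 (BT.node 12 (BT.leaf cP12) (BT.leaf cP13)) (BT.node 14 (BT.leaf cP14) (BT.leaf cP15))))) (BT.node 23 (BT.node 19 (BT.node 17 (BT.node 16 (BT.leaf cP16) (BT.leaf cP17)) (BT.node 18 (BT.leaf cP18) (BT.leaf cP19))) (BT.node 21 (BT.node 20 (BT.leaf cP20) (BT.leaf cP21)) (BT.node 22 (BT.leaf cP22) (BT.leaf cP23)))) (BT.node 27 (BT.node 25 (BT.node 24 (BT.leaf cP24) (BT.leaf cP25)) (BT.node 26 (BT.leaf cP26) (BT.leaf cP27))) (BT.node 29 (BT.node 28 (BT.leaf cP28) (BT.leaf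 cP29)) (BT.node 30 (BT.leaf cP30) (BT.leaf cP31))))))
/-- the certificate -/
def data : Data where
  k := 6
  N := 16282
  W := 30
  MW := 1073741824
  B := 16384
  CH := 512
  NCH := 32
  colE := colET
  JW := 64
  MJ := 18446744073709551616
  A := 1048576
  colJ := colJT
  PW := 24
  MP := 16777216
  parC := parCT
  inv := (BT.node 3 (BT.node 1 (BT.node 0 (BT.leaf 1) (BT.leaf 0)) (BT.node 2 (BT.leaf 3) (BT.leaf 2))) (BT.node 5 (BT.node 4 (BT.leaf 5) (BT.leaf 4)) (BT.leaf 6)))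
  rel := relT
  sub := subT
  fuel := 64

end Cfsg.Agent.Lib.Helper14.HNx.P0Data
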