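import Cfsg.Agent.Lib.Helper14.HNx.P0Data
set_option autoImplicit false
set_option maxRecDepth 100000
set_option maxHeartbeats 0

namespace Cfsg.Agent.Lib.Helper14.HNx.P0U1
open Cfsg.Agent.Lib.Helper28.TC2Upper Cfsg.Agent.Lib.Helper14.HNx.P0Data

theorem chk5 : data.checkRange 6263 1447 = true := by decide +kernel
theorem chk6 : data.checkRange 7710 1508 = true := by decide +kernel
theorem chk7 : data.checkRange 9218 1489 = true := by decide +kernel
theorem chk8 : data.checkRange 10707 1612 = true := by decide +kernel
theorem chk9 : data.checkRange 12319 1649 = true := by decide +kernel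

end Cfsg.Agent.Lib.Helper14.HNx.P0U1
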