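import Cfsg.Agent.Lib.Helper28.TC2Glue
import Cfsg.Agent.Lib.Helper28.TC2Range
import Cfsg.Agent.Lib.Helper14.HNx.P0Link
import Cfsg.Agent.Lib.Helper14.HNx.P0M0
import Cfsg.Agent.Lib.Helper14.HNx.P0M1
import Cfsg.Agent.Lib.Helper14.HNx.P0U0
import Cfsg.Agent.Lib.Helper14.HNx.P0U1
import Cfsg.Agent.Lib.Helper14.HNx.P0U2

set_option autoImplicit false
set_option maxRecDepth 100000
open Cfsg

namespace Cfsg.Agent.Lib.Helper14.HNx.P0MainU
open Cfsg.Agent.Lib.Helper28.TC2Upper Cfsg.Agent.Lib.Helper28.TC2Lower Cfsg.Agent.Lib.Helper28.TC2Glue Cfsg.Agent.Lib.Helper28.TC2Range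
open Cfsg.Agent.Lib.Helper14.HNx.P0Data Cfsg.Agent.Lib.Helper14.HNx.P0Table Cfsg.Agent.Lib.Helper14.HNx.P0Link

theorem hchk : ∀ v, v < data.N → data.checkNode v = true := by
  intro v hv
  have hv' : v < 16282 := hv
  rcases Nat.lt_or_ge v 1016 with h0 | h0
  · exact (data.checkRange_iff 0 1016).mp Cfsg.Agent.Lib.Helper14.HNx.P0U0.chk0 v (by omega) (by omega)
  rcases Nat.lt_or_ge v 2205 with h1 | h1
  · exact (data.checkRange_iff 1016 1189).mp Cfsg.Agent.Lib.Helper14.HNx.P0U0.chk1 v (by omega) (by omega)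
  rcases Nat.lt_or_ge v 3482 with h2 | h2
  · exact (data.checkRange_iff 2205 1277).mp Cfsg.Agent.Lib.Helper14.HNx.P0U0.chk2 v (by omega) (by omega)
  rcases Nat.lt_or_ge v 4877 with h3 | h3
  · exact (data.checkRange_iff 3482 1395).mp Cfsg.Agent.Lib.Helper14.HNx.P0U0.chk3 v (by omega) (by omega)
  rcases Nat.lt_or_ge v 6263 with h4 | h4
  · exact (data.checkRange_iff 4877 1386).mp Cfsg.Agent.Lib.Helper14.HNx.P0U0.chk4 v (by omega) (by omega)
  rcases Nat.lt_or_ge v 7710 with h5 | h5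
  · exact (data.checkRange_iff 6263 1447).mp Cfsg.Agent.Lib.Helper14.HNx.P0U1.chk5 v (by omega) (by omega)
  rcases Nat.lt_or_ge v 9218 with h6 | h6
  · exact (data.checkRange_iff 7710 1508).mp Cfsg.Agent.Lib.Helper14.HNx.P0U1.chk6 v (by omega) (by omega)
  rcases Nat.lt_or_ge v 10707 with h7 | h7
  · exact (data.checkRange_iff 9218 1489).mp Cfsg.Agent.Lib.Helper14.HNx.P0U1.chk7 v (by omega) (by omega)
  rcases Nat.lt_or_ge v 12319 with h8 | h8
  · exact (data.checkRange_iff 10707 1612).mp Cfsg.Agent.Lib.Helper14.HNx.P0U1.chk8 v (by omega) (by omega)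
  rcases Nat.lt_or_ge v 13968 with h9 | h9
  · exact (data.checkRange_iff 12319 1649).mp Cfsg.Agent.Lib.Helper14.HNx.P0U1.chk9 v (by omega) (by omega)
  rcases Nat.lt_or_ge v 15778 with h10 | h10
  · exact (data.checkRange_iff 13968 1810).mp Cfsg.Agent.Lib.Helper14.HNx.P0U2.chk10 v (by omega) (by omega)
  exact (data.checkRange_iff 15778 504).mp Cfsg.Agent.Lib.Helper14.HNx.P0U2.chk11 v (by omega) (by omega)

theorem hrows : ∀ v, v < data.N → Data.rowOK data v = true := by
  intro v hv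
  have hv' : v < 16282 := hv
  rcases Nat.lt_or_ge v 6000 with h0 | h0
  · exact (Data.finalRange_iff data 0 6000).mp Cfsg.Agent.Lib.Helper14.HNx.P0M0.fin0 v (by omega) (by omega)
  rcases Nat.lt_or_ge v 12000 with h1 | h1
  · exact (Data.finalRange_iff data 6000 6000).mp Cfsg.Agent.Lib.Helper14.HNx.P0M0.fin1 v (by omega) (by omega)
  exact (Data.finalRange_iff data 12000 4282).mp Cfsg.Agent.Lib.Helper14.HNx.P0M0.fin2 v (by omega) (by omega)

theorem hfin : data.finalOK = true := Data.finalOK_of_rows data Cfsg.Agent.Lib.Helper14.HNx.P0M0.hlive0 (by decide) hrows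

theorem pc0 : Data.countFrom data 0 6000 = 352 := Cfsg.Agent.Lib.Helper14.HNx.P0M0.cnt0
theorem pc1 : Data.countFrom data 0 12000 = 352 := Data.countFrom_step data pc0 Cfsg.Agent.Lib.Helper14.HNx.P0M1.cnt1 (by norm_num) (by norm_num)
theorem pc2 : Data.countFrom data 0 16282 = 352 := Data.countFrom_step data pc1 Cfsg.Agent.Lib.Helper14.HNx.P0M1.cnt2 (by norm_num) (by norm_num)

theorem hcount : data.countLive = 352 := by
  rw [Data.countLive_eq]
  exact pc2

/-- the number of cosets is at most `352` -/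
theorem mainU : Finite (PresentedGroup rels ⧸ (Subgroup.closure S).map (PresentedGroup.mk rels)) ∧
    Nat.card (PresentedGroup rels ⧸ (Subgroup.closure S).map (PresentedGroup.mk rels)) ≤ 352 := by
  have h := upper link hchk hfin
  rw [hcount] at h
  exact h

end Cfsg.Agent.Lib.Helper14.HNx.P0MainU
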