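import Cfsg.Agent.Lib.Helper28.TC2Upper
import Cfsg.Agent.Lib.Helper14.HNx.Q0DataC0
import Cfsg.Agent.Lib.Helper14.HNx.Q0DataC1
import Cfsg.Agent.Lib.Helper14.HNx.Q0DataC2
import Cfsg.Agent.Lib.Helper14.HNx.Q0DataC3
import Cfsg.Agent.Lib.Helper14.HNx.Q0DataC4
import Cfsg.Agent.Lib.Helper14.HNx.Q0DataC5
import Cfsg.Agent.Lib.Helper14.HNx.Q0DataC6
import Cfsg.Agent.Lib.Helper14.HNx.Q0DataC7
import Cfsg.Agent.Lib.Helper14.HNx.Q0DataC8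
import Cfsg.Agent.Lib.Helper14.HNx.Q0DataC9
import Cfsg.Agent.Lib.Helper14.HNx.Q0DataC10
import Cfsg.Agent.Lib.Helper14.HNx.Q0DataC11
import Cfsg.Agent.Lib.Helper14.HNx.Q0DataC12
import Cfsg.Agent.Lib.Helper14.HNx.Q0DataC13
set_option autoImplicit false
set_option maxRecDepth 100000

namespace Cfsg.Agent.Lib.Helper14.HNx.Q0Data
open Cfsg.Agent.Lib.Helper28.TC2Upper

/-- relators -/
def relT : BT (ℕ × List ℕ × List ℕ) := (BT.node 2 (BT.node 1 (BT.node 0 (BT.leaf (6, [2, 2, 2, 2, 2, 2], [3, 3, 3, 3, 3, 3])) (BT.leaf (6, [3, 0, 0, 2, 0, 0], [1, 1, 3, 1, 1, 2]))) (BT.leaf (12, [2, 0, 3, 1, 2, 0, 3, 1, 2, 0, 3, 1], [0, 2, 1, 3, 0, 2, 1, 3, 0, 2, 1, 3]))) (BT.node 4 (BT.node 3 (BT.leaf (21, [2, 2, 2, 0, 2, 2, 1, 2, 2, 2, 0, 2, 2, 1, 2, 2, 2, 0, 2, 2, 1], [0, 3, 3, 1, 3, 3, 3, 0, 3, 3, 1, 3, 3, 3, 0, 3, 3, 1, 3, 3, 3])) (BT.leaf (16, [2, 0, 2, 0, 2, 0, 2, 0, 2, 0,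 2, 0, 2, 0, 2, 0], [1, 3, 1, 3, 1, 3, 1, 3, 1, 3, 1, 3, 1, 3, 1, 3]))) (BT.leaf (24, [2, 2, 2, 0, 2, 0, 2, 2, 2, 0, 2, 0, 2, 2, 2, 0, 2, 0, 2, 2, 2, 0, 2, 0], [1, 3, 1, 3, 3, 3, 1, 3, 1, 3, 3, 3, 1, 3, 1, 3, 3, 3, 1, 3, 1, 3, 3, 3]))))
/-- subgroup generators -/
def subT : BT (ℕ × List ℕ × List ℕ) := (BT.leaf (1, [2], [3]))
/-- fact chunks -/
def colET : BT ℕ := (BT.node 2644 (BT.node 1322 (BT.node 661 (BT.node 330 (BT.node 165 (BT.node 82 (BT.node 41 (BT.node 20 (BT.node 10 (BT.node 5 (BT.node 2 (BT.node 1 (BT.node 0 (BT.leaf cE0) (BT.leaf cE1)) (BT.leaf cE2)) (BT.node 4 (BT.node 3 (BT.leaf cE3) (BT.leaf cE4)) (BT.leaf cE5))) (BT.node 8 (BT.node 7 (BT.node 6 (BT.leaf cE6) (BT.leaf cE7)) (BT.leaf cE8)) (BT.node 9 (BT.leaf cE9) (BT.leaf cE10)))) (BT.node 15 (BT.node 13 (BT.node 12 (BT.node 11 (BT.leaf cE11) (BT.leaf cE12)) (BT.leaf cE13)) (BT.node 14 (BT.leaf cE14) (BT.leaf cE15))) (BT.node 18 (BT.node 17 (BT.node 16 (BT.leaf cE16) (BT.leaf cE17)) (BT.leaf cE18)) (BT.node 19 (BT.leaf cE19) (BT.leaf cE20))))) (BT.node 31 (BT.node 26 (BT.node 23 (BT.node 22 (BT.node 21 (BT.leaf cE21) (BT.leaf cE22)) (BT.leaf cE23)) (BT.node 25 (BT.node 24 (BT.leaf cE24) (BT.leaf cE25)) (BT.leaf cE26))) (BT.node 29 (BT.node 28 (BT.node 27 (BT.leaf cE27) (BT.leaf cE28)) (BT.leaf cE29)) (BT.node 30 (BT.leaf cE30) (BT.leaf cE31)))) (BT.node 36 (BT.node 34 (BT.node 33 (BT.node 32 (BT.leaf cE32) (BT.leaf cE33)) (BT.leaf cE34)) (BT.node 35 (BT.leaf cE35) (BT.leaf cE36))) (BT.node 39 (BT.node 38 (BT.node 37 (BT.leaf cE37) (BT.leaf cE38)) (BT.leaf cE39)) (BT.node 40 (BT.leaf cE40) (BT.leaf cE41)))))) (BT.node 62 (BT.node 52 (BT.node 47 (BT.node 44 (BT.node 43 (BT.node 42 (BT.leaf cE42) (BT.leaf cE43)) (BT.leaf cE44)) (BT.node 46 (BT.node 45 (BT.leaf cE45) (BT.leaf cE46)) (BT.leaf cE47))) (BT.node 50 (BT.node 49 (BT.node 48 (BT.leaf cE48) (BT.leaf cE49)) (BT.leaf cE50)) (BT.node 51 (BT.leaf cE51) (BT.leaf cE52)))) (BT.node 57 (BT.node 55 (BT.node 54 (BT.node 53 (BT.leaf cE53) (BT.leaf cE54)) (BT.leaf cE55)) (BT.node 56 (BT.leaf cE56) (BT.leaf cE57))) (BT.node 60 (BT.node 59 (BT.node 58 (BT.leaf cE58) (BT.leaf cE59)) (BT.leaf cE60)) (BT.node 61 (BT.leaf cE61) (BT.leaf cE62))))) (BT.node 72 (BT.node 67 (BT.node 65 (BT.node 64 (BT.node 63 (BT.leaf cE63) (BT.leaf cE64)) (BT.leaf cE65)) (BT.node 66 (BT.leaf cE66) (BT.leaf cE67))) (BT.node 70 (BT.node 69 (BT.node 68 (BT.leaf cE68) (BT.leaf cE69)) (BT.leaf cE70)) (BT.node 71 (BT.leaf cE71) (BT.leaf cE72)))) (BT.node 77 (BT.node 75 (BT.node 74 (BT.node 73 (BT.leaf cE73) (BT.leaf cE74)) (BT.leaf cE75)) (BT.node 76 (BT.leaf cE76) (BT.leaf cE77))) (BT.node 80 (BT.node 79 (BT.node 78 (BT.leaf cE78) (BT.leaf cE79)) (BT.leaf cE80)) (BT.node 81 (BT.leaf cE81) (BT.leaf cE82))))))) (BT.node 124 (BT.node 103 (BT.node 93 (BT.node 88 (BT.node 85 (BT.node 84 (BT.node 83 (BT.leaf cE83) (BT.leaf cE84)) (BT.leaf cE85)) (BT.node 87 (BT.node 86 (BT.leaf cE86) (BT.leaf cE87)) (BT.leaf cE88))) (BT.node 91 (BT.node 90 (BT.node 89 (BT.leaf cE89) (BT.leaf cE90)) (BT.leaf cE91)) (BT.node 92 (BT.leaf cE92) (BT.leaf cE93)))) (BT.node 98 (BT.node 96 (BT.node 95 (BT.node 94 (BT.leaf cE94) (BT.leaf cE95)) (BT.leaf cE96)) (BT.node 97 (BT.leaf cE97) (BT.leaf cE98))) (BT.node 101 (BT.node 100 (BT.node 99 (BT.leaf cE99) (BT.leaf cE100)) (BT.leaf cE101)) (BT.node 102 (BT.leaf cE102) (BT.leaf cE103))))) (BT.node 114 (BT.node 109 (BT.node 106 (BT.node 105 (BT.node 104 (BT.leaf cE104) (BT.leaf cE105)) (BT.leaf cE106)) (BT.node 108 (BT.node 107 (BT.leaf cE107) (BT.leaf cE108)) (BT.leaf cE109))) (BT.node 112 (BT.node 111 (BT.node 110 (BT.leaf cE110) (BT.leaf cE111)) (BT.leaf cE112)) (BT.node 113 (BT.leaf cE113) (BT.leaf cE114)))) (BT.node 119 (BT.node 117 (BT.node 116 (BT.node 115 (BT.leaf cE115) (BT.leaf cE116)) (BT.leaf cE117)) (BT.node 118 (BT.leaf cE118) (BT.leaf cE119))) (BT.node 122 (BT.node 121 (BT.node 120 (BT.leaf cE120) (BT.leaf cE121)) (BT.leaf cE122)) (BT.node 123 (BT.leaf cE123) (BT.leaf cE124)))))) (BT.node 145 (BT.node 135 (BT.node 130 (BT.node 127 (BT.node 126 (BT.node 125 (BT.leaf cE125) (BT.leaf cE126)) (BT.leaf cE127)) (BT.node 129 (BT.node 128 (BT.leaf cE128) (BT.leaf cE129)) (BT.leaf cE130))) (BT.node 133 (BT.node 132 (BT.node 131 (BT.leaf cE131) (BT.leaf cE132)) (BT.leaf cE133)) (BT.node 134 (BT.leaf cE134) (BT.leaf cE135)))) (BT.node 140 (BT.node 138 (BT.node 137 (BT.node 136 (BT.leaf cE136) (BT.leaf cE137)) (BT.leaf cE138)) (BT.node 139 (BT.leaf cE139) (BT.leaf cE140))) (BT.node 143 (BT.node 142 (BT.node 141 (BT.leaf cE141) (BT.leaf cE142)) (BT.leaf cE143)) (BT.node 144 (BT.leaf cE144) (BT.leaf cE145))))) (BT.node 155 (BT.node 150 (BT.node 148 (BT.node 147 (BT.node 146 (BT.leaf cE146) (BT.leaf cE147)) (BT.leaf cE148)) (BT.node 149 (BT.leaf cE149) (BT.leaf cE150))) (BT.node 153 (BT.node 152 (BT.node 151 (BT.leaf cE151) (BT.leaf cE152)) (BT.leaf cE153)) (BT.node 154 (BT.leaf cE154) (BT.leaf cE155)))) (BT.node 160 (BT.node 158 (BT.node 157 (BT.node 156 (BT.leaf cE156) (BT.leaf cE157)) (BT.leaf cE158)) (BT.node 159 (BT.leaf cE159) (BT.leaf cE160))) (BT.node 163 (BT.node 162 (BT.node 161 (BT.leaf cE161) (BT.leaf cE162)) (BT.leaf cE163)) (BT.node 164 (BT.leaf cE164) (BT.leaf cE165)))))))) (BT.node 248 (BT.node 207 (BT.node 186 (BT.node 176 (BT.node 171 (BT.node 168 (BT.node 167 (BT.node 166 (BT.leaf cE166) (BT.leaf cE167)) (BT.leaf cE168)) (BT.node 170 (BT.node 169 (BT.leaf cE169) (BT.leaf cE170)) (BT.leaf cE171))) (BT.node 174 (BT.node 173 (BT.node 172 (BT.leaf cE172) (BT.leaf cE173)) (BT.leaf cE174)) (BT.node 175 (BT.leaf cE175) (BT.leaf cE176)))) (BT.node 181 (BT.node 179 (BT.node 178 (BT.node 177 (BT.leaf cE177) (BT.leaf cE178)) (BT.leaf cE179)) (BT.node 180 (BT.leaf cE180) (BT.leaf cE181))) (BT.node 184 (BT.node 183 (BT.node 182 (BT.leaf cE182) (BT.leaf cE183)) (BT.leaf cE184)) (BT.node 185 (BT.leaf cE185) (BT.leaf cE186))))) (BT.node 197 (BT.node 192 (BT.node 189 (BT.node 188 (BT.node 187 (BT.leaf cE187) (BT.leaf cE188)) (BT.leaf cE189)) (BT.node 191 (BT.node 190 (BT.leaf cE190) (BT.leaf cE191)) (BT.leaf cE192))) (BT.node 195 (BT.node 194 (BT.node 193 (BT.leaf cE193) (BT.leaf cE194)) (BT.leaf cE195)) (BT.node 196 (BT.leaf cE196) (BT.leaf cE197)))) (BT.node 202 (BT.node 200 (BT.node 199 (BT.node 198 (BT.leaf cE198) (BT.leaf cE199)) (BT.leaf cE200)) (BT.node 201 (BT.leaf cE201) (BT.leaf cE202))) (BT.node 205 (BT.node 204 (BT.node 203 (BT.leaf cE203) (BT.leaf cE204)) (BT.leaf cE205)) (BT.node 206 (BT.leaf cE206) (BT.leaf cE207)))))) (BT.node 228 (BT.node 218 (BT.node 213 (BT.node 210 (BT.node 209 (BT.node 208 (BT.leaf cE208) (BT.leaf cE209)) (BT.leaf cE210)) (BT.node 212 (BT.node 211 (BT.leaf cE211) (BT.leaf cE212)) (BT.leaf cE213))) (BT.node 216 (BT.node 215 (BT.node 214 (BT.leaf cE214) (BT.leaf cE215)) (BT.leaf cE216)) (BT.node 217 (BT.leaf cE217) (BT.leaf cE218)))) (BT.node 223 (BT.node 221 (BT.node 220 (BT.node 219 (BT.leaf cE219) (BT.leaf cE220)) (BT.leaf cE221)) (BT.node 222 (BT.leaf cE222) (BT.leaf cE223))) (BT.node 226 (BT.node 225 (BT.node 224 (BT.leaf cE224) (BT.leaf cE225)) (BT.leaf cE226)) (BT.node 227 (BT.leaf cE227) (BT.leaf cE228))))) (BT.node 238 (BT.node 233 (BT.node 231 (BT.node 230 (BT.node 229 (BT.leaf cE229) (BT.leaf cE230)) (BT.leaf cE231)) (BT.node 232 (BT.leaf cE232) (BT.leaf cE233))) (BT.node 236 (BT.node 235 (BT.node 234 (BT.leaf cE234) (BT.leaf cE235)) (BT.leaf cE236)) (BT.node 237 (BT.leaf cE237) (BT.leaf cE238)))) (BT.node 243 (BT.node 241 (BT.node 240 (BT.node 239 (BT.leaf cE239) (BT.leaf cE240)) (BT.leaf cE241)) (BT.node 242 (BT.leaf cE242) (BT.leaf cE243))) (BT.node 246 (BT.node 245 (BT.node 244 (BT.leaf cE244) (BT.leaf cE245)) (BT.leaf cE246)) (BT.node 247 (BT.leaf cE247) (BT.leaf cE248))))))) (BT.node 289 (BT.node 269 (BT.node 259 (BT.node 254 (BT.node 251 (BT.node 250 (BT.node 249 (BT.leaf cE249) (BT.leaf cE250)) (BT.leaf cE251)) (BT.node 253 (BT.node 252 (BT.leaf cE252) (BT.leaf cE253)) (BT.leaf cE254))) (BT.node 257 (BT.node 256 (BT.node 255 (BT.leaf cE255) (BT.leaf cE256)) (BT.leaf cE257)) (BT.node 258 (BT.leaf cE258) (BT.leaf cE259)))) (BT.node 264 (BT.node 262 (BT.node 261 (BT.node 260 (BT.leaf cE260) (BT.leaf cE261)) (BT.leaf cE262)) (BT.node 263 (BT.leaf cE263) (BT.leaf cE264))) (BT.node 267 (BT.node 266 (BT.node 265 (BT.leaf cE265) (BT.leaf cE266)) (BT.leaf cE267)) (BT.node 268 (BT.leaf cE268) (BT.leaf cE269))))) (BT.node 279 (BT.node 274 (BT.node 272 (BT.node 271 (BT.node 270 (BT.leaf cE270) (BT.leaf cE271)) (BT.leaf cE272)) (BT.node 273 (BT.leaf cE273) (BT.leaf cE274))) (BT.node 277 (BT.node 276 (BT.node 275 (BT.leaf cE275) (BT.leaf cE276)) (BT.leaf cE277)) (BT.node 278 (BT.leaf cE278) (BT.leaf cE279)))) (BT.node 284 (BT.node 282 (BT.node 281 (BT.node 280 (BT.leaf cE280) (BT.leaf cE281)) (BT.leaf cE282)) (BT.node 283 (BT.leaf cE283) (BT.leaf cE284))) (BT.node 287 (BT.node 286 (BT.node 285 (BT.leaf cE285) (BT.leaf cE286)) (BT.leaf cE287)) (BT.node 288 (BT.leaf cE288) (BT.leaf cE289)))))) (BT.node 310 (BT.node 300 (BT.node 295 (BT.node 292 (BT.node 291 (BT.node 290 (BT.leaf cE290) (BT.leaf cE291)) (BT.leaf cE292)) (BT.node 294 (BT.node 293 (BT.leaf cE293) (BT.leaf cE294)) (BT.leaf cE295))) (BT.node 298 (BT.node 297 (BT.node 296 (BT.leaf cE296) (BT.leaf cE297)) (BT.leaf cE298)) (BT.node 299 (BT.leaf cE299) (BT.leaf cE300)))) (BT.node 305 (BT.node 303 (BT.node 302 (BT.node 301 (BT.leaf cE301) (BT.leaf cE302)) (BT.leaf cE303)) (BT.node 304 (BT.leaf cE304) (BT.leaf cE305))) (BT.node 308 (BT.node 307 (BT.node 306 (BT.leaf cE306) (BT.leaf cE307)) (BT.leaf cE308)) (BT.node 309 (BT.leaf cE309) (BT.leaf cE310))))) (BT.node 320 (BT.node 315 (BT.node 313 (BT.node 312 (BT.node 311 (BT.leaf cE311) (BT.leaf cE312)) (BT.leaf cE313)) (BT.node 314 (BT.leaf cE314) (BT.leaf cE315))) (BT.node 318 (BT.node 317 (BT.node 316 (BT.leaf cE316) (BT.leaf cE317)) (BT.leaf cE318)) (BT.node 319 (BT.leaf cE319) (BT.leaf cE320)))) (BT.node 325 (BT.node 323 (BT.node 322 (BT.node 321 (BT.leaf cE321) (BT.leaf cE322)) (BT.leaf cE323)) (BT.node 324 (BT.leaf cE324) (BT.leaf cE325))) (BT.node 328 (BT.node 327 (BT.node 326 (BT.leaf cE326) (BT.leaf cE327)) (BT.leaf cE328)) (BT.node 329 (BT.leaf cE329) (BT.leaf cE330))))))))) (BT.node 496 (BT.node 413 (BT.node 372 (BT.node 351 (BT.node 341 (BT.node 336 (BT.node 333 (BT.node 332 (BT.node 331 (BT.leaf cE331) (BT.leaf cE332)) (BT.leaf cE333)) (BT.node 335 (BT.node 334 (BT.leaf cE334) (BT.leaf cE335)) (BT.leaf cE336))) (BT.node 339 (BT.node 338 (BT.node 337 (BT.leaf cE337) (BT.leaf cE338)) (BT.leaf cE339)) (BT.node 340 (BT.leaf cE340) (BT.leaf cE341)))) (BT.node 346 (BT.node 344 (BT.node 343 (BT.node 342 (BT.leaf cE342) (BT.leaf cE343)) (BT.leaf cE344)) (BT.node 345 (BT.leaf cE345) (BT.leaf cE346))) (BT.node 349 (BT.node 348 (BT.node 347 (BT.leaf cE347) (BT.leaf cE348)) (BT.leaf cE349)) (BT.node 350 (BT.leaf cE350) (BT.leaf cE351))))) (BT.node 362 (BT.node 357 (BT.node 354 (BT.node 353 (BT.node 352 (BT.leaf cE352) (BT.leaf cE353)) (BT.leaf cE354)) (BT.node 356 (BT.node 355 (BT.leaf cE355) (BT.leaf cE356)) (BT.leaf cE357))) (BT.node 360 (BT.node 359 (BT.node 358 (BT.leaf cE358) (BT.leaf cE359)) (BT.leaf cE360)) (BT.node 361 (BT.leaf cE361) (BT.leaf cE362)))) (BT.node 367 (BT.node 365 (BT.node 364 (BT.node 363 (BT.leaf cE363) (BT.leaf cE364)) (BT.leaf cE365)) (BT.node 366 (BT.leaf cE366) (BT.leaf cE367))) (BT.node 370 (BT.node 369 (BT.node 368 (BT.leaf cE368) (BT.leaf cE369)) (BT.leaf cE370)) (BT.node 371 (BT.leaf cE371) (BT.leaf cE372)))))) (BT.node 393 (BT.node 383 (BT.node 378 (BT.node 375 (BT.node 374 (BT.node 373 (BT.leaf cE373) (BT.leaf cE374)) (BT.leaf cE375)) (BT.node 377 (BT.node 376 (BT.leaf cE376) (BT.leaf cE377)) (BT.leaf cE378))) (BT.node 381 (BT.node 380 (BT.node 379 (BT.leaf cE379) (BT.leaf cE380)) (BT.leaf cE381)) (BT.node 382 (BT.leaf cE382) (BT.leaf cE383)))) (BT.node 388 (BT.node 386 (BT.node 385 (BT.node 384 (BT.leaf cE384) (BT.leaf cE385)) (BT.leaf cE386)) (BT.node 387 (BT.leaf cE387) (BT.leaf cE388))) (BT.node 391 (BT.node 390 (BT.node 389 (BT.leaf cE389) (BT.leaf cE390)) (BT.leaf cE391)) (BT.node 392 (BT.leaf cE392) (BT.leaf cE393))))) (BT.node 403 (BT.node 398 (BT.node 396 (BT.node 395 (BT.node 394 (BT.leaf cE394) (BT.leaf cE395)) (BT.leaf cE396)) (BT.node 397 (BT.leaf cE397) (BT.leaf cE398))) (BT.node 401 (BT.node 400 (BT.node 399 (BT.leaf cE399) (BT.leaf cE400)) (BT.leaf cE401)) (BT.node 402 (BT.leaf cE402) (BT.leaf cE403)))) (BT.node 408 (BT.node 406 (BT.node 405 (BT.node 404 (BT.leaf cE404) (BT.leaf cE405)) (BT.leaf cE406)) (BT.node 407 (BT.leaf cE407) (BT.leaf cE408))) (BT.node 411 (BT.node 410 (BT.node 409 (BT.leaf cE409) (BT.leaf cE410)) (BT.leaf cE411)) (BT.node 412 (BT.leaf cE412) (BT.leaf cE413))))))) (BT.node 455 (BT.node 434 (BT.node 424 (BT.node 419 (BT.node 416 (BT.node 415 (BT.node 414 (BT.leaf cE414) (BT.leaf cE415)) (BT.leaf cE416)) (BT.node 418 (BT.node 417 (BT.leaf cE417) (BT.leaf cE418)) (BT.leaf cE419))) (BT.node 422 (BT.node 421 (BT.node 420 (BT.leaf cE420) (BT.leaf cE421)) (BT.leaf cE422)) (BT.node 423 (BT.leaf cE423) (BT.leaf cE424)))) (BT.node 429 (BT.node 427 (BT.node 426 (BT.node 425 (BT.leaf cE425) (BT.leaf cE426)) (BT.leaf cE427)) (BT.node 428 (BT.leaf cE428) (BT.leaf cE429))) (BT.node 432 (BT.node 431 (BT.node 430 (BT.leaf cE430) (BT.leaf cE431)) (BT.leaf cE432)) (BT.node 433 (BT.leaf cE433) (BT.leaf cE434))))) (BT.node 445 (BT.node 440 (BT.node 437 (BT.node 436 (BT.node 435 (BT.leaf cE435) (BT.leaf cE436)) (BT.leaf cE437)) (BT.node 439 (BT.node 438 (BT.leaf cE438) (BT.leaf cE439)) (BT.leaf cE440))) (BT.node 443 (BT.node 442 (BT.node 441 (BT.leaf cE441) (BT.leaf cE442)) (BT.leaf cE443)) (BT.node 444 (BT.leaf cE444) (BT.leaf cE445)))) (BT.node 450 (BT.node 448 (BT.node 447 (BT.node 446 (BT.leaf cE446) (BT.leaf cE447)) (BT.leaf cE448)) (BT.node 449 (BT.leaf cE449) (BT.leaf cE450))) (BT.node 453 (BT.node 452 (BT.node 451 (BT.leaf cE451) (BT.leaf cE452)) (BT.leaf cE453)) (BT.node 454 (BT.leaf cE454) (BT.leaf cE455)))))) (BT.node 476 (BT.node 466 (BT.node 461 (BT.node 458 (BT.node 457 (BT.node 456 (BT.leaf cE456) (BT.leaf cE457)) (BT.leaf cE458)) (BT.node 460 (BT.node 459 (BT.leaf cE459) (BT.leaf cE460)) (BT.leaf cE461))) (BT.node 464 (BT.node 463 (BT.node 462 (BT.leaf cE462) (BT.leaf cE463)) (BT.leaf cE464)) (BT.node 465 (BT.leaf cE465) (BT.leaf cE466)))) (BT.node 471 (BT.node 469 (BT.node 468 (BT.node 467 (BT.leaf cE467) (BT.leaf cE468)) (BT.leaf cE469)) (BT.node 470 (BT.leaf cE470) (BT.leaf cE471))) (BT.node 474 (BT.node 473 (BT.node 472 (BT.leaf cE472) (BT.leaf cE473)) (BT.leaf cE474)) (BT.node 475 (BT.leaf cE475) (BT.leaf cE476))))) (BT.node 486 (BT.node 481 (BT.node 479 (BT.node 478 (BT.node 477 (BT.leaf cE477) (BT.leaf cE478)) (BT.leaf cE479)) (BT.node 480 (BT.leaf cE480) (BT.leaf cE481))) (BT.node 484 (BT.node 483 (BT.node 482 (BT.leaf cE482) (BT.leaf cE483)) (BT.leaf cE484)) (BT.node 485 (BT.leaf cE485) (BT.leaf cE486)))) (BT.node 491 (BT.node 489 (BT.node 488 (BT.node 487 (BT.leaf cE487) (BT.leaf cE488)) (BT.leaf cE489)) (BT.node 490 (BT.leaf cE490) (BT.leaf cE491))) (BT.node 494 (BT.node 493 (BT.node 492 (BT.leaf cE492) (BT.leaf cE493)) (BT.leaf cE494)) (BT.node 495 (BT.leaf cE495) (BT.leaf cE496)))))))) (BT.node 579 (BT.node 538 (BT.node 517 (BT.node 507 (BT.node 502 (BT.node 499 (BT.node 498 (BT.node 497 (BT.leaf cE497) (BT.leaf cE498)) (BT.leaf cE499)) (BT.node 501 (BT.node 500 (BT.leaf cE500) (BT.leaf cE501)) (BT.leaf cE502))) (BT.node 505 (BT.node 504 (BT.node 503 (BT.leaf cE503) (BT.leaf cE504)) (BT.leaf cE505)) (BT.node 506 (BT.leaf cE506) (BT.leaf cE507)))) (BT.node 512 (BT.node 510 (BT.node 509 (BT.node 508 (BT.leaf cE508) (BT.leaf cE509)) (BT.leaf cE510)) (BT.node 511 (BT.leaf cE511) (BT.leaf cE512))) (BT.node 515 (BT.node 514 (BT.node 513 (BT.leaf cE513) (BT.leaf cE514)) (BT.leaf cE515)) (BT.node 516 (BT.leaf cE516) (BT.leaf cE517))))) (BT.node 528 (BT.node 523 (BT.node 520 (BT.node 519 (BT.node 518 (BT.leaf cE518) (BT.leaf cE519)) (BT.leaf cE520)) (BT.node 522 (BT.node 521 (BT.leaf cE521) (BT.leaf cE522)) (BT.leaf cE523))) (BT.node 526 (BT.node 525 (BT.node 524 (BT.leaf cE524) (BT.leaf cE525)) (BT.leaf cE526)) (BT.node 527 (BT.leaf cE527) (BT.leaf cE528)))) (BT.node 533 (BT.node 531 (BT.node 530 (BT.node 529 (BT.leaf cE529) (BT.leaf cE530)) (BT.leaf cE531)) (BT.node 532 (BT.leaf cE532) (BT.leaf cE533))) (BT.node 536 (BT.node 535 (BT.node 534 (BT.leaf cE534) (BT.leaf cE535)) (BT.leaf cE536)) (BT.node 537 (BT.leaf cE537) (BT.leaf cE538)))))) (BT.node 559 (BT.node 549 (BT.node 544 (BT.node 541 (BT.node 540 (BT.node 539 (BT.leaf cE539) (BT.leaf cE540)) (BT.leaf cE541)) (BT.node 543 (BT.node 542 (BT.leaf cE542) (BT.leaf cE543)) (BT.leaf cE544))) (BT.node 547 (BT.node 546 (BT.node 545 (BT.leaf cE545) (BT.leaf cE546)) (BT.leaf cE547)) (BT.node 548 (BT.leaf cE548) (BT.leaf cE549)))) (BT.node 554 (BT.node 552 (BT.node 551 (BT.node 550 (BT.leaf cE550) (BT.leaf cE551)) (BT.leaf cE552)) (BT.node 553 (BT.leaf cE553) (BT.leaf cE554))) (BT.node 557 (BT.node 556 (BT.node 555 (BT.leaf cE555) (BT.leaf cE556)) (BT.leaf cE557)) (BT.node 558 (BT.leaf cE558) (BT.leaf cE559))))) (BT.node 569 (BT.node 564 (BT.node 562 (BT.node 561 (BT.node 560 (BT.leaf cE560) (BT.leaf cE561)) (BT.leaf cE562)) (BT.node 563 (BT.leaf cE563) (BT.leaf cE564))) (BT.node 567 (BT.node 566 (BT.node 565 (BT.leaf cE565) (BT.leaf cE566)) (BT.leaf cE567)) (BT.node 568 (BT.leaf cE568) (BT.leaf cE569)))) (BT.node 574 (BT.node 572 (BT.node 571 (BT.node 570 (BT.leaf cE570) (BT.leaf cE571)) (BT.leaf cE572)) (BT.node 573 (BT.leaf cE573) (BT.leaf cE574))) (BT.node 577 (BT.node 576 (BT.node 575 (BT.leaf cE575) (BT.leaf cE576)) (BT.leaf cE577)) (BT.node 578 (BT.leaf cE578) (BT.leaf cE579))))))) (BT.node 620 (BT.node 600 (BT.node 590 (BT.node 585 (BT.node 582 (BT.node 581 (BT.node 580 (BT.leaf cE580) (BT.leaf cE581)) (BT.leaf cE582)) (BT.node 584 (BT.node 583 (BT.leaf cE583) (BT.leaf cE584)) (BT.leaf cE585))) (BT.node 588 (BT.node 587 (BT.node 586 (BT.leaf cE586) (BT.leaf cE587)) (BT.leaf cE588)) (BT.node 589 (BT.leaf cE589) (BT.leaf cE590)))) (BT.node 595 (BT.node 593 (BT.node 592 (BT.node 591 (BT.leaf cE591) (BT.leaf cE592)) (BT.leaf cE593)) (BT.node 594 (BT.leaf cE594) (BT.leaf cE595))) (BT.node 598 (BT.node 597 (BT.node 596 (BT.leaf cE596) (BT.leaf cE597)) (BT.leaf cE598)) (BT.node 599 (BT.leaf cE599) (BT.leaf cE600))))) (BT.node 610 (BT.node 605 (BT.node 603 (BT.node 602 (BT.node 601 (BT.leaf cE601) (BT.leaf cE602)) (BT.leaf cE603)) (BT.node 604 (BT.leaf cE604) (BT.leaf cE605))) (BT.node 608 (BT.node 607 (BT.node 606 (BT.leaf cE606) (BT.leaf cE607)) (BT.leaf cE608)) (BT.node 609 (BT.leaf cE609) (BT.leaf cE610)))) (BT.node 615 (BT.node 613 (BT.node 612 (BT.node 611 (BT.leaf cE611) (BT.leaf cE612)) (BT.leaf cE613)) (BT.node 614 (BT.leaf cE614) (BT.leaf cE615))) (BT.node 618 (BT.node 617 (BT.node 616 (BT.leaf cE616) (BT.leaf cE617)) (BT.leaf cE618)) (BT.node 619 (BT.leaf cE619) (BT.leaf cE620)))))) (BT.node 641 (BT.node 631 (BT.node 626 (BT.node 623 (BT.node 622 (BT.node 621 (BT.leaf cE621) (BT.leaf cE622)) (BT.leaf cE623)) (BT.node 625 (BT.node 624 (BT.leaf cE624) (BT.leaf cE625)) (BT.leaf cE626))) (BT.node 629 (BT.node 628 (BT.node 627 (BT.leaf cE627) (BT.leaf cE628)) (BT.leaf cE629)) (BT.node 630 (BT.leaf cE630) (BT.leaf cE631)))) (BT.node 636 (BT.node 634 (BT.node 633 (BT.node 632 (BT.leaf cE632) (BT.leaf cE633)) (BT.leaf cE634)) (BT.node 635 (BT.leaf cE635) (BT.leaf cE636))) (BT.node 639 (BT.node 638 (BT.node 637 (BT.leaf cE637) (BT.leaf cE638)) (BT.leaf cE639)) (BT.node 640 (BT.leaf cE640) (BT.leaf cE641))))) (BT.node 651 (BT.node 646 (BT.node 644 (BT.node 643 (BT.node 642 (BT.leaf cE642) (BT.leaf cE643)) (BT.leaf cE644)) (BT.node 645 (BT.leaf cE645) (BT.leaf cE646))) (BT.node 649 (BT.node 648 (BT.node 647 (BT.leaf cE647) (BT.leaf cE648)) (BT.leaf cE649)) (BT.node 650 (BT.leaf cE650) (BT.leaf cE651)))) (BT.node 656 (BT.node 654 (BT.node 653 (BT.node 652 (BT.leaf cE652) (BT.leaf cE653)) (BT.leaf cE654)) (BT.node 655 (BT.leaf cE655) (BT.leaf cE656))) (BT.node 659 (BT.node 658 (BT.node 657 (BT.leaf cE657) (BT.leaf cE658)) (BT.leaf cE659)) (BT.node 660 (BT.leaf cE660) (BT.leaf cE661)))))))))) (BT.node 992 (BT.node 827 (BT.node 744 (BT.node 703 (BT.node 682 (BT.node 672 (BT.node 667 (BT.node 664 (BT.node 663 (BT.node 662 (BT.leaf cE662) (BT.leaf cE663)) (BT.leaf cE664)) (BT.node 666 (BT.node 665 (BT.leaf cE665) (BT.leaf cE666)) (BT.leaf cE667))) (BT.node 670 (BT.node 669 (BT.node 668 (BT.leaf cE668) (BT.leaf cE669)) (BT.leaf cE670)) (BT.node 671 (BT.leaf cE671) (BT.leaf cE672)))) (BT.node 677 (BT.node 675 (BT.node 674 (BT.node 673 (BT.leaf cE673) (BT.leaf cE674)) (BT.leaf cE675)) (BT.node 676 (BT.leaf cE676) (BT.leaf cE677))) (BT.node 680 (BT.node 679 (BT.node 678 (BT.leaf cE678) (BT.leaf cE679)) (BT.leaf cE680)) (BT.node 681 (BT.leaf cE681) (BT.leaf cE682))))) (BT.node 693 (BT.node 688 (BT.node 685 (BT.node 684 (BT.node 683 (BT.leaf cE683) (BT.leaf cE684)) (BT.leaf cE685)) (BT.node 687 (BT.node 686 (BT.leaf cE686) (BT.leaf cE687)) (BT.leaf cE688))) (BT.node 691 (BT.node 690 (BT.node 689 (BT.leaf cE689) (BT.leaf cE690)) (BT.leaf cE691)) (BT.node 692 (BT.leaf cE692) (BT.leaf cE693)))) (BT.node 698 (BT.node 696 (BT.node 695 (BT.node 694 (BT.leaf cE694) (BT.leaf cE695)) (BT.leaf cE696)) (BT.node 697 (BT.leaf cE697) (BT.leaf cE698))) (BT.node 701 (BT.node 700 (BT.node 699 (BT.leaf cE699) (BT.leaf cE700)) (BT.leaf cE701)) (BT.node 702 (BT.leaf cE702) (BT.leaf cE703)))))) (BT.node 724 (BT.node 714 (BT.node 709 (BT.node 706 (BT.node 705 (BT.node 704 (BT.leaf cE704) (BT.leaf cE705)) (BT.leaf cE706)) (BT.node 708 (BT.node 707 (BT.leaf cE707) (BT.leaf cE708)) (BT.leaf cE709))) (BT.node 712 (BT.node 711 (BT.node 710 (BT.leaf cE710) (BT.leaf cE711)) (BT.leaf cE712)) (BT.node 713 (BT.leaf cE713) (BT.leaf cE714)))) (BT.node 719 (BT.node 717 (BT.node 716 (BT.node 715 (BT.leaf cE715) (BT.leaf cE716)) (BT.leaf cE717)) (BT.node 718 (BT.leaf cE718) (BT.leaf cE719))) (BT.node 722 (BT.node 721 (BT.node 720 (BT.leaf cE720) (BT.leaf cE721)) (BT.leaf cE722)) (BT.node 723 (BT.leaf cE723) (BT.leaf cE724))))) (BT.node 734 (BT.node 729 (BT.node 727 (BT.node 726 (BT.node 725 (BT.leaf cE725) (BT.leaf cE726)) (BT.leaf cE727)) (BT.node 728 (BT.leaf cE728) (BT.leaf cE729))) (BT.node 732 (BT.node 731 (BT.node 730 (BT.leaf cE730) (BT.leaf cE731)) (BT.leaf cE732)) (BT.node 733 (BT.leaf cE733) (BT.leaf cE734)))) (BT.node 739 (BT.node 737 (BT.node 736 (BT.node 735 (BT.leaf cE735) (BT.leaf cE736)) (BT.leaf cE737)) (BT.node 738 (BT.leaf cE738) (BT.leaf cE739))) (BT.node 742 (BT.node 741 (BT.node 740 (BT.leaf cE740) (BT.leaf cE741)) (BT.leaf cE742)) (BT.node 743 (BT.leaf cE743) (BT.leaf cE744))))))) (BT.node 786 (BT.node 765 (BT.node 755 (BT.node 750 (BT.node 747 (BT.node 746 (BT.node 745 (BT.leaf cE745) (BT.leaf cE746)) (BT.leaf cE747)) (BT.node 749 (BT.node 748 (BT.leaf cE748) (BT.leaf cE749)) (BT.leaf cE750))) (BT.node 753 (BT.node 752 (BT.node 751 (BT.leaf cE751) (BT.leaf cE752)) (BT.leaf cE753)) (BT.node 754 (BT.leaf cE754) (BT.leaf cE755)))) (BT.node 760 (BT.node 758 (BT.node 757 (BT.node 756 (BT.leaf cE756) (BT.leaf cE757)) (BT.leaf cE758)) (BT.node 759 (BT.leaf cE759) (BT.leaf cE760))) (BT.node 763 (BT.node 762 (BT.node 761 (BT.leaf cE761) (BT.leaf cE762)) (BT.leaf cE763)) (BT.node 764 (BT.leaf cE764) (BT.leaf cE765))))) (BT.node 776 (BT.node 771 (BT.node 768 (BT.node 767 (BT.node 766 (BT.leaf cE766) (BT.leaf cE767)) (BT.leaf cE768)) (BT.node 770 (BT.node 769 (BT.leaf cE769) (BT.leaf cE770)) (BT.leaf cE771))) (BT.node 774 (BT.node 773 (BT.node 772 (BT.leaf cE772) (BT.leaf cE773)) (BT.leaf cE774)) (BT.node 775 (BT.leaf cE775) (BT.leaf cE776)))) (BT.node 781 (BT.node 779 (BT.node 778 (BT.node 777 (BT.leaf cE777) (BT.leaf cE778)) (BT.leaf cE779)) (BT.node 780 (BT.leaf cE780) (BT.leaf cE781))) (BT.node 784 (BT.node 783 (BT.node 782 (BT.leaf cE782) (BT.leaf cE783)) (BT.leaf cE784)) (BT.node 785 (BT.leaf cE785) (BT.leaf cE786)))))) (BT.node 807 (BT.node 797 (BT.node 792 (BT.node 789 (BT.node 788 (BT.node 787 (BT.leaf cE787) (BT.leaf cE788)) (BT.leaf cE789)) (BT.node 791 (BT.node 790 (BT.leaf cE790) (BT.leaf cE791)) (BT.leaf cE792))) (BT.node 795 (BT.node 794 (BT.node 793 (BT.leaf cE793) (BT.leaf cE794)) (BT.leaf cE795)) (BT.node 796 (BT.leaf cE796) (BT.leaf cE797)))) (BT.node 802 (BT.node 800 (BT.node 799 (BT.node 798 (BT.leaf cE798) (BT.leaf cE799)) (BT.leaf cE800)) (BT.node 801 (BT.leaf cE801) (BT.leaf cE802))) (BT.node 805 (BT.node 804 (BT.node 803 (BT.leaf cE803) (BT.leaf cE804)) (BT.leaf cE805)) (BT.node 806 (BT.leaf cE806) (BT.leaf cE807))))) (BT.node 817 (BT.node 812 (BT.node 810 (BT.node 809 (BT.node 808 (BT.leaf cE808) (BT.leaf cE809)) (BT.leaf cE810)) (BT.node 811 (BT.leaf cE811) (BT.leaf cE812))) (BT.node 815 (BT.node 814 (BT.node 813 (BT.leaf cE813) (BT.leaf cE814)) (BT.leaf cE815)) (BT.node 816 (BT.leaf cE816) (BT.leaf cE817)))) (BT.node 822 (BT.node 820 (BT.node 819 (BT.node 818 (BT.leaf cE818) (BT.leaf cE819)) (BT.leaf cE820)) (BT.node 821 (BT.leaf cE821) (BT.leaf cE822))) (BT.node 825 (BT.node 824 (BT.node 823 (BT.leaf cE823) (BT.leaf cE824)) (BT.leaf cE825)) (BT.node 826 (BT.leaf cE826) (BT.leaf cE827)))))))) (BT.node 910 (BT.node 869 (BT.node 848 (BT.node 838 (BT.node 833 (BT.node 830 (BT.node 829 (BT.node 828 (BT.leaf cE828) (BT.leaf cE829)) (BT.leaf cE830)) (BT.node 832 (BT.node 831 (BT.leaf cE831) (BT.leaf cE832)) (BT.leaf cE833))) (BT.node 836 (BT.node 835 (BT.node 834 (BT.leaf cE834) (BT.leaf cE835)) (BT.leaf cE836)) (BT.node 837 (BT.leaf cE837) (BT.leaf cE838)))) (BT.node 843 (BT.node 841 (BT.node 840 (BT.node 839 (BT.leaf cE839) (BT.leaf cE840)) (BT.leaf cE841)) (BT.node 842 (BT.leaf cE842) (BT.leaf cE843))) (BT.node 846 (BT.node 845 (BT.node 844 (BT.leaf cE844) (BT.leaf cE845)) (BT.leaf cE846)) (BT.node 847 (BT.leaf cE847) (BT.leaf cE848))))) (BT.node 859 (BT.node 854 (BT.node 851 (BT.node 850 (BT.node 849 (BT.leaf cE849) (BT.leaf cE850)) (BT.leaf cE851)) (BT.node 853 (BT.node 852 (BT.leaf cE852) (BT.leaf cE853)) (BT.leaf cE854))) (BT.node 857 (BT.node 856 (BT.node 855 (BT.leaf cE855) (BT.leaf cE856)) (BT.leaf cE857)) (BT.node 858 (BT.leaf cE858) (BT.leaf cE859)))) (BT.node 864 (BT.node 862 (BT.node 861 (BT.node 860 (BT.leaf cE860) (BT.leaf cE861)) (BT.leaf cE862)) (BT.node 863 (BT.leaf cE863) (BT.leaf cE864))) (BT.node 867 (BT.node 866 (BT.node 865 (BT.leaf cE865) (BT.leaf cE866)) (BT.leaf cE867)) (BT.node 868 (BT.leaf cE868) (BT.leaf cE869)))))) (BT.node 890 (BT.node 880 (BT.node 875 (BT.node 872 (BT.node 871 (BT.node 870 (BT.leaf cE870) (BT.leaf cE871)) (BT.leaf cE872)) (BT.node 874 (BT.node 873 (BT.leaf cE873) (BT.leaf cE874)) (BT.leaf cE875))) (BT.node 878 (BT.node 877 (BT.node 876 (BT.leaf cE876) (BT.leaf cE877)) (BT.leaf cE878)) (BT.node 879 (BT.leaf cE879) (BT.leaf cE880)))) (BT.node 885 (BT.node 883 (BT.node 882 (BT.node 881 (BT.leaf cE881) (BT.leaf cE882)) (BT.leaf cE883)) (BT.node 884 (BT.leaf cE884) (BT.leaf cE885))) (BT.node 888 (BT.node 887 (BT.node 886 (BT.leaf cE886) (BT.leaf cE887)) (BT.leaf cE888)) (BT.node 889 (BT.leaf cE889) (BT.leaf cE890))))) (BT.node 900 (BT.node 895 (BT.node 893 (BT.node 892 (BT.node 891 (BT.leaf cE891) (BT.leaf cE892)) (BT.leaf cE893)) (BT.node 894 (BT.leaf cE894) (BT.leaf cE895))) (BT.node 898 (BT.node 897 (BT.node 896 (BT.leaf cE896) (BT.leaf cE897)) (BT.leaf cE898)) (BT.node 899 (BT.leaf cE899) (BT.leaf cE900)))) (BT.node 905 (BT.node 903 (BT.node 902 (BT.node 901 (BT.leaf cE901) (BT.leaf cE902)) (BT.leaf cE903)) (BT.node 904 (BT.leaf cE904) (BT.leaf cE905))) (BT.node 908 (BT.node 907 (BT.node 906 (BT.leaf cE906) (BT.leaf cE907)) (BT.leaf cE908)) (BT.node 909 (BT.leaf cE909) (BT.leaf cE910))))))) (BT.node 951 (BT.node 931 (BT.node 921 (BT.node 916 (BT.node 913 (BT.node 912 (BT.node 911 (BT.leaf cE911) (BT.leaf cE912)) (BT.leaf cE913)) (BT.node 915 (BT.node 914 (BT.leaf cE914) (BT.leaf cE915)) (BT.leaf cE916))) (BT.node 919 (BT.node 918 (BT.node 917 (BT.leaf cE917) (BT.leaf cE918)) (BT.leaf cE919)) (BT.node 920 (BT.leaf cE920) (BT.leaf cE921)))) (BT.node 926 (BT.node 924 (BT.node 923 (BT.node 922 (BT.leaf cE922) (BT.leaf cE923)) (BT.leaf cE924)) (BT.node 925 (BT.leaf cE925) (BT.leaf cE926))) (BT.node 929 (BT.node 928 (BT.node 927 (BT.leaf cE927) (BT.leaf cE928)) (BT.leaf cE929)) (BT.node 930 (BT.leaf cE930) (BT.leaf cE931))))) (BT.node 941 (BT.node 936 (BT.node 934 (BT.node 933 (BT.node 932 (BT.leaf cE932) (BT.leaf cE933)) (BT.leaf cE934)) (BT.node 935 (BT.leaf cE935) (BT.leaf cE936))) (BT.node 939 (BT.node 938 (BT.node 937 (BT.leaf cE937) (BT.leaf cE938)) (BT.leaf cE939)) (BT.node 940 (BT.leaf cE940) (BT.leaf cE941)))) (BT.node 946 (BT.node 944 (BT.node 943 (BT.node 942 (BT.leaf cE942) (BT.leaf cE943)) (BT.leaf cE944)) (BT.node 945 (BT.leaf cE945) (BT.leaf cE946))) (BT.node 949 (BT.node 948 (BT.node 947 (BT.leaf cE947) (BT.leaf cE948)) (BT.leaf cE949)) (BT.node 950 (BT.leaf cE950) (BT.leaf cE951)))))) (BT.node 972 (BT.node 962 (BT.node 957 (BT.node 954 (BT.node 953 (BT.node 952 (BT.leaf cE952) (BT.leaf cE953)) (BT.leaf cE954)) (BT.node 956 (BT.node 955 (BT.leaf cE955) (BT.leaf cE956)) (BT.leaf cE957))) (BT.node 960 (BT.node 959 (BT.node 958 (BT.leaf cE958) (BT.leaf cE959)) (BT.leaf cE960)) (BT.node 961 (BT.leaf cE961) (BT.leaf cE962)))) (BT.node 967 (BT.node 965 (BT.node 964 (BT.node 963 (BT.leaf cE963) (BT.leaf cE964)) (BT.leaf cE965)) (BT.node 966 (BT.leaf cE966) (BT.leaf cE967))) (BT.node 970 (BT.node 969 (BT.node 968 (BT.leaf cE968) (BT.leaf cE969)) (BT.leaf cE970)) (BT.node 971 (BT.leaf cE971) (BT.leaf cE972))))) (BT.node 982 (BT.node 977 (BT.node 975 (BT.node 974 (BT.node 973 (BT.leaf cE973) (BT.leaf cE974)) (BT.leaf cE975)) (BT.node 976 (BT.leaf cE976) (BT.leaf cE977))) (BT.node 980 (BT.node 979 (BT.node 978 (BT.leaf cE978) (BT.leaf cE979)) (BT.leaf cE980)) (BT.node 981 (BT.leaf cE981) (BT.leaf cE982)))) (BT.node 987 (BT.node 985 (BT.node 984 (BT.node 983 (BT.leaf cE983) (BT.leaf cE984)) (BT.leaf cE985)) (BT.node 986 (BT.leaf cE986) (BT.leaf cE987))) (BT.node 990 (BT.node 989 (BT.node 988 (BT.leaf cE988) (BT.leaf cE989)) (BT.leaf cE990)) (BT.node 991 (BT.leaf cE991) (BT.leaf cE992))))))))) (BT.node 1157 (BT.node 1075 (BT.node 1034 (BT.node 1013 (BT.node 1003 (BT.node 998 (BT.node 995 (BT.node 994 (BT.node 993 (BT.leaf cE993) (BT.leaf cE994)) (BT.leaf cE995)) (BT.node 997 (BT.node 996 (BT.leaf cE996) (BT.leaf cE997)) (BT.leaf cE998))) (BT.node 1001 (BT.node 1000 (BT.node 999 (BT.leaf cE999) (BT.leaf cE1000)) (BT.leaf cE1001)) (BT.node 1002 (BT.leaf cE1002) (BT.leaf cE1003)))) (BT.node 1008 (BT.node 1006 (BT.node 1005 (BT.node 1004 (BT.leaf cE1004) (BT.leaf cE1005)) (BT.leaf cE1006)) (BT.node 1007 (BT.leaf cE1007) (BT.leaf cE1008))) (BT.node 1011 (BT.node 1010 (BT.node 1009 (BT.leaf cE1009) (BT.leaf cE1010)) (BT.leaf cE1011)) (BT.node 1012 (BT.leaf cE1012) (BT.leaf cE1013))))) (BT.node 1024 (BT.node 1019 (BT.node 1016 (BT.node 1015 (BT.node 1014 (BT.leaf cE1014) (BT.leaf cE1015)) (BT.leaf cE1016)) (BT.node 1018 (BT.node 1017 (BT.leaf cE1017) (BT.leaf cE1018)) (BT.leaf cE1019))) (BT.node 1022 (BT.node 1021 (BT.node 1020 (BT.leaf cE1020) (BT.leaf cE1021)) (BT.leaf cE1022)) (BT.node 1023 (BT.leaf cE1023) (BT.leaf cE1024)))) (BT.node 1029 (BT.node 1027 (BT.node 1026 (BT.node 1025 (BT.leaf cE1025) (BT.leaf cE1026)) (BT.leaf cE1027)) (BT.node 1028 (BT.leaf cE1028) (BT.leaf cE1029))) (BT.node 1032 (BT.node 1031 (BT.node 1030 (BT.leaf cE1030) (BT.leaf cE1031)) (BT.leaf cE1032)) (BT.node 1033 (BT.leaf cE1033) (BT.leaf cE1034)))))) (BT.node 1055 (BT.node 1045 (BT.node 1040 (BT.node 1037 (BT.node 1036 (BT.node 1035 (BT.leaf cE1035) (BT.leaf cE1036)) (BT.leaf cE1037)) (BT.node 1039 (BT.node 1038 (BT.leaf cE1038) (BT.leaf cE1039)) (BT.leaf cE1040))) (BT.node 1043 (BT.node 1042 (BT.node 1041 (BT.leaf cE1041) (BT.leaf cE1042)) (BT.leaf cE1043)) (BT.node 1044 (BT.leaf cE1044) (BT.leaf cE1045)))) (BT.node 1050 (BT.node 1048 (BT.node 1047 (BT.node 1046 (BT.leaf cE1046) (BT.leaf cE1047)) (BT.leaf cE1048)) (BT.node 1049 (BT.leaf cE1049) (BT.leaf cE1050))) (BT.node 1053 (BT.node 1052 (BT.node 1051 (BT.leaf cE1051) (BT.leaf cE1052)) (BT.leaf cE1053)) (BT.node 1054 (BT.leaf cE1054) (BT.leaf cE1055))))) (BT.node 1065 (BT.node 1060 (BT.node 1058 (BT.node 1057 (BT.node 1056 (BT.leaf cE1056) (BT.leaf cE1057)) (BT.leaf cE1058)) (BT.node 1059 (BT.leaf cE1059) (BT.leaf cE1060))) (BT.node 1063 (BT.node 1062 (BT.node 1061 (BT.leaf cE1061) (BT.leaf cE1062)) (BT.leaf cE1063)) (BT.node 1064 (BT.leaf cE1064) (BT.leaf cE1065)))) (BT.node 1070 (BT.node 1068 (BT.node 1067 (BT.node 1066 (BT.leaf cE1066) (BT.leaf cE1067)) (BT.leaf cE1068)) (BT.node 1069 (BT.leaf cE1069) (BT.leaf cE1070))) (BT.node 1073 (BT.node 1072 (BT.node 1071 (BT.leaf cE1071) (BT.leaf cE1072)) (BT.leaf cE1073)) (BT.node 1074 (BT.leaf cE1074) (BT.leaf cE1075))))))) (BT.node 1116 (BT.node 1096 (BT.node 1086 (BT.node 1081 (BT.node 1078 (BT.node 1077 (BT.node 1076 (BT.leaf cE1076) (BT.leaf cE1077)) (BT.leaf cE1078)) (BT.node 1080 (BT.node 1079 (BT.leaf cE1079) (BT.leaf cE1080)) (BT.leaf cE1081))) (BT.node 1084 (BT.node 1083 (BT.node 1082 (BT.leaf cE1082) (BT.leaf cE1083)) (BT.leaf cE1084)) (BT.node 1085 (BT.leaf cE1085) (BT.leaf cE1086)))) (BT.node 1091 (BT.node 1089 (BT.node 1088 (BT.node 1087 (BT.leaf cE1087) (BT.leaf cE1088)) (BT.leaf cE1089)) (BT.node 1090 (BT.leaf cE1090) (BT.leaf cE1091))) (BT.node 1094 (BT.node 1093 (BT.node 1092 (BT.leaf cE1092) (BT.leaf cE1093)) (BT.leaf cE1094)) (BT.node 1095 (BT.leaf cE1095) (BT.leaf cE1096))))) (BT.node 1106 (BT.node 1101 (BT.node 1099 (BT.node 1098 (BT.node 1097 (BT.leaf cE1097) (BT.leaf cE1098)) (BT.leaf cE1099)) (BT.node 1100 (BT.leaf cE1100) (BT.leaf cE1101))) (BT.node 1104 (BT.node 1103 (BT.node 1102 (BT.leaf cE1102) (BT.leaf cE1103)) (BT.leaf cE1104)) (BT.node 1105 (BT.leaf cE1105) (BT.leaf cE1106)))) (BT.node 1111 (BT.node 1109 (BT.node 1108 (BT.node 1107 (BT.leaf cE1107) (BT.leaf cE1108)) (BT.leaf cE1109)) (BT.node 1110 (BT.leaf cE1110) (BT.leaf cE1111))) (BT.node 1114 (BT.node 1113 (BT.node 1112 (BT.leaf cE1112) (BT.leaf cE1113)) (BT.leaf cE1114)) (BT.node 1115 (BT.leaf cE1115) (BT.leaf cE1116)))))) (BT.node 1137 (BT.node 1127 (BT.node 1122 (BT.node 1119 (BT.node 1118 (BT.node 1117 (BT.leaf cE1117) (BT.leaf cE1118)) (BT.leaf cE1119)) (BT.node 1121 (BT.node 1120 (BT.leaf cE1120) (BT.leaf cE1121)) (BT.leaf cE1122))) (BT.node 1125 (BT.node 1124 (BT.node 1123 (BT.leaf cE1123) (BT.leaf cE1124)) (BT.leaf cE1125)) (BT.node 1126 (BT.leaf cE1126) (BT.leaf cE1127)))) (BT.node 1132 (BT.node 1130 (BT.node 1129 (BT.node 1128 (BT.leaf cE1128) (BT.leaf cE1129)) (BT.leaf cE1130)) (BT.node 1131 (BT.leaf cE1131) (BT.leaf cE1132))) (BT.node 1135 (BT.node 1134 (BT.node 1133 (BT.leaf cE1133) (BT.leaf cE1134)) (BT.leaf cE1135)) (BT.node 1136 (BT.leaf cE1136) (BT.leaf cE1137))))) (BT.node 1147 (BT.node 1142 (BT.node 1140 (BT.node 1139 (BT.node 1138 (BT.leaf cE1138) (BT.leaf cE1139)) (BT.leaf cE1140)) (BT.node 1141 (BT.leaf cE1141) (BT.leaf cE1142))) (BT.node 1145 (BT.node 1144 (BT.node 1143 (BT.leaf cE1143) (BT.leaf cE1144)) (BT.leaf cE1145)) (BT.node 1146 (BT.leaf cE1146) (BT.leaf cE1147)))) (BT.node 1152 (BT.node 1150 (BT.node 1149 (BT.node 1148 (BT.leaf cE1148) (BT.leaf cE1149)) (BT.leaf cE1150)) (BT.node 1151 (BT.leaf cE1151) (BT.leaf cE1152))) (BT.node 1155 (BT.node 1154 (BT.node 1153 (BT.leaf cE1153) (BT.leaf cE1154)) (BT.leaf cE1155)) (BT.node 1156 (BT.leaf cE1156) (BT.leaf cE1157)))))))) (BT.node 1240 (BT.node 1199 (BT.node 1178 (BT.node 1168 (BT.node 1163 (BT.node 1160 (BT.node 1159 (BT.node 1158 (BT.leaf cE1158) (BT.leaf cE1159)) (BT.leaf cE1160)) (BT.node 1162 (BT.node 1161 (BT.leaf cE1161) (BT.leaf cE1162)) (BT.leaf cE1163))) (BT.node 1166 (BT.node 1165 (BT.node 1164 (BT.leaf cE1164) (BT.leaf cE1165)) (BT.leaf cE1166)) (BT.node 1167 (BT.leaf cE1167) (BT.leaf cE1168)))) (BT.node 1173 (BT.node 1171 (BT.node 1170 (BT.node 1169 (BT.leaf cE1169) (BT.leaf cE1170)) (BT.leaf cE1171)) (BT.node 1172 (BT.leaf cE1172) (BT.leaf cE1173))) (BT.node 1176 (BT.node 1175 (BT.node 1174 (BT.leaf cE1174) (BT.leaf cE1175)) (BT.leaf cE1176)) (BT.node 1177 (BT.leaf cE1177) (BT.leaf cE1178))))) (BT.node 1189 (BT.node 1184 (BT.node 1181 (BT.node 1180 (BT.node 1179 (BT.leaf cE1179) (BT.leaf cE1180)) (BT.leaf cE1181)) (BT.node 1183 (BT.node 1182 (BT.leaf cE1182) (BT.leaf cE1183)) (BT.leaf cE1184))) (BT.node 1187 (BT.node 1186 (BT.node 1185 (BT.leaf cE1185) (BT.leaf cE1186)) (BT.leaf cE1187)) (BT.node 1188 (BT.leaf cE1188) (BT.leaf cE1189)))) (BT.node 1194 (BT.node 1192 (BT.node 1191 (BT.node 1190 (BT.leaf cE1190) (BT.leaf cE1191)) (BT.leaf cE1192)) (BT.node 1193 (BT.leaf cE1193) (BT.leaf cE1194))) (BT.node 1197 (BT.node 1196 (BT.node 1195 (BT.leaf cE1195) (BT.leaf cE1196)) (BT.leaf cE1197)) (BT.node 1198 (BT.leaf cE1198) (BT.leaf cE1199)))))) (BT.node 1220 (BT.node 1210 (BT.node 1205 (BT.node 1202 (BT.node 1201 (BT.node 1200 (BT.leaf cE1200) (BT.leaf cE1201)) (BT.leaf cE1202)) (BT.node 1204 (BT.node 1203 (BT.leaf cE1203) (BT.leaf cE1204)) (BT.leaf cE1205))) (BT.node 1208 (BT.node 1207 (BT.node 1206 (BT.leaf cE1206) (BT.leaf cE1207)) (BT.leaf cE1208)) (BT.node 1209 (BT.leaf cE1209) (BT.leaf cE1210)))) (BT.node 1215 (BT.node 1213 (BT.node 1212 (BT.node 1211 (BT.leaf cE1211) (BT.leaf cE1212)) (BT.leaf cE1213)) (BT.node 1214 (BT.leaf cE1214) (BT.leaf cE1215))) (BT.node 1218 (BT.node 1217 (BT.node 1216 (BT.leaf cE1216) (BT.leaf cE1217)) (BT.leaf cE1218)) (BT.node 1219 (BT.leaf cE1219) (BT.leaf cE1220))))) (BT.node 1230 (BT.node 1225 (BT.node 1223 (BT.node 1222 (BT.node 1221 (BT.leaf cE1221) (BT.leaf cE1222)) (BT.leaf cE1223)) (BT.node 1224 (BT.leaf cE1224) (BT.leaf cE1225))) (BT.node 1228 (BT.node 1227 (BT.node 1226 (BT.leaf cE1226) (BT.leaf cE1227)) (BT.leaf cE1228)) (BT.node 1229 (BT.leaf cE1229) (BT.leaf cE1230)))) (BT.node 1235 (BT.node 1233 (BT.node 1232 (BT.node 1231 (BT.leaf cE1231) (BT.leaf cE1232)) (BT.leaf cE1233)) (BT.node 1234 (BT.leaf cE1234) (BT.leaf cE1235))) (BT.node 1238 (BT.node 1237 (BT.node 1236 (BT.leaf cE1236) (BT.leaf cE1237)) (BT.leaf cE1238)) (BT.node 1239 (BT.leaf cE1239) (BT.leaf cE1240))))))) (BT.node 1281 (BT.node 1261 (BT.node 1251 (BT.node 1246 (BT.node 1243 (BT.node 1242 (BT.node 1241 (BT.leaf cE1241) (BT.leaf cE1242)) (BT.leaf cE1243)) (BT.node 1245 (BT.node 1244 (BT.leaf cE1244) (BT.leaf cE1245)) (BT.leaf cE1246))) (BT.node 1249 (BT.node 1248 (BT.node 1247 (BT.leaf cE1247) (BT.leaf cE1248)) (BT.leaf cE1249)) (BT.node 1250 (BT.leaf cE1250) (BT.leaf cE1251)))) (BT.node 1256 (BT.node 1254 (BT.node 1253 (BT.node 1252 (BT.leaf cE1252) (BT.leaf cE1253)) (BT.leaf cE1254)) (BT.node 1255 (BT.leaf cE1255) (BT.leaf cE1256))) (BT.node 1259 (BT.node 1258 (BT.node 1257 (BT.leaf cE1257) (BT.leaf cE1258)) (BT.leaf cE1259)) (BT.node 1260 (BT.leaf cE1260) (BT.leaf cE1261))))) (BT.node 1271 (BT.node 1266 (BT.node 1264 (BT.node 1263 (BT.node 1262 (BT.leaf cE1262) (BT.leaf cE1263)) (BT.leaf cE1264)) (BT.node 1265 (BT.leaf cE1265) (BT.leaf cE1266))) (BT.node 1269 (BT.node 1268 (BT.node 1267 (BT.leaf cE1267) (BT.leaf cE1268)) (BT.leaf cE1269)) (BT.node 1270 (BT.leaf cE1270) (BT.leaf cE1271)))) (BT.node 1276 (BT.node 1274 (BT.node 1273 (BT.node 1272 (BT.leaf cE1272) (BT.leaf cE1273)) (BT.leaf cE1274)) (BT.node 1275 (BT.leaf cE1275) (BT.leaf cE1276))) (BT.node 1279 (BT.node 1278 (BT.node 1277 (BT.leaf cE1277) (BT.leaf cE1278)) (BT.leaf cE1279)) (BT.node 1280 (BT.leaf cE1280) (BT.leaf cE1281)))))) (BT.node 1302 (BT.node 1292 (BT.node 1287 (BT.node 1284 (BT.node 1283 (BT.node 1282 (BT.leaf cE1282) (BT.leaf cE1283)) (BT.leaf cE1284)) (BT.node 1286 (BT.node 1285 (BT.leaf cE1285) (BT.leaf cE1286)) (BT.leaf cE1287))) (BT.node 1290 (BT.node 1289 (BT.node 1288 (BT.leaf cE1288) (BT.leaf cE1289)) (BT.leaf cE1290)) (BT.node 1291 (BT.leaf cE1291) (BT.leaf cE1292)))) (BT.node 1297 (BT.node 1295 (BT.node 1294 (BT.node 1293 (BT.leaf cE1293) (BT.leaf cE1294)) (BT.leaf cE1295)) (BT.node 1296 (BT.leaf cE1296) (BT.leaf cE1297))) (BT.node 1300 (BT.node 1299 (BT.node 1298 (BT.leaf cE1298) (BT.leaf cE1299)) (BT.leaf cE1300)) (BT.node 1301 (BT.leaf cE1301) (BT.leaf cE1302))))) (BT.node 1312 (BT.node 1307 (BT.node 1305 (BT.node 1304 (BT.node 1303 (BT.leaf cE1303) (BT.leaf cE1304)) (BT.leaf cE1305)) (BT.node 1306 (BT.leaf cE1306) (BT.leaf cE1307))) (BT.node 1310 (BT.node 1309 (BT.node 1308 (BT.leaf cE1308) (BT.leaf cE1309)) (BT.leaf cE1310)) (BT.node 1311 (BT.leaf cE1311) (BT.leaf cE1312)))) (BT.node 1317 (BT.node 1315 (BT.node 1314 (BT.node 1313 (BT.leaf cE1313) (BT.leaf cE1314)) (BT.leaf cE1315)) (BT.node 1316 (BT.leaf cE1316) (BT.leaf cE1317))) (BT.node 1320 (BT.node 1319 (BT.node 1318 (BT.leaf cE1318) (BT.leaf cE1319)) (BT.leaf cE1320)) (BT.node 1321 (BT.leaf cE1321) (BT.leaf cE1322))))))))))) (BT.node 1983 (BT.node 1653 (BT.node 1488 (BT.node 1405 (BT.node 1364 (BT.node 1343 (BT.node 1333 (BT.node 1328 (BT.node 1325 (BT.node 1324 (BT.node 1323 (BT.leaf cE1323) (BT.leaf cE1324)) (BT.leaf cE1325)) (BT.node 1327 (BT.node 1326 (BT.leaf cE1326) (BT.leaf cE1327)) (BT.leaf cE1328))) (BT.node 1331 (BT.node 1330 (BT.node 1329 (BT.leaf cE1329) (BT.leaf cE1330)) (BT.leaf cE1331)) (BT.node 1332 (BT.leaf cE1332) (BT.leaf cE1333)))) (BT.node 1338 (BT.node 1336 (BT.node 1335 (BT.node 1334 (BT.leaf cE1334) (BT.leaf cE1335)) (BT.leaf cE1336)) (BT.node 1337 (BT.leaf cE1337) (BT.leaf cE1338))) (BT.node 1341 (BT.node 1340 (BT.node 1339 (BT.leaf cE1339) (BT.leaf cE1340)) (BT.leaf cE1341)) (BT.node 1342 (BT.leaf cE1342) (BT.leaf cE1343))))) (BT.node 1354 (BT.node 1349 (BT.node 1346 (BT.node 1345 (BT.node 1344 (BT.leaf cE1344) (BT.leaf cE1345)) (BT.leaf cE1346)) (BT.node 1348 (BT.node 1347 (BT.leaf cE1347) (BT.leaf cE1348)) (BT.leaf cE1349))) (BT.node 1352 (BT.node 1351 (BT.node 1350 (BT.leaf cE1350) (BT.leaf cE1351)) (BT.leaf cE1352)) (BT.node 1353 (BT.leaf cE1353) (BT.leaf cE1354)))) (BT.node 1359 (BT.node 1357 (BT.node 1356 (BT.node 1355 (BT.leaf cE1355) (BT.leaf cE1356)) (BT.leaf cE1357)) (BT.node 1358 (BT.leaf cE1358) (BT.leaf cE1359))) (BT.node 1362 (BT.node 1361 (BT.node 1360 (BT.leaf cE1360) (BT.leaf cE1361)) (BT.leaf cE1362)) (BT.node 1363 (BT.leaf cE1363) (BT.leaf cE1364)))))) (BT.node 1385 (BT.node 1375 (BT.node 1370 (BT.node 1367 (BT.node 1366 (BT.node 1365 (BT.leaf cE1365) (BT.leaf cE1366)) (BT.leaf cE1367)) (BT.node 1369 (BT.node 1368 (BT.leaf cE1368) (BT.leaf cE1369)) (BT.leaf cE1370))) (BT.node 1373 (BT.node 1372 (BT.node 1371 (BT.leaf cE1371) (BT.leaf cE1372)) (BT.leaf cE1373)) (BT.node 1374 (BT.leaf cE1374) (BT.leaf cE1375)))) (BT.node 1380 (BT.node 1378 (BT.node 1377 (BT.node 1376 (BT.leaf cE1376) (BT.leaf cE1377)) (BT.leaf cE1378)) (BT.node 1379 (BT.leaf cE1379) (BT.leaf cE1380))) (BT.node 1383 (BT.node 1382 (BT.node 1381 (BT.leaf cE1381) (BT.leaf cE1382)) (BT.leaf cE1383)) (BT.node 1384 (BT.leaf cE1384) (BT.leaf cE1385))))) (BT.node 1395 (BT.node 1390 (BT.node 1388 (BT.node 1387 (BT.node 1386 (BT.leaf cE1386) (BT.leaf cE1387)) (BT.leaf cE1388)) (BT.node 1389 (BT.leaf cE1389) (BT.leaf cE1390))) (BT.node 1393 (BT.node 1392 (BT.node 1391 (BT.leaf cE1391) (BT.leaf cE1392)) (BT.leaf cE1393)) (BT.node 1394 (BT.leaf cE1394) (BT.leaf cE1395)))) (BT.node 1400 (BT.node 1398 (BT.node 1397 (BT.node 1396 (BT.leaf cE1396) (BT.leaf cE1397)) (BT.leaf cE1398)) (BT.node 1399 (BT.leaf cE1399) (BT.leaf cE1400))) (BT.node 1403 (BT.node 1402 (BT.node 1401 (BT.leaf cE1401) (BT.leaf cE1402)) (BT.leaf cE1403)) (BT.node 1404 (BT.leaf cE1404) (BT.leaf cE1405))))))) (BT.node 1447 (BT.node 1426 (BT.node 1416 (BT.node 1411 (BT.node 1408 (BT.node 1407 (BT.node 1406 (BT.leaf cE1406) (BT.leaf cE1407)) (BT.leaf cE1408)) (BT.node 1410 (BT.node 1409 (BT.leaf cE1409) (BT.leaf cE1410)) (BT.leaf cE1411))) (BT.node 1414 (BT.node 1413 (BT.node 1412 (BT.leaf cE1412) (BT.leaf cE1413)) (BT.leaf cE1414)) (BT.node 1415 (BT.leaf cE1415) (BT.leaf cE1416)))) (BT.node 1421 (BT.node 1419 (BT.node 1418 (BT.node 1417 (BT.leaf cE1417) (BT.leaf cE1418)) (BT.leaf cE1419)) (BT.node 1420 (BT.leaf cE1420) (BT.leaf cE1421))) (BT.node 1424 (BT.node 1423 (BT.node 1422 (BT.leaf cE1422) (BT.leaf cE1423)) (BT.leaf cE1424)) (BT.node 1425 (BT.leaf cE1425) (BT.leaf cE1426))))) (BT.node 1437 (BT.node 1432 (BT.node 1429 (BT.node 1428 (BT.node 1427 (BT.leaf cE1427) (BT.leaf cE1428)) (BT.leaf cE1429)) (BT.node 1431 (BT.node 1430 (BT.leaf cE1430) (BT.leaf cE1431)) (BT.leaf cE1432))) (BT.node 1435 (BT.node 1434 (BT.node 1433 (BT.leaf cE1433) (BT.leaf cE1434)) (BT.leaf cE1435)) (BT.node 1436 (BT.leaf cE1436) (BT.leaf cE1437)))) (BT.node 1442 (BT.node 1440 (BT.node 1439 (BT.node 1438 (BT.leaf cE1438) (BT.leaf cE1439)) (BT.leaf cE1440)) (BT.node 1441 (BT.leaf cE1441) (BT.leaf cE1442))) (BT.node 1445 (BT.node 1444 (BT.node 1443 (BT.leaf cE1443) (BT.leaf cE1444)) (BT.leaf cE1445)) (BT.node 1446 (BT.leaf cE1446) (BT.leaf cE1447)))))) (BT.node 1468 (BT.node 1458 (BT.node 1453 (BT.node 1450 (BT.node 1449 (BT.node 1448 (BT.leaf cE1448) (BT.leaf cE1449)) (BT.leaf cE1450)) (BT.node 1452 (BT.node 1451 (BT.leaf cE1451) (BT.leaf cE1452)) (BT.leaf cE1453))) (BT.node 1456 (BT.node 1455 (BT.node 1454 (BT.leaf cE1454) (BT.leaf cE1455)) (BT.leaf cE1456)) (BT.node 1457 (BT.leaf cE1457) (BT.leaf cE1458)))) (BT.node 1463 (BT.node 1461 (BT.node 1460 (BT.node 1459 (BT.leaf cE1459) (BT.leaf cE1460)) (BT.leaf cE1461)) (BT.node 1462 (BT.leaf cE1462) (BT.leaf cE1463))) (BT.node 1466 (BT.node 1465 (BT.node 1464 (BT.leaf cE1464) (BT.leaf cE1465)) (BT.leaf cE1466)) (BT.node 1467 (BT.leaf cE1467) (BT.leaf cE1468))))) (BT.node 1478 (BT.node 1473 (BT.node 1471 (BT.node 1470 (BT.node 1469 (BT.leaf cE1469) (BT.leaf cE1470)) (BT.leaf cE1471)) (BT.node 1472 (BT.leaf cE1472) (BT.leaf cE1473))) (BT.node 1476 (BT.node 1475 (BT.node 1474 (BT.leaf cE1474) (BT.leaf cE1475)) (BT.leaf cE1476)) (BT.node 1477 (BT.leaf cE1477) (BT.leaf cE1478)))) (BT.node 1483 (BT.node 1481 (BT.node 1480 (BT.node 1479 (BT.leaf cE1479) (BT.leaf cE1480)) (BT.leaf cE1481)) (BT.node 1482 (BT.leaf cE1482) (BT.leaf cE1483))) (BT.node 1486 (BT.node 1485 (BT.node 1484 (BT.leaf cE1484) (BT.leaf cE1485)) (BT.leaf cE1486)) (BT.node 1487 (BT.leaf cE1487) (BT.leaf cE1488)))))))) (BT.node 1571 (BT.node 1530 (BT.node 1509 (BT.node 1499 (BT.node 1494 (BT.node 1491 (BT.node 1490 (BT.node 1489 (BT.leaf cE1489) (BT.leaf cE1490)) (BT.leaf cE1491)) (BT.node 1493 (BT.node 1492 (BT.leaf cE1492) (BT.leaf cE1493)) (BT.leaf cE1494))) (BT.node 1497 (BT.node 1496 (BT.node 1495 (BT.leaf cE1495) (BT.leaf cE1496)) (BT.leaf cE1497)) (BT.node 1498 (BT.leaf cE1498) (BT.leaf cE1499)))) (BT.node 1504 (BT.node 1502 (BT.node 1501 (BT.node 1500 (BT.leaf cE1500) (BT.leaf cE1501)) (BT.leaf cE1502)) (BT.node 1503 (BT.leaf cE1503) (BT.leaf cE1504))) (BT.node 1507 (BT.node 1506 (BT.node 1505 (BT.leaf cE1505) (BT.leaf cE1506)) (BT.leaf cE1507)) (BT.node 1508 (BT.leaf cE1508) (BT.leaf cE1509))))) (BT.node 1520 (BT.node 1515 (BT.node 1512 (BT.node 1511 (BT.node 1510 (BT.leaf cE1510) (BT.leaf cE1511)) (BT.leaf cE1512)) (BT.node 1514 (BT.node 1513 (BT.leaf cE1513) (BT.leaf cE1514)) (BT.leaf cE1515))) (BT.node 1518 (BT.node 1517 (BT.node 1516 (BT.leaf cE1516) (BT.leaf cE1517)) (BT.leaf cE1518)) (BT.node 1519 (BT.leaf cE1519) (BT.leaf cE1520)))) (BT.node 1525 (BT.node 1523 (BT.node 1522 (BT.node 1521 (BT.leaf cE1521) (BT.leaf cE1522)) (BT.leaf cE1523)) (BT.node 1524 (BT.leaf cE1524) (BT.leaf cE1525))) (BT.node 1528 (BT.node 1527 (BT.node 1526 (BT.leaf cE1526) (BT.leaf cE1527)) (BT.leaf cE1528)) (BT.node 1529 (BT.leaf cE1529) (BT.leaf cE1530)))))) (BT.node 1551 (BT.node 1541 (BT.node 1536 (BT.node 1533 (BT.node 1532 (BT.node 1531 (BT.leaf cE1531) (BT.leaf cE1532)) (BT.leaf cE1533)) (BT.node 1535 (BT.node 1534 (BT.leaf cE1534) (BT.leaf cE1535)) (BT.leaf cE1536))) (BT.node 1539 (BT.node 1538 (BT.node 1537 (BT.leaf cE1537) (BT.leaf cE1538)) (BT.leaf cE1539)) (BT.node 1540 (BT.leaf cE1540) (BT.leaf cE1541)))) (BT.node 1546 (BT.node 1544 (BT.node 1543 (BT.node 1542 (BT.leaf cE1542) (BT.leaf cE1543)) (BT.leaf cE1544)) (BT.node 1545 (BT.leaf cE1545) (BT.leaf cE1546))) (BT.node 1549 (BT.node 1548 (BT.node 1547 (BT.leaf cE1547) (BT.leaf cE1548)) (BT.leaf cE1549)) (BT.node 1550 (BT.leaf cE1550) (BT.leaf cE1551))))) (BT.node 1561 (BT.node 1556 (BT.node 1554 (BT.node 1553 (BT.node 1552 (BT.leaf cE1552) (BT.leaf cE1553)) (BT.leaf cE1554)) (BT.node 1555 (BT.leaf cE1555) (BT.leaf cE1556))) (BT.node 1559 (BT.node 1558 (BT.node 1557 (BT.leaf cE1557) (BT.leaf cE1558)) (BT.leaf cE1559)) (BT.node 1560 (BT.leaf cE1560) (BT.leaf cE1561)))) (BT.node 1566 (BT.node 1564 (BT.node 1563 (BT.node 1562 (BT.leaf cE1562) (BT.leaf cE1563)) (BT.leaf cE1564)) (BT.node 1565 (BT.leaf cE1565) (BT.leaf cE1566))) (BT.node 1569 (BT.node 1568 (BT.node 1567 (BT.leaf cE1567) (BT.leaf cE1568)) (BT.leaf cE1569)) (BT.node 1570 (BT.leaf cE1570) (BT.leaf cE1571))))))) (BT.node 1612 (BT.node 1592 (BT.node 1582 (BT.node 1577 (BT.node 1574 (BT.node 1573 (BT.node 1572 (BT.leaf cE1572) (BT.leaf cE1573)) (BT.leaf cE1574)) (BT.node 1576 (BT.node 1575 (BT.leaf cE1575) (BT.leaf cE1576)) (BT.leaf cE1577))) (BT.node 1580 (BT.node 1579 (BT.node 1578 (BT.leaf cE1578) (BT.leaf cE1579)) (BT.leaf cE1580)) (BT.node 1581 (BT.leaf cE1581) (BT.leaf cE1582)))) (BT.node 1587 (BT.node 1585 (BT.node 1584 (BT.node 1583 (BT.leaf cE1583) (BT.leaf cE1584)) (BT.leaf cE1585)) (BT.node 1586 (BT.leaf cE1586) (BT.leaf cE1587))) (BT.node 1590 (BT.node 1589 (BT.node 1588 (BT.leaf cE1588) (BT.leaf cE1589)) (BT.leaf cE1590)) (BT.node 1591 (BT.leaf cE1591) (BT.leaf cE1592))))) (BT.node 1602 (BT.node 1597 (BT.node 1595 (BT.node 1594 (BT.node 1593 (BT.leaf cE1593) (BT.leaf cE1594)) (BT.leaf cE1595)) (BT.node 1596 (BT.leaf cE1596) (BT.leaf cE1597))) (BT.node 1600 (BT.node 1599 (BT.node 1598 (BT.leaf cE1598) (BT.leaf cE1599)) (BT.leaf cE1600)) (BT.node 1601 (BT.leaf cE1601) (BT.leaf cE1602)))) (BT.node 1607 (BT.node 1605 (BT.node 1604 (BT.node 1603 (BT.leaf cE1603) (BT.leaf cE1604)) (BT.leaf cE1605)) (BT.node 1606 (BT.leaf cE1606) (BT.leaf cE1607))) (BT.node 1610 (BT.node 1609 (BT.node 1608 (BT.leaf cE1608) (BT.leaf cE1609)) (BT.leaf cE1610)) (BT.node 1611 (BT.leaf cE1611) (BT.leaf cE1612)))))) (BT.node 1633 (BT.node 1623 (BT.node 1618 (BT.node 1615 (BT.node 1614 (BT.node 1613 (BT.leaf cE1613) (BT.leaf cE1614)) (BT.leaf cE1615)) (BT.node 1617 (BT.node 1616 (BT.leaf cE1616) (BT.leaf cE1617)) (BT.leaf cE1618))) (BT.node 1621 (BT.node 1620 (BT.node 1619 (BT.leaf cE1619) (BT.leaf cE1620)) (BT.leaf cE1621)) (BT.node 1622 (BT.leaf cE1622) (BT.leaf cE1623)))) (BT.node 1628 (BT.node 1626 (BT.node 1625 (BT.node 1624 (BT.leaf cE1624) (BT.leaf cE1625)) (BT.leaf cE1626)) (BT.node 1627 (BT.leaf cE1627) (BT.leaf cE1628))) (BT.node 1631 (BT.node 1630 (BT.node 1629 (BT.leaf cE1629) (BT.leaf cE1630)) (BT.leaf cE1631)) (BT.node 1632 (BT.leaf cE1632) (BT.leaf cE1633))))) (BT.node 1643 (BT.node 1638 (BT.node 1636 (BT.node 1635 (BT.node 1634 (BT.leaf cE1634) (BT.leaf cE1635)) (BT.leaf cE1636)) (BT.node 1637 (BT.leaf cE1637) (BT.leaf cE1638))) (BT.node 1641 (BT.node 1640 (BT.node 1639 (BT.leaf cE1639) (BT.leaf cE1640)) (BT.leaf cE1641)) (BT.node 1642 (BT.leaf cE1642) (BT.leaf cE1643)))) (BT.node 1648 (BT.node 1646 (BT.node 1645 (BT.node 1644 (BT.leaf cE1644) (BT.leaf cE1645)) (BT.leaf cE1646)) (BT.node 1647 (BT.leaf cE1647) (BT.leaf cE1648))) (BT.node 1651 (BT.node 1650 (BT.node 1649 (BT.leaf cE1649) (BT.leaf cE1650)) (BT.leaf cE1651)) (BT.node 1652 (BT.leaf cE1652) (BT.leaf cE1653))))))))) (BT.node 1818 (BT.node 1736 (BT.node 1695 (BT.node 1674 (BT.node 1664 (BT.node 1659 (BT.node 1656 (BT.node 1655 (BT.node 1654 (BT.leaf cE1654) (BT.leaf cE1655)) (BT.leaf cE1656)) (BT.node 1658 (BT.node 1657 (BT.leaf cE1657) (BT.leaf cE1658)) (BT.leaf cE1659))) (BT.node 1662 (BT.node 1661 (BT.node 1660 (BT.leaf cE1660) (BT.leaf cE1661)) (BT.leaf cE1662)) (BT.node 1663 (BT.leaf cE1663) (BT.leaf cE1664)))) (BT.node 1669 (BT.node 1667 (BT.node 1666 (BT.node 1665 (BT.leaf cE1665) (BT.leaf cE1666)) (BT.leaf cE1667)) (BT.node 1668 (BT.leaf cE1668) (BT.leaf cE1669))) (BT.node 1672 (BT.node 1671 (BT.node 1670 (BT.leaf cE1670) (BT.leaf cE1671)) (BT.leaf cE1672)) (BT.node 1673 (BT.leaf cE1673) (BT.leaf cE1674))))) (BT.node 1685 (BT.node 1680 (BT.node 1677 (BT.node 1676 (BT.node 1675 (BT.leaf cE1675) (BT.leaf cE1676)) (BT.leaf cE1677)) (BT.node 1679 (BT.node 1678 (BT.leaf cE1678) (BT.leaf cE1679)) (BT.leaf cE1680))) (BT.node 1683 (BT.node 1682 (BT.node 1681 (BT.leaf cE1681) (BT.leaf cE1682)) (BT.leaf cE1683)) (BT.node 1684 (BT.leaf cE1684) (BT.leaf cE1685)))) (BT.node 1690 (BT.node 1688 (BT.node 1687 (BT.node 1686 (BT.leaf cE1686) (BT.leaf cE1687)) (BT.leaf cE1688)) (BT.node 1689 (BT.leaf cE1689) (BT.leaf cE1690))) (BT.node 1693 (BT.node 1692 (BT.node 1691 (BT.leaf cE1691) (BT.leaf cE1692)) (BT.leaf cE1693)) (BT.node 1694 (BT.leaf cE1694) (BT.leaf cE1695)))))) (BT.node 1716 (BT.node 1706 (BT.node 1701 (BT.node 1698 (BT.node 1697 (BT.node 1696 (BT.leaf cE1696) (BT.leaf cE1697)) (BT.leaf cE1698)) (BT.node 1700 (BT.node 1699 (BT.leaf cE1699) (BT.leaf cE1700)) (BT.leaf cE1701))) (BT.node 1704 (BT.node 1703 (BT.node 1702 (BT.leaf cE1702) (BT.leaf cE1703)) (BT.leaf cE1704)) (BT.node 1705 (BT.leaf cE1705) (BT.leaf cE1706)))) (BT.node 1711 (BT.node 1709 (BT.node 1708 (BT.node 1707 (BT.leaf cE1707) (BT.leaf cE1708)) (BT.leaf cE1709)) (BT.node 1710 (BT.leaf cE1710) (BT.leaf cE1711))) (BT.node 1714 (BT.node 1713 (BT.node 1712 (BT.leaf cE1712) (BT.leaf cE1713)) (BT.leaf cE1714)) (BT.node 1715 (BT.leaf cE1715) (BT.leaf cE1716))))) (BT.node 1726 (BT.node 1721 (BT.node 1719 (BT.node 1718 (BT.node 1717 (BT.leaf cE1717) (BT.leaf cE1718)) (BT.leaf cE1719)) (BT.node 1720 (BT.leaf cE1720) (BT.leaf cE1721))) (BT.node 1724 (BT.node 1723 (BT.node 1722 (BT.leaf cE1722) (BT.leaf cE1723)) (BT.leaf cE1724)) (BT.node 1725 (BT.leaf cE1725) (BT.leaf cE1726)))) (BT.node 1731 (BT.node 1729 (BT.node 1728 (BT.node 1727 (BT.leaf cE1727) (BT.leaf cE1728)) (BT.leaf cE1729)) (BT.node 1730 (BT.leaf cE1730) (BT.leaf cE1731))) (BT.node 1734 (BT.node 1733 (BT.node 1732 (BT.leaf cE1732) (BT.leaf cE1733)) (BT.leaf cE1734)) (BT.node 1735 (BT.leaf cE1735) (BT.leaf cE1736))))))) (BT.node 1777 (BT.node 1757 (BT.node 1747 (BT.node 1742 (BT.node 1739 (BT.node 1738 (BT.node 1737 (BT.leaf cE1737) (BT.leaf cE1738)) (BT.leaf cE1739)) (BT.node 1741 (BT.node 1740 (BT.leaf cE1740) (BT.leaf cE1741)) (BT.leaf cE1742))) (BT.node 1745 (BT.node 1744 (BT.node 1743 (BT.leaf cE1743) (BT.leaf cE1744)) (BT.leaf cE1745)) (BT.node 1746 (BT.leaf cE1746) (BT.leaf cE1747)))) (BT.node 1752 (BT.node 1750 (BT.node 1749 (BT.node 1748 (BT.leaf cE1748) (BT.leaf cE1749)) (BT.leaf cE1750)) (BT.node 1751 (BT.leaf cE1751) (BT.leaf cE1752))) (BT.node 1755 (BT.node 1754 (BT.node 1753 (BT.leaf cE1753) (BT.leaf cE1754)) (BT.leaf cE1755)) (BT.node 1756 (BT.leaf cE1756) (BT.leaf cE1757))))) (BT.node 1767 (BT.node 1762 (BT.node 1760 (BT.node 1759 (BT.node 1758 (BT.leaf cE1758) (BT.leaf cE1759)) (BT.leaf cE1760)) (BT.node 1761 (BT.leaf cE1761) (BT.leaf cE1762))) (BT.node 1765 (BT.node 1764 (BT.node 1763 (BT.leaf cE1763) (BT.leaf cE1764)) (BT.leaf cE1765)) (BT.node 1766 (BT.leaf cE1766) (BT.leaf cE1767)))) (BT.node 1772 (BT.node 1770 (BT.node 1769 (BT.node 1768 (BT.leaf cE1768) (BT.leaf cE1769)) (BT.leaf cE1770)) (BT.node 1771 (BT.leaf cE1771) (BT.leaf cE1772))) (BT.node 1775 (BT.node 1774 (BT.node 1773 (BT.leaf cE1773) (BT.leaf cE1774)) (BT.leaf cE1775)) (BT.node 1776 (BT.leaf cE1776) (BT.leaf cE1777)))))) (BT.node 1798 (BT.node 1788 (BT.node 1783 (BT.node 1780 (BT.node 1779 (BT.node 1778 (BT.leaf cE1778) (BT.leaf cE1779)) (BT.leaf cE1780)) (BT.node 1782 (BT.node 1781 (BT.leaf cE1781) (BT.leaf cE1782)) (BT.leaf cE1783))) (BT.node 1786 (BT.node 1785 (BT.node 1784 (BT.leaf cE1784) (BT.leaf cE1785)) (BT.leaf cE1786)) (BT.node 1787 (BT.leaf cE1787) (BT.leaf cE1788)))) (BT.node 1793 (BT.node 1791 (BT.node 1790 (BT.node 1789 (BT.leaf cE1789) (BT.leaf cE1790)) (BT.leaf cE1791)) (BT.node 1792 (BT.leaf cE1792) (BT.leaf cE1793))) (BT.node 1796 (BT.node 1795 (BT.node 1794 (BT.leaf cE1794) (BT.leaf cE1795)) (BT.leaf cE1796)) (BT.node 1797 (BT.leaf cE1797) (BT.leaf cE1798))))) (BT.node 1808 (BT.node 1803 (BT.node 1801 (BT.node 1800 (BT.node 1799 (BT.leaf cE1799) (BT.leaf cE1800)) (BT.leaf cE1801)) (BT.node 1802 (BT.leaf cE1802) (BT.leaf cE1803))) (BT.node 1806 (BT.node 1805 (BT.node 1804 (BT.leaf cE1804) (BT.leaf cE1805)) (BT.leaf cE1806)) (BT.node 1807 (BT.leaf cE1807) (BT.leaf cE1808)))) (BT.node 1813 (BT.node 1811 (BT.node 1810 (BT.node 1809 (BT.leaf cE1809) (BT.leaf cE1810)) (BT.leaf cE1811)) (BT.node 1812 (BT.leaf cE1812) (BT.leaf cE1813))) (BT.node 1816 (BT.node 1815 (BT.node 1814 (BT.leaf cE1814) (BT.leaf cE1815)) (BT.leaf cE1816)) (BT.node 1817 (BT.leaf cE1817) (BT.leaf cE1818)))))))) (BT.node 1901 (BT.node 1860 (BT.node 1839 (BT.node 1829 (BT.node 1824 (BT.node 1821 (BT.node 1820 (BT.node 1819 (BT.leaf cE1819) (BT.leaf cE1820)) (BT.leaf cE1821)) (BT.node 1823 (BT.node 1822 (BT.leaf cE1822) (BT.leaf cE1823)) (BT.leaf cE1824))) (BT.node 1827 (BT.node 1826 (BT.node 1825 (BT.leaf cE1825) (BT.leaf cE1826)) (BT.leaf cE1827)) (BT.node 1828 (BT.leaf cE1828) (BT.leaf cE1829)))) (BT.node 1834 (BT.node 1832 (BT.node 1831 (BT.node 1830 (BT.leaf cE1830) (BT.leaf cE1831)) (BT.leaf cE1832)) (BT.node 1833 (BT.leaf cE1833) (BT.leaf cE1834))) (BT.node 1837 (BT.node 1836 (BT.node 1835 (BT.leaf cE1835) (BT.leaf cE1836)) (BT.leaf cE1837)) (BT.node 1838 (BT.leaf cE1838) (BT.leaf cE1839))))) (BT.node 1850 (BT.node 1845 (BT.node 1842 (BT.node 1841 (BT.node 1840 (BT.leaf cE1840) (BT.leaf cE1841)) (BT.leaf cE1842)) (BT.node 1844 (BT.node 1843 (BT.leaf cE1843) (BT.leaf cE1844)) (BT.leaf cE1845))) (BT.node 1848 (BT.node 1847 (BT.node 1846 (BT.leaf cE1846) (BT.leaf cE1847)) (BT.leaf cE1848)) (BT.node 1849 (BT.leaf cE1849) (BT.leaf cE1850)))) (BT.node 1855 (BT.node 1853 (BT.node 1852 (BT.node 1851 (BT.leaf cE1851) (BT.leaf cE1852)) (BT.leaf cE1853)) (BT.node 1854 (BT.leaf cE1854) (BT.leaf cE1855))) (BT.node 1858 (BT.node 1857 (BT.node 1856 (BT.leaf cE1856) (BT.leaf cE1857)) (BT.leaf cE1858)) (BT.node 1859 (BT.leaf cE1859) (BT.leaf cE1860)))))) (BT.node 1881 (BT.node 1871 (BT.node 1866 (BT.node 1863 (BT.node 1862 (BT.node 1861 (BT.leaf cE1861) (BT.leaf cE1862)) (BT.leaf cE1863)) (BT.node 1865 (BT.node 1864 (BT.leaf cE1864) (BT.leaf cE1865)) (BT.leaf cE1866))) (BT.node 1869 (BT.node 1868 (BT.node 1867 (BT.leaf cE1867) (BT.leaf cE1868)) (BT.leaf cE1869)) (BT.node 1870 (BT.leaf cE1870) (BT.leaf cE1871)))) (BT.node 1876 (BT.node 1874 (BT.node 1873 (BT.node 1872 (BT.leaf cE1872) (BT.leaf cE1873)) (BT.leaf cE1874)) (BT.node 1875 (BT.leaf cE1875) (BT.leaf cE1876))) (BT.node 1879 (BT.node 1878 (BT.node 1877 (BT.leaf cE1877) (BT.leaf cE1878)) (BT.leaf cE1879)) (BT.node 1880 (BT.leaf cE1880) (BT.leaf cE1881))))) (BT.node 1891 (BT.node 1886 (BT.node 1884 (BT.node 1883 (BT.node 1882 (BT.leaf cE1882) (BT.leaf cE1883)) (BT.leaf cE1884)) (BT.node 1885 (BT.leaf cE1885) (BT.leaf cE1886))) (BT.node 1889 (BT.node 1888 (BT.node 1887 (BT.leaf cE1887) (BT.leaf cE1888)) (BT.leaf cE1889)) (BT.node 1890 (BT.leaf cE1890) (BT.leaf cE1891)))) (BT.node 1896 (BT.node 1894 (BT.node 1893 (BT.node 1892 (BT.leaf cE1892) (BT.leaf cE1893)) (BT.leaf cE1894)) (BT.node 1895 (BT.leaf cE1895) (BT.leaf cE1896))) (BT.node 1899 (BT.node 1898 (BT.node 1897 (BT.leaf cE1897) (BT.leaf cE1898)) (BT.leaf cE1899)) (BT.node 1900 (BT.leaf cE1900) (BT.leaf cE1901))))))) (BT.node 1942 (BT.node 1922 (BT.node 1912 (BT.node 1907 (BT.node 1904 (BT.node 1903 (BT.node 1902 (BT.leaf cE1902) (BT.leaf cE1903)) (BT.leaf cE1904)) (BT.node 1906 (BT.node 1905 (BT.leaf cE1905) (BT.leaf cE1906)) (BT.leaf cE1907))) (BT.node 1910 (BT.node 1909 (BT.node 1908 (BT.leaf cE1908) (BT.leaf cE1909)) (BT.leaf cE1910)) (BT.node 1911 (BT.leaf cE1911) (BT.leaf cE1912)))) (BT.node 1917 (BT.node 1915 (BT.node 1914 (BT.node 1913 (BT.leaf cE1913) (BT.leaf cE1914)) (BT.leaf cE1915)) (BT.node 1916 (BT.leaf cE1916) (BT.leaf cE1917))) (BT.node 1920 (BT.node 1919 (BT.node 1918 (BT.leaf cE1918) (BT.leaf cE1919)) (BT.leaf cE1920)) (BT.node 1921 (BT.leaf cE1921) (BT.leaf cE1922))))) (BT.node 1932 (BT.node 1927 (BT.node 1925 (BT.node 1924 (BT.node 1923 (BT.leaf cE1923) (BT.leaf cE1924)) (BT.leaf cE1925)) (BT.node 1926 (BT.leaf cE1926) (BT.leaf cE1927))) (BT.node 1930 (BT.node 1929 (BT.node 1928 (BT.leaf cE1928) (BT.leaf cE1929)) (BT.leaf cE1930)) (BT.node 1931 (BT.leaf cE1931) (BT.leaf cE1932)))) (BT.node 1937 (BT.node 1935 (BT.node 1934 (BT.node 1933 (BT.leaf cE1933) (BT.leaf cE1934)) (BT.leaf cE1935)) (BT.node 1936 (BT.leaf cE1936) (BT.leaf cE1937))) (BT.node 1940 (BT.node 1939 (BT.node 1938 (BT.leaf cE1938) (BT.leaf cE1939)) (BT.leaf cE1940)) (BT.node 1941 (BT.leaf cE1941) (BT.leaf cE1942)))))) (BT.node 1963 (BT.node 1953 (BT.node 1948 (BT.node 1945 (BT.node 1944 (BT.node 1943 (BT.leaf cE1943) (BT.leaf cE1944)) (BT.leaf cE1945)) (BT.node 1947 (BT.node 1946 (BT.leaf cE1946) (BT.leaf cE1947)) (BT.leaf cE1948))) (BT.node 1951 (BT.node 1950 (BT.node 1949 (BT.leaf cE1949) (BT.leaf cE1950)) (BT.leaf cE1951)) (BT.node 1952 (BT.leaf cE1952) (BT.leaf cE1953)))) (BT.node 1958 (BT.node 1956 (BT.node 1955 (BT.node 1954 (BT.leaf cE1954) (BT.leaf cE1955)) (BT.leaf cE1956)) (BT.node 1957 (BT.leaf cE1957) (BT.leaf cE1958))) (BT.node 1961 (BT.node 1960 (BT.node 1959 (BT.leaf cE1959) (BT.leaf cE1960)) (BT.leaf cE1961)) (BT.node 1962 (BT.leaf cE1962) (BT.leaf cE1963))))) (BT.node 1973 (BT.node 1968 (BT.node 1966 (BT.node 1965 (BT.node 1964 (BT.leaf cE1964) (BT.leaf cE1965)) (BT.leaf cE1966)) (BT.node 1967 (BT.leaf cE1967) (BT.leaf cE1968))) (BT.node 1971 (BT.node 1970 (BT.node 1969 (BT.leaf cE1969) (BT.leaf cE1970)) (BT.leaf cE1971)) (BT.node 1972 (BT.leaf cE1972) (BT.leaf cE1973)))) (BT.node 1978 (BT.node 1976 (BT.node 1975 (BT.node 1974 (BT.leaf cE1974) (BT.leaf cE1975)) (BT.leaf cE1976)) (BT.node 1977 (BT.leaf cE1977) (BT.leaf cE1978))) (BT.node 1981 (BT.node 1980 (BT.node 1979 (BT.leaf cE1979) (BT.leaf cE1980)) (BT.leaf cE1981)) (BT.node 1982 (BT.leaf cE1982) (BT.leaf cE1983)))))))))) (BT.node 2314 (BT.node 2149 (BT.node 2066 (BT.node 2025 (BT.node 2004 (BT.node 1994 (BT.node 1989 (BT.node 1986 (BT.node 1985 (BT.node 1984 (BT.leaf cE1984) (BT.leaf cE1985)) (BT.leaf cE1986)) (BT.node 1988 (BT.node 1987 (BT.leaf cE1987) (BT.leaf cE1988)) (BT.leaf cE1989))) (BT.node 1992 (BT.node 1991 (BT.node 1990 (BT.leaf cE1990) (BT.leaf cE1991)) (BT.leaf cE1992)) (BT.node 1993 (BT.leaf cE1993) (BT.leaf cE1994)))) (BT.node 1999 (BT.node 1997 (BT.node 1996 (BT.node 1995 (BT.leaf cE1995) (BT.leaf cE1996)) (BT.leaf cE1997)) (BT.node 1998 (BT.leaf cE1998) (BT.leaf cE1999))) (BT.node 2002 (BT.node 2001 (BT.node 2000 (BT.leaf cE2000) (BT.leaf cE2001)) (BT.leaf cE2002)) (BT.node 2003 (BT.leaf cE2003) (BT.leaf cE2004))))) (BT.node 2015 (BT.node 2010 (BT.node 2007 (BT.node 2006 (BT.node 2005 (BT.leaf cE2005) (BT.leaf cE2006)) (BT.leaf cE2007)) (BT.node 2009 (BT.node 2008 (BT.leaf cE2008) (BT.leaf cE2009)) (BT.leaf cE2010))) (BT.node 2013 (BT.node 2012 (BT.node 2011 (BT.leaf cE2011) (BT.leaf cE2012)) (BT.leaf cE2013)) (BT.node 2014 (BT.leaf cE2014) (BT.leaf cE2015)))) (BT.node 2020 (BT.node 2018 (BT.node 2017 (BT.node 2016 (BT.leaf cE2016) (BT.leaf cE2017)) (BT.leaf cE2018)) (BT.node 2019 (BT.leaf cE2019) (BT.leaf cE2020))) (BT.node 2023 (BT.node 2022 (BT.node 2021 (BT.leaf cE2021) (BT.leaf cE2022)) (BT.leaf cE2023)) (BT.node 2024 (BT.leaf cE2024) (BT.leaf cE2025)))))) (BT.node 2046 (BT.node 2036 (BT.node 2031 (BT.node 2028 (BT.node 2027 (BT.node 2026 (BT.leaf cE2026) (BT.leaf cE2027)) (BT.leaf cE2028)) (BT.node 2030 (BT.node 2029 (BT.leaf cE2029) (BT.leaf cE2030)) (BT.leaf cE2031))) (BT.node 2034 (BT.node 2033 (BT.node 2032 (BT.leaf cE2032) (BT.leaf cE2033)) (BT.leaf cE2034)) (BT.node 2035 (BT.leaf cE2035) (BT.leaf cE2036)))) (BT.node 2041 (BT.node 2039 (BT.node 2038 (BT.node 2037 (BT.leaf cE2037) (BT.leaf cE2038)) (BT.leaf cE2039)) (BT.node 2040 (BT.leaf cE2040) (BT.leaf cE2041))) (BT.node 2044 (BT.node 2043 (BT.node 2042 (BT.leaf cE2042) (BT.leaf cE2043)) (BT.leaf cE2044)) (BT.node 2045 (BT.leaf cE2045) (BT.leaf cE2046))))) (BT.node 2056 (BT.node 2051 (BT.node 2049 (BT.node 2048 (BT.node 2047 (BT.leaf cE2047) (BT.leaf cE2048)) (BT.leaf cE2049)) (BT.node 2050 (BT.leaf cE2050) (BT.leaf cE2051))) (BT.node 2054 (BT.node 2053 (BT.node 2052 (BT.leaf cE2052) (BT.leaf cE2053)) (BT.leaf cE2054)) (BT.node 2055 (BT.leaf cE2055) (BT.leaf cE2056)))) (BT.node 2061 (BT.node 2059 (BT.node 2058 (BT.node 2057 (BT.leaf cE2057) (BT.leaf cE2058)) (BT.leaf cE2059)) (BT.node 2060 (BT.leaf cE2060) (BT.leaf cE2061))) (BT.node 2064 (BT.node 2063 (BT.node 2062 (BT.leaf cE2062) (BT.leaf cE2063)) (BT.leaf cE2064)) (BT.node 2065 (BT.leaf cE2065) (BT.leaf cE2066))))))) (BT.node 2108 (BT.node 2087 (BT.node 2077 (BT.node 2072 (BT.node 2069 (BT.node 2068 (BT.node 2067 (BT.leaf cE2067) (BT.leaf cE2068)) (BT.leaf cE2069)) (BT.node 2071 (BT.node 2070 (BT.leaf cE2070) (BT.leaf cE2071)) (BT.leaf cE2072))) (BT.node 2075 (BT.node 2074 (BT.node 2073 (BT.leaf cE2073) (BT.leaf cE2074)) (BT.leaf cE2075)) (BT.node 2076 (BT.leaf cE2076) (BT.leaf cE2077)))) (BT.node 2082 (BT.node 2080 (BT.node 2079 (BT.node 2078 (BT.leaf cE2078) (BT.leaf cE2079)) (BT.leaf cE2080)) (BT.node 2081 (BT.leaf cE2081) (BT.leaf cE2082))) (BT.node 2085 (BT.node 2084 (BT.node 2083 (BT.leaf cE2083) (BT.leaf cE2084)) (BT.leaf cE2085)) (BT.node 2086 (BT.leaf cE2086) (BT.leaf cE2087))))) (BT.node 2098 (BT.node 2093 (BT.node 2090 (BT.node 2089 (BT.node 2088 (BT.leaf cE2088) (BT.leaf cE2089)) (BT.leaf cE2090)) (BT.node 2092 (BT.node 2091 (BT.leaf cE2091) (BT.leaf cE2092)) (BT.leaf cE2093))) (BT.node 2096 (BT.node 2095 (BT.node 2094 (BT.leaf cE2094) (BT.leaf cE2095)) (BT.leaf cE2096)) (BT.node 2097 (BT.leaf cE2097) (BT.leaf cE2098)))) (BT.node 2103 (BT.node 2101 (BT.node 2100 (BT.node 2099 (BT.leaf cE2099) (BT.leaf cE2100)) (BT.leaf cE2101)) (BT.node 2102 (BT.leaf cE2102) (BT.leaf cE2103))) (BT.node 2106 (BT.node 2105 (BT.node 2104 (BT.leaf cE2104) (BT.leaf cE2105)) (BT.leaf cE2106)) (BT.node 2107 (BT.leaf cE2107) (BT.leaf cE2108)))))) (BT.node 2129 (BT.node 2119 (BT.node 2114 (BT.node 2111 (BT.node 2110 (BT.node 2109 (BT.leaf cE2109) (BT.leaf cE2110)) (BT.leaf cE2111)) (BT.node 2113 (BT.node 2112 (BT.leaf cE2112) (BT.leaf cE2113)) (BT.leaf cE2114))) (BT.node 2117 (BT.node 2116 (BT.node 2115 (BT.leaf cE2115) (BT.leaf cE2116)) (BT.leaf cE2117)) (BT.node 2118 (BT.leaf cE2118) (BT.leaf cE2119)))) (BT.node 2124 (BT.node 2122 (BT.node 2121 (BT.node 2120 (BT.leaf cE2120) (BT.leaf cE2121)) (BT.leaf cE2122)) (BT.node 2123 (BT.leaf cE2123) (BT.leaf cE2124))) (BT.node 2127 (BT.node 2126 (BT.node 2125 (BT.leaf cE2125) (BT.leaf cE2126)) (BT.leaf cE2127)) (BT.node 2128 (BT.leaf cE2128) (BT.leaf cE2129))))) (BT.node 2139 (BT.node 2134 (BT.node 2132 (BT.node 2131 (BT.node 2130 (BT.leaf cE2130) (BT.leaf cE2131)) (BT.leaf cE2132)) (BT.node 2133 (BT.leaf cE2133) (BT.leaf cE2134))) (BT.node 2137 (BT.node 2136 (BT.node 2135 (BT.leaf cE2135) (BT.leaf cE2136)) (BT.leaf cE2137)) (BT.node 2138 (BT.leaf cE2138) (BT.leaf cE2139)))) (BT.node 2144 (BT.node 2142 (BT.node 2141 (BT.node 2140 (BT.leaf cE2140) (BT.leaf cE2141)) (BT.leaf cE2142)) (BT.node 2143 (BT.leaf cE2143) (BT.leaf cE2144))) (BT.node 2147 (BT.node 2146 (BT.node 2145 (BT.leaf cE2145) (BT.leaf cE2146)) (BT.leaf cE2147)) (BT.node 2148 (BT.leaf cE2148) (BT.leaf cE2149)))))))) (BT.node 2232 (BT.node 2191 (BT.node 2170 (BT.node 2160 (BT.node 2155 (BT.node 2152 (BT.node 2151 (BT.node 2150 (BT.leaf cE2150) (BT.leaf cE2151)) (BT.leaf cE2152)) (BT.node 2154 (BT.node 2153 (BT.leaf cE2153) (BT.leaf cE2154)) (BT.leaf cE2155))) (BT.node 2158 (BT.node 2157 (BT.node 2156 (BT.leaf cE2156) (BT.leaf cE2157)) (BT.leaf cE2158)) (BT.node 2159 (BT.leaf cE2159) (BT.leaf cE2160)))) (BT.node 2165 (BT.node 2163 (BT.node 2162 (BT.node 2161 (BT.leaf cE2161) (BT.leaf cE2162)) (BT.leaf cE2163)) (BT.node 2164 (BT.leaf cE2164) (BT.leaf cE2165))) (BT.node 2168 (BT.node 2167 (BT.node 2166 (BT.leaf cE2166) (BT.leaf cE2167)) (BT.leaf cE2168)) (BT.node 2169 (BT.leaf cE2169) (BT.leaf cE2170))))) (BT.node 2181 (BT.node 2176 (BT.node 2173 (BT.node 2172 (BT.node 2171 (BT.leaf cE2171) (BT.leaf cE2172)) (BT.leaf cE2173)) (BT.node 2175 (BT.node 2174 (BT.leaf cE2174) (BT.leaf cE2175)) (BT.leaf cE2176))) (BT.node 2179 (BT.node 2178 (BT.node 2177 (BT.leaf cE2177) (BT.leaf cE2178)) (BT.leaf cE2179)) (BT.node 2180 (BT.leaf cE2180) (BT.leaf cE2181)))) (BT.node 2186 (BT.node 2184 (BT.node 2183 (BT.node 2182 (BT.leaf cE2182) (BT.leaf cE2183)) (BT.leaf cE2184)) (BT.node 2185 (BT.leaf cE2185) (BT.leaf cE2186))) (BT.node 2189 (BT.node 2188 (BT.node 2187 (BT.leaf cE2187) (BT.leaf cE2188)) (BT.leaf cE2189)) (BT.node 2190 (BT.leaf cE2190) (BT.leaf cE2191)))))) (BT.node 2212 (BT.node 2202 (BT.node 2197 (BT.node 2194 (BT.node 2193 (BT.node 2192 (BT.leaf cE2192) (BT.leaf cE2193)) (BT.leaf cE2194)) (BT.node 2196 (BT.node 2195 (BT.leaf cE2195) (BT.leaf cE2196)) (BT.leaf cE2197))) (BT.node 2200 (BT.node 2199 (BT.node 2198 (BT.leaf cE2198) (BT.leaf cE2199)) (BT.leaf cE2200)) (BT.node 2201 (BT.leaf cE2201) (BT.leaf cE2202)))) (BT.node 2207 (BT.node 2205 (BT.node 2204 (BT.node 2203 (BT.leaf cE2203) (BT.leaf cE2204)) (BT.leaf cE2205)) (BT.node 2206 (BT.leaf cE2206) (BT.leaf cE2207))) (BT.node 2210 (BT.node 2209 (BT.node 2208 (BT.leaf cE2208) (BT.leaf cE2209)) (BT.leaf cE2210)) (BT.node 2211 (BT.leaf cE2211) (BT.leaf cE2212))))) (BT.node 2222 (BT.node 2217 (BT.node 2215 (BT.node 2214 (BT.node 2213 (BT.leaf cE2213) (BT.leaf cE2214)) (BT.leaf cE2215)) (BT.node 2216 (BT.leaf cE2216) (BT.leaf cE2217))) (BT.node 2220 (BT.node 2219 (BT.node 2218 (BT.leaf cE2218) (BT.leaf cE2219)) (BT.leaf cE2220)) (BT.node 2221 (BT.leaf cE2221) (BT.leaf cE2222)))) (BT.node 2227 (BT.node 2225 (BT.node 2224 (BT.node 2223 (BT.leaf cE2223) (BT.leaf cE2224)) (BT.leaf cE2225)) (BT.node 2226 (BT.leaf cE2226) (BT.leaf cE2227))) (BT.node 2230 (BT.node 2229 (BT.node 2228 (BT.leaf cE2228) (BT.leaf cE2229)) (BT.leaf cE2230)) (BT.node 2231 (BT.leaf cE2231) (BT.leaf cE2232))))))) (BT.node 2273 (BT.node 2253 (BT.node 2243 (BT.node 2238 (BT.node 2235 (BT.node 2234 (BT.node 2233 (BT.leaf cE2233) (BT.leaf cE2234)) (BT.leaf cE2235)) (BT.node 2237 (BT.node 2236 (BT.leaf cE2236) (BT.leaf cE2237)) (BT.leaf cE2238))) (BT.node 2241 (BT.node 2240 (BT.node 2239 (BT.leaf cE2239) (BT.leaf cE2240)) (BT.leaf cE2241)) (BT.node 2242 (BT.leaf cE2242) (BT.leaf cE2243)))) (BT.node 2248 (BT.node 2246 (BT.node 2245 (BT.node 2244 (BT.leaf cE2244) (BT.leaf cE2245)) (BT.leaf cE2246)) (BT.node 2247 (BT.leaf cE2247) (BT.leaf cE2248))) (BT.node 2251 (BT.node 2250 (BT.node 2249 (BT.leaf cE2249) (BT.leaf cE2250)) (BT.leaf cE2251)) (BT.node 2252 (BT.leaf cE2252) (BT.leaf cE2253))))) (BT.node 2263 (BT.node 2258 (BT.node 2256 (BT.node 2255 (BT.node 2254 (BT.leaf cE2254) (BT.leaf cE2255)) (BT.leaf cE2256)) (BT.node 2257 (BT.leaf cE2257) (BT.leaf cE2258))) (BT.node 2261 (BT.node 2260 (BT.node 2259 (BT.leaf cE2259) (BT.leaf cE2260)) (BT.leaf cE2261)) (BT.node 2262 (BT.leaf cE2262) (BT.leaf cE2263)))) (BT.node 2268 (BT.node 2266 (BT.node 2265 (BT.node 2264 (BT.leaf cE2264) (BT.leaf cE2265)) (BT.leaf cE2266)) (BT.node 2267 (BT.leaf cE2267) (BT.leaf cE2268))) (BT.node 2271 (BT.node 2270 (BT.node 2269 (BT.leaf cE2269) (BT.leaf cE2270)) (BT.leaf cE2271)) (BT.node 2272 (BT.leaf cE2272) (BT.leaf cE2273)))))) (BT.node 2294 (BT.node 2284 (BT.node 2279 (BT.node 2276 (BT.node 2275 (BT.node 2274 (BT.leaf cE2274) (BT.leaf cE2275)) (BT.leaf cE2276)) (BT.node 2278 (BT.node 2277 (BT.leaf cE2277) (BT.leaf cE2278)) (BT.leaf cE2279))) (BT.node 2282 (BT.node 2281 (BT.node 2280 (BT.leaf cE2280) (BT.leaf cE2281)) (BT.leaf cE2282)) (BT.node 2283 (BT.leaf cE2283) (BT.leaf cE2284)))) (BT.node 2289 (BT.node 2287 (BT.node 2286 (BT.node 2285 (BT.leaf cE2285) (BT.leaf cE2286)) (BT.leaf cE2287)) (BT.node 2288 (BT.leaf cE2288) (BT.leaf cE2289))) (BT.node 2292 (BT.node 2291 (BT.node 2290 (BT.leaf cE2290) (BT.leaf cE2291)) (BT.leaf cE2292)) (BT.node 2293 (BT.leaf cE2293) (BT.leaf cE2294))))) (BT.node 2304 (BT.node 2299 (BT.node 2297 (BT.node 2296 (BT.node 2295 (BT.leaf cE2295) (BT.leaf cE2296)) (BT.leaf cE2297)) (BT.node 2298 (BT.leaf cE2298) (BT.leaf cE2299))) (BT.node 2302 (BT.node 2301 (BT.node 2300 (BT.leaf cE2300) (BT.leaf cE2301)) (BT.leaf cE2302)) (BT.node 2303 (BT.leaf cE2303) (BT.leaf cE2304)))) (BT.node 2309 (BT.node 2307 (BT.node 2306 (BT.node 2305 (BT.leaf cE2305) (BT.leaf cE2306)) (BT.leaf cE2307)) (BT.node 2308 (BT.leaf cE2308) (BT.leaf cE2309))) (BT.node 2312 (BT.node 2311 (BT.node 2310 (BT.leaf cE2310) (BT.leaf cE2311)) (BT.leaf cE2312)) (BT.node 2313 (BT.leaf cE2313) (BT.leaf cE2314))))))))) (BT.node 2479 (BT.node 2397 (BT.node 2356 (BT.node 2335 (BT.node 2325 (BT.node 2320 (BT.node 2317 (BT.node 2316 (BT.node 2315 (BT.leaf cE2315) (BT.leaf cE2316)) (BT.leaf cE2317)) (BT.node 2319 (BT.node 2318 (BT.leaf cE2318) (BT.leaf cE2319)) (BT.leaf cE2320))) (BT.node 2323 (BT.node 2322 (BT.node 2321 (BT.leaf cE2321) (BT.leaf cE2322)) (BT.leaf cE2323)) (BT.node 2324 (BT.leaf cE2324) (BT.leaf cE2325)))) (BT.node 2330 (BT.node 2328 (BT.node 2327 (BT.node 2326 (BT.leaf cE2326) (BT.leaf cE2327)) (BT.leaf cE2328)) (BT.node 2329 (BT.leaf cE2329) (BT.leaf cE2330))) (BT.node 2333 (BT.node 2332 (BT.node 2331 (BT.leaf cE2331) (BT.leaf cE2332)) (BT.leaf cE2333)) (BT.node 2334 (BT.leaf cE2334) (BT.leaf cE2335))))) (BT.node 2346 (BT.node 2341 (BT.node 2338 (BT.node 2337 (BT.node 2336 (BT.leaf cE2336) (BT.leaf cE2337)) (BT.leaf cE2338)) (BT.node 2340 (BT.node 2339 (BT.leaf cE2339) (BT.leaf cE2340)) (BT.leaf cE2341))) (BT.node 2344 (BT.node 2343 (BT.node 2342 (BT.leaf cE2342) (BT.leaf cE2343)) (BT.leaf cE2344)) (BT.node 2345 (BT.leaf cE2345) (BT.leaf cE2346)))) (BT.node 2351 (BT.node 2349 (BT.node 2348 (BT.node 2347 (BT.leaf cE2347) (BT.leaf cE2348)) (BT.leaf cE2349)) (BT.node 2350 (BT.leaf cE2350) (BT.leaf cE2351))) (BT.node 2354 (BT.node 2353 (BT.node 2352 (BT.leaf cE2352) (BT.leaf cE2353)) (BT.leaf cE2354)) (BT.node 2355 (BT.leaf cE2355) (BT.leaf cE2356)))))) (BT.node 2377 (BT.node 2367 (BT.node 2362 (BT.node 2359 (BT.node 2358 (BT.node 2357 (BT.leaf cE2357) (BT.leaf cE2358)) (BT.leaf cE2359)) (BT.node 2361 (BT.node 2360 (BT.leaf cE2360) (BT.leaf cE2361)) (BT.leaf cE2362))) (BT.node 2365 (BT.node 2364 (BT.node 2363 (BT.leaf cE2363) (BT.leaf cE2364)) (BT.leaf cE2365)) (BT.node 2366 (BT.leaf cE2366) (BT.leaf cE2367)))) (BT.node 2372 (BT.node 2370 (BT.node 2369 (BT.node 2368 (BT.leaf cE2368) (BT.leaf cE2369)) (BT.leaf cE2370)) (BT.node 2371 (BT.leaf cE2371) (BT.leaf cE2372))) (BT.node 2375 (BT.node 2374 (BT.node 2373 (BT.leaf cE2373) (BT.leaf cE2374)) (BT.leaf cE2375)) (BT.node 2376 (BT.leaf cE2376) (BT.leaf cE2377))))) (BT.node 2387 (BT.node 2382 (BT.node 2380 (BT.node 2379 (BT.node 2378 (BT.leaf cE2378) (BT.leaf cE2379)) (BT.leaf cE2380)) (BT.node 2381 (BT.leaf cE2381) (BT.leaf cE2382))) (BT.node 2385 (BT.node 2384 (BT.node 2383 (BT.leaf cE2383) (BT.leaf cE2384)) (BT.leaf cE2385)) (BT.node 2386 (BT.leaf cE2386) (BT.leaf cE2387)))) (BT.node 2392 (BT.node 2390 (BT.node 2389 (BT.node 2388 (BT.leaf cE2388) (BT.leaf cE2389)) (BT.leaf cE2390)) (BT.node 2391 (BT.leaf cE2391) (BT.leaf cE2392))) (BT.node 2395 (BT.node 2394 (BT.node 2393 (BT.leaf cE2393) (BT.leaf cE2394)) (BT.leaf cE2395)) (BT.node 2396 (BT.leaf cE2396) (BT.leaf cE2397))))))) (BT.node 2438 (BT.node 2418 (BT.node 2408 (BT.node 2403 (BT.node 2400 (BT.node 2399 (BT.node 2398 (BT.leaf cE2398) (BT.leaf cE2399)) (BT.leaf cE2400)) (BT.node 2402 (BT.node 2401 (BT.leaf cE2401) (BT.leaf cE2402)) (BT.leaf cE2403))) (BT.node 2406 (BT.node 2405 (BT.node 2404 (BT.leaf cE2404) (BT.leaf cE2405)) (BT.leaf cE2406)) (BT.node 2407 (BT.leaf cE2407) (BT.leaf cE2408)))) (BT.node 2413 (BT.node 2411 (BT.node 2410 (BT.node 2409 (BT.leaf cE2409) (BT.leaf cE2410)) (BT.leaf cE2411)) (BT.node 2412 (BT.leaf cE2412) (BT.leaf cE2413))) (BT.node 2416 (BT.node 2415 (BT.node 2414 (BT.leaf cE2414) (BT.leaf cE2415)) (BT.leaf cE2416)) (BT.node 2417 (BT.leaf cE2417) (BT.leaf cE2418))))) (BT.node 2428 (BT.node 2423 (BT.node 2421 (BT.node 2420 (BT.node 2419 (BT.leaf cE2419) (BT.leaf cE2420)) (BT.leaf cE2421)) (BT.node 2422 (BT.leaf cE2422) (BT.leaf cE2423))) (BT.node 2426 (BT.node 2425 (BT.node 2424 (BT.leaf cE2424) (BT.leaf cE2425)) (BT.leaf cE2426)) (BT.node 2427 (BT.leaf cE2427) (BT.leaf cE2428)))) (BT.node 2433 (BT.node 2431 (BT.node 2430 (BT.node 2429 (BT.leaf cE2429) (BT.leaf cE2430)) (BT.leaf cE2431)) (BT.node 2432 (BT.leaf cE2432) (BT.leaf cE2433))) (BT.node 2436 (BT.node 2435 (BT.node 2434 (BT.leaf cE2434) (BT.leaf cE2435)) (BT.leaf cE2436)) (BT.node 2437 (BT.leaf cE2437) (BT.leaf cE2438)))))) (BT.node 2459 (BT.node 2449 (BT.node 2444 (BT.node 2441 (BT.node 2440 (BT.node 2439 (BT.leaf cE2439) (BT.leaf cE2440)) (BT.leaf cE2441)) (BT.node 2443 (BT.node 2442 (BT.leaf cE2442) (BT.leaf cE2443)) (BT.leaf cE2444))) (BT.node 2447 (BT.node 2446 (BT.node 2445 (BT.leaf cE2445) (BT.leaf cE2446)) (BT.leaf cE2447)) (BT.node 2448 (BT.leaf cE2448) (BT.leaf cE2449)))) (BT.node 2454 (BT.node 2452 (BT.node 2451 (BT.node 2450 (BT.leaf cE2450) (BT.leaf cE2451)) (BT.leaf cE2452)) (BT.node 2453 (BT.leaf cE2453) (BT.leaf cE2454))) (BT.node 2457 (BT.node 2456 (BT.node 2455 (BT.leaf cE2455) (BT.leaf cE2456)) (BT.leaf cE2457)) (BT.node 2458 (BT.leaf cE2458) (BT.leaf cE2459))))) (BT.node 2469 (BT.node 2464 (BT.node 2462 (BT.node 2461 (BT.node 2460 (BT.leaf cE2460) (BT.leaf cE2461)) (BT.leaf cE2462)) (BT.node 2463 (BT.leaf cE2463) (BT.leaf cE2464))) (BT.node 2467 (BT.node 2466 (BT.node 2465 (BT.leaf cE2465) (BT.leaf cE2466)) (BT.leaf cE2467)) (BT.node 2468 (BT.leaf cE2468) (BT.leaf cE2469)))) (BT.node 2474 (BT.node 2472 (BT.node 2471 (BT.node 2470 (BT.leaf cE2470) (BT.leaf cE2471)) (BT.leaf cE2472)) (BT.node 2473 (BT.leaf cE2473) (BT.leaf cE2474))) (BT.node 2477 (BT.node 2476 (BT.node 2475 (BT.leaf cE2475) (BT.leaf cE2476)) (BT.leaf cE2477)) (BT.node 2478 (BT.leaf cE2478) (BT.leaf cE2479)))))))) (BT.node 2562 (BT.node 2521 (BT.node 2500 (BT.node 2490 (BT.node 2485 (BT.node 2482 (BT.node 2481 (BT.node 2480 (BT.leaf cE2480) (BT.leaf cE2481)) (BT.leaf cE2482)) (BT.node 2484 (BT.node 2483 (BT.leaf cE2483) (BT.leaf cE2484)) (BT.leaf cE2485))) (BT.node 2488 (BT.node 2487 (BT.node 2486 (BT.leaf cE2486) (BT.leaf cE2487)) (BT.leaf cE2488)) (BT.node 2489 (BT.leaf cE2489) (BT.leaf cE2490)))) (BT.node 2495 (BT.node 2493 (BT.node 2492 (BT.node 2491 (BT.leaf cE2491) (BT.leaf cE2492)) (BT.leaf cE2493)) (BT.node 2494 (BT.leaf cE2494) (BT.leaf cE2495))) (BT.node 2498 (BT.node 2497 (BT.node 2496 (BT.leaf cE2496) (BT.leaf cE2497)) (BT.leaf cE2498)) (BT.node 2499 (BT.leaf cE2499) (BT.leaf cE2500))))) (BT.node 2511 (BT.node 2506 (BT.node 2503 (BT.node 2502 (BT.node 2501 (BT.leaf cE2501) (BT.leaf cE2502)) (BT.leaf cE2503)) (BT.node 2505 (BT.node 2504 (BT.leaf cE2504) (BT.leaf cE2505)) (BT.leaf cE2506))) (BT.node 2509 (BT.node 2508 (BT.node 2507 (BT.leaf cE2507) (BT.leaf cE2508)) (BT.leaf cE2509)) (BT.node 2510 (BT.leaf cE2510) (BT.leaf cE2511)))) (BT.node 2516 (BT.node 2514 (BT.node 2513 (BT.node 2512 (BT.leaf cE2512) (BT.leaf cE2513)) (BT.leaf cE2514)) (BT.node 2515 (BT.leaf cE2515) (BT.leaf cE2516))) (BT.node 2519 (BT.node 2518 (BT.node 2517 (BT.leaf cE2517) (BT.leaf cE2518)) (BT.leaf cE2519)) (BT.node 2520 (BT.leaf cE2520) (BT.leaf cE2521)))))) (BT.node 2542 (BT.node 2532 (BT.node 2527 (BT.node 2524 (BT.node 2523 (BT.node 2522 (BT.leaf cE2522) (BT.leaf cE2523)) (BT.leaf cE2524)) (BT.node 2526 (BT.node 2525 (BT.leaf cE2525) (BT.leaf cE2526)) (BT.leaf cE2527))) (BT.node 2530 (BT.node 2529 (BT.node 2528 (BT.leaf cE2528) (BT.leaf cE2529)) (BT.leaf cE2530)) (BT.node 2531 (BT.leaf cE2531) (BT.leaf cE2532)))) (BT.node 2537 (BT.node 2535 (BT.node 2534 (BT.node 2533 (BT.leaf cE2533) (BT.leaf cE2534)) (BT.leaf cE2535)) (BT.node 2536 (BT.leaf cE2536) (BT.leaf cE2537))) (BT.node 2540 (BT.node 2539 (BT.node 2538 (BT.leaf cE2538) (BT.leaf cE2539)) (BT.leaf cE2540)) (BT.node 2541 (BT.leaf cE2541) (BT.leaf cE2542))))) (BT.node 2552 (BT.node 2547 (BT.node 2545 (BT.node 2544 (BT.node 2543 (BT.leaf cE2543) (BT.leaf cE2544)) (BT.leaf cE2545)) (BT.node 2546 (BT.leaf cE2546) (BT.leaf cE2547))) (BT.node 2550 (BT.node 2549 (BT.node 2548 (BT.leaf cE2548) (BT.leaf cE2549)) (BT.leaf cE2550)) (BT.node 2551 (BT.leaf cE2551) (BT.leaf cE2552)))) (BT.node 2557 (BT.node 2555 (BT.node 2554 (BT.node 2553 (BT.leaf cE2553) (BT.leaf cE2554)) (BT.leaf cE2555)) (BT.node 2556 (BT.leaf cE2556) (BT.leaf cE2557))) (BT.node 2560 (BT.node 2559 (BT.node 2558 (BT.leaf cE2558) (BT.leaf cE2559)) (BT.leaf cE2560)) (BT.node 2561 (BT.leaf cE2561) (BT.leaf cE2562))))))) (BT.node 2603 (BT.node 2583 (BT.node 2573 (BT.node 2568 (BT.node 2565 (BT.node 2564 (BT.node 2563 (BT.leaf cE2563) (BT.leaf cE2564)) (BT.leaf cE2565)) (BT.node 2567 (BT.node 2566 (BT.leaf cE2566) (BT.leaf cE2567)) (BT.leaf cE2568))) (BT.node 2571 (BT.node 2570 (BT.node 2569 (BT.leaf cE2569) (BT.leaf cE2570)) (BT.leaf cE2571)) (BT.node 2572 (BT.leaf cE2572) (BT.leaf cE2573)))) (BT.node 2578 (BT.node 2576 (BT.node 2575 (BT.node 2574 (BT.leaf cE2574) (BT.leaf cE2575)) (BT.leaf cE2576)) (BT.node 2577 (BT.leaf cE2577) (BT.leaf cE2578))) (BT.node 2581 (BT.node 2580 (BT.node 2579 (BT.leaf cE2579) (BT.leaf cE2580)) (BT.leaf cE2581)) (BT.node 2582 (BT.leaf cE2582) (BT.leaf cE2583))))) (BT.node 2593 (BT.node 2588 (BT.node 2586 (BT.node 2585 (BT.node 2584 (BT.leaf cE2584) (BT.leaf cE2585)) (BT.leaf cE2586)) (BT.node 2587 (BT.leaf cE2587) (BT.leaf cE2588))) (BT.node 2591 (BT.node 2590 (BT.node 2589 (BT.leaf cE2589) (BT.leaf cE2590)) (BT.leaf cE2591)) (BT.node 2592 (BT.leaf cE2592) (BT.leaf cE2593)))) (BT.node 2598 (BT.node 2596 (BT.node 2595 (BT.node 2594 (BT.leaf cE2594) (BT.leaf cE2595)) (BT.leaf cE2596)) (BT.node 2597 (BT.leaf cE2597) (BT.leaf cE2598))) (BT.node 2601 (BT.node 2600 (BT.node 2599 (BT.leaf cE2599) (BT.leaf cE2600)) (BT.leaf cE2601)) (BT.node 2602 (BT.leaf cE2602) (BT.leaf cE2603)))))) (BT.node 2624 (BT.node 2614 (BT.node 2609 (BT.node 2606 (BT.node 2605 (BT.node 2604 (BT.leaf cE2604) (BT.leaf cE2605)) (BT.leaf cE2606)) (BT.node 2608 (BT.node 2607 (BT.leaf cE2607) (BT.leaf cE2608)) (BT.leaf cE2609))) (BT.node 2612 (BT.node 2611 (BT.node 2610 (BT.leaf cE2610) (BT.leaf cE2611)) (BT.leaf cE2612)) (BT.node 2613 (BT.leaf cE2613) (BT.leaf cE2614)))) (BT.node 2619 (BT.node 2617 (BT.node 2616 (BT.node 2615 (BT.leaf cE2615) (BT.leaf cE2616)) (BT.leaf cE2617)) (BT.node 2618 (BT.leaf cE2618) (BT.leaf cE2619))) (BT.node 2622 (BT.node 2621 (BT.node 2620 (BT.leaf cE2620) (BT.leaf cE2621)) (BT.leaf cE2622)) (BT.node 2623 (BT.leaf cE2623) (BT.leaf cE2624))))) (BT.node 2634 (BT.node 2629 (BT.node 2627 (BT.node 2626 (BT.node 2625 (BT.leaf cE2625) (BT.leaf cE2626)) (BT.leaf cE2627)) (BT.node 2628 (BT.leaf cE2628) (BT.leaf cE2629))) (BT.node 2632 (BT.node 2631 (BT.node 2630 (BT.leaf cE2630) (BT.leaf cE2631)) (BT.leaf cE2632)) (BT.node 2633 (BT.leaf cE2633) (BT.leaf cE2634)))) (BT.node 2639 (BT.node 2637 (BT.node 2636 (BT.node 2635 (BT.leaf cE2635) (BT.leaf cE2636)) (BT.leaf cE2637)) (BT.node 2638 (BT.leaf cE2638) (BT.leaf cE2639))) (BT.node 2642 (BT.node 2641 (BT.node 2640 (BT.leaf cE2640) (BT.leaf cE2641)) (BT.leaf cE2642)) (BT.node 2643 (BT.leaf cE2643) (BT.leaf cE2644)))))))))))) (BT.node 3967 (BT.node 3306 (BT.node 2975 (BT.node 2810 (BT.node 2727 (BT.node 2686 (BT.node 2665 (BT.node 2655 (BT.node 2650 (BT.node 2647 (BT.node 2646 (BT.node 2645 (BT.leaf cE2645) (BT.leaf cE2646)) (BT.leaf cE2647)) (BT.node 2649 (BT.node 2648 (BT.leaf cE2648) (BT.leaf cE2649)) (BT.leaf cE2650))) (BT.node 2653 (BT.node 2652 (BT.node 2651 (BT.leaf cE2651) (BT.leaf cE2652)) (BT.leaf cE2653)) (BT.node 2654 (BT.leaf cE2654) (BT.leaf cE2655)))) (BT.node 2660 (BT.node 2658 (BT.node 2657 (BT.node 2656 (BT.leaf cE2656) (BT.leaf cE2657)) (BT.leaf cE2658)) (BT.node 2659 (BT.leaf cE2659) (BT.leaf cE2660))) (BT.node 2663 (BT.node 2662 (BT.node 2661 (BT.leaf cE2661) (BT.leaf cE2662)) (BT.leaf cE2663)) (BT.node 2664 (BT.leaf cE2664) (BT.leaf cE2665))))) (BT.node 2676 (BT.node 2671 (BT.node 2668 (BT.node 2667 (BT.node 2666 (BT.leaf cE2666) (BT.leaf cE2667)) (BT.leaf cE2668)) (BT.node 2670 (BT.node 2669 (BT.leaf cE2669) (BT.leaf cE2670)) (BT.leaf cE2671))) (BT.node 2674 (BT.node 2673 (BT.node 2672 (BT.leaf cE2672) (BT.leaf cE2673)) (BT.leaf cE2674)) (BT.node 2675 (BT.leaf cE2675) (BT.leaf cE2676)))) (BT.node 2681 (BT.node 2679 (BT.node 2678 (BT.node 2677 (BT.leaf cE2677) (BT.leaf cE2678)) (BT.leaf cE2679)) (BT.node 2680 (BT.leaf cE2680) (BT.leaf cE2681))) (BT.node 2684 (BT.node 2683 (BT.node 2682 (BT.leaf cE2682) (BT.leaf cE2683)) (BT.leaf cE2684)) (BT.node 2685 (BT.leaf cE2685) (BT.leaf cE2686)))))) (BT.node 2707 (BT.node 2697 (BT.node 2692 (BT.node 2689 (BT.node 2688 (BT.node 2687 (BT.leaf cE2687) (BT.leaf cE2688)) (BT.leaf cE2689)) (BT.node 2691 (BT.node 2690 (BT.leaf cE2690) (BT.leaf cE2691)) (BT.leaf cE2692))) (BT.node 2695 (BT.node 2694 (BT.node 2693 (BT.leaf cE2693) (BT.leaf cE2694)) (BT.leaf cE2695)) (BT.node 2696 (BT.leaf cE2696) (BT.leaf cE2697)))) (BT.node 2702 (BT.node 2700 (BT.node 2699 (BT.node 2698 (BT.leaf cE2698) (BT.leaf cE2699)) (BT.leaf cE2700)) (BT.node 2701 (BT.leaf cE2701) (BT.leaf cE2702))) (BT.node 2705 (BT.node 2704 (BT.node 2703 (BT.leaf cE2703) (BT.leaf cE2704)) (BT.leaf cE2705)) (BT.node 2706 (BT.leaf cE2706) (BT.leaf cE2707))))) (BT.node 2717 (BT.node 2712 (BT.node 2710 (BT.node 2709 (BT.node 2708 (BT.leaf cE2708) (BT.leaf cE2709)) (BT.leaf cE2710)) (BT.node 2711 (BT.leaf cE2711) (BT.leaf cE2712))) (BT.node 2715 (BT.node 2714 (BT.node 2713 (BT.leaf cE2713) (BT.leaf cE2714)) (BT.leaf cE2715)) (BT.node 2716 (BT.leaf cE2716) (BT.leaf cE2717)))) (BT.node 2722 (BT.node 2720 (BT.node 2719 (BT.node 2718 (BT.leaf cE2718) (BT.leaf cE2719)) (BT.leaf cE2720)) (BT.node 2721 (BT.leaf cE2721) (BT.leaf cE2722))) (BT.node 2725 (BT.node 2724 (BT.node 2723 (BT.leaf cE2723) (BT.leaf cE2724)) (BT.leaf cE2725)) (BT.node 2726 (BT.leaf cE2726) (BT.leaf cE2727))))))) (BT.node 2769 (BT.node 2748 (BT.node 2738 (BT.node 2733 (BT.node 2730 (BT.node 2729 (BT.node 2728 (BT.leaf cE2728) (BT.leaf cE2729)) (BT.leaf cE2730)) (BT.node 2732 (BT.node 2731 (BT.leaf cE2731) (BT.leaf cE2732)) (BT.leaf cE2733))) (BT.node 2736 (BT.node 2735 (BT.node 2734 (BT.leaf cE2734) (BT.leaf cE2735)) (BT.leaf cE2736)) (BT.node 2737 (BT.leaf cE2737) (BT.leaf cE2738)))) (BT.node 2743 (BT.node 2741 (BT.node 2740 (BT.node 2739 (BT.leaf cE2739) (BT.leaf cE2740)) (BT.leaf cE2741)) (BT.node 2742 (BT.leaf cE2742) (BT.leaf cE2743))) (BT.node 2746 (BT.node 2745 (BT.node 2744 (BT.leaf cE2744) (BT.leaf cE2745)) (BT.leaf cE2746)) (BT.node 2747 (BT.leaf cE2747) (BT.leaf cE2748))))) (BT.node 2759 (BT.node 2754 (BT.node 2751 (BT.node 2750 (BT.node 2749 (BT.leaf cE2749) (BT.leaf cE2750)) (BT.leaf cE2751)) (BT.node 2753 (BT.node 2752 (BT.leaf cE2752) (BT.leaf cE2753)) (BT.leaf cE2754))) (BT.node 2757 (BT.node 2756 (BT.node 2755 (BT.leaf cE2755) (BT.leaf cE2756)) (BT.leaf cE2757)) (BT.node 2758 (BT.leaf cE2758) (BT.leaf cE2759)))) (BT.node 2764 (BT.node 2762 (BT.node 2761 (BT.node 2760 (BT.leaf cE2760) (BT.leaf cE2761)) (BT.leaf cE2762)) (BT.node 2763 (BT.leaf cE2763) (BT.leaf cE2764))) (BT.node 2767 (BT.node 2766 (BT.node 2765 (BT.leaf cE2765) (BT.leaf cE2766)) (BT.leaf cE2767)) (BT.node 2768 (BT.leaf cE2768) (BT.leaf cE2769)))))) (BT.node 2790 (BT.node 2780 (BT.node 2775 (BT.node 2772 (BT.node 2771 (BT.node 2770 (BT.leaf cE2770) (BT.leaf cE2771)) (BT.leaf cE2772)) (BT.node 2774 (BT.node 2773 (BT.leaf cE2773) (BT.leaf cE2774)) (BT.leaf cE2775))) (BT.node 2778 (BT.node 2777 (BT.node 2776 (BT.leaf cE2776) (BT.leaf cE2777)) (BT.leaf cE2778)) (BT.node 2779 (BT.leaf cE2779) (BT.leaf cE2780)))) (BT.node 2785 (BT.node 2783 (BT.node 2782 (BT.node 2781 (BT.leaf cE2781) (BT.leaf cE2782)) (BT.leaf cE2783)) (BT.node 2784 (BT.leaf cE2784) (BT.leaf cE2785))) (BT.node 2788 (BT.node 2787 (BT.node 2786 (BT.leaf cE2786) (BT.leaf cE2787)) (BT.leaf cE2788)) (BT.node 2789 (BT.leaf cE2789) (BT.leaf cE2790))))) (BT.node 2800 (BT.node 2795 (BT.node 2793 (BT.node 2792 (BT.node 2791 (BT.leaf cE2791) (BT.leaf cE2792)) (BT.leaf cE2793)) (BT.node 2794 (BT.leaf cE2794) (BT.leaf cE2795))) (BT.node 2798 (BT.node 2797 (BT.node 2796 (BT.leaf cE2796) (BT.leaf cE2797)) (BT.leaf cE2798)) (BT.node 2799 (BT.leaf cE2799) (BT.leaf cE2800)))) (BT.node 2805 (BT.node 2803 (BT.node 2802 (BT.node 2801 (BT.leaf cE2801) (BT.leaf cE2802)) (BT.leaf cE2803)) (BT.node 2804 (BT.leaf cE2804) (BT.leaf cE2805))) (BT.node 2808 (BT.node 2807 (BT.node 2806 (BT.leaf cE2806) (BT.leaf cE2807)) (BT.leaf cE2808)) (BT.node 2809 (BT.leaf cE2809) (BT.leaf cE2810)))))))) (BT.node 2893 (BT.node 2852 (BT.node 2831 (BT.node 2821 (BT.node 2816 (BT.node 2813 (BT.node 2812 (BT.node 2811 (BT.leaf cE2811) (BT.leaf cE2812)) (BT.leaf cE2813)) (BT.node 2815 (BT.node 2814 (BT.leaf cE2814) (BT.leaf cE2815)) (BT.leaf cE2816))) (BT.node 2819 (BT.node 2818 (BT.node 2817 (BT.leaf cE2817) (BT.leaf cE2818)) (BT.leaf cE2819)) (BT.node 2820 (BT.leaf cE2820) (BT.leaf cE2821)))) (BT.node 2826 (BT.node 2824 (BT.node 2823 (BT.node 2822 (BT.leaf cE2822) (BT.leaf cE2823)) (BT.leaf cE2824)) (BT.node 2825 (BT.leaf cE2825) (BT.leaf cE2826))) (BT.node 2829 (BT.node 2828 (BT.node 2827 (BT.leaf cE2827) (BT.leaf cE2828)) (BT.leaf cE2829)) (BT.node 2830 (BT.leaf cE2830) (BT.leaf cE2831))))) (BT.node 2842 (BT.node 2837 (BT.node 2834 (BT.node 2833 (BT.node 2832 (BT.leaf cE2832) (BT.leaf cE2833)) (BT.leaf cE2834)) (BT.node 2836 (BT.node 2835 (BT.leaf cE2835) (BT.leaf cE2836)) (BT.leaf cE2837))) (BT.node 2840 (BT.node 2839 (BT.node 2838 (BT.leaf cE2838) (BT.leaf cE2839)) (BT.leaf cE2840)) (BT.node 2841 (BT.leaf cE2841) (BT.leaf cE2842)))) (BT.node 2847 (BT.node 2845 (BT.node 2844 (BT.node 2843 (BT.leaf cE2843) (BT.leaf cE2844)) (BT.leaf cE2845)) (BT.node 2846 (BT.leaf cE2846) (BT.leaf cE2847))) (BT.node 2850 (BT.node 2849 (BT.node 2848 (BT.leaf cE2848) (BT.leaf cE2849)) (BT.leaf cE2850)) (BT.node 2851 (BT.leaf cE2851) (BT.leaf cE2852)))))) (BT.node 2873 (BT.node 2863 (BT.node 2858 (BT.node 2855 (BT.node 2854 (BT.node 2853 (BT.leaf cE2853) (BT.leaf cE2854)) (BT.leaf cE2855)) (BT.node 2857 (BT.node 2856 (BT.leaf cE2856) (BT.leaf cE2857)) (BT.leaf cE2858))) (BT.node 2861 (BT.node 2860 (BT.node 2859 (BT.leaf cE2859) (BT.leaf cE2860)) (BT.leaf cE2861)) (BT.node 2862 (BT.leaf cE2862) (BT.leaf cE2863)))) (BT.node 2868 (BT.node 2866 (BT.node 2865 (BT.node 2864 (BT.leaf cE2864) (BT.leaf cE2865)) (BT.leaf cE2866)) (BT.node 2867 (BT.leaf cE2867) (BT.leaf cE2868))) (BT.node 2871 (BT.node 2870 (BT.node 2869 (BT.leaf cE2869) (BT.leaf cE2870)) (BT.leaf cE2871)) (BT.node 2872 (BT.leaf cE2872) (BT.leaf cE2873))))) (BT.node 2883 (BT.node 2878 (BT.node 2876 (BT.node 2875 (BT.node 2874 (BT.leaf cE2874) (BT.leaf cE2875)) (BT.leaf cE2876)) (BT.node 2877 (BT.leaf cE2877) (BT.leaf cE2878))) (BT.node 2881 (BT.node 2880 (BT.node 2879 (BT.leaf cE2879) (BT.leaf cE2880)) (BT.leaf cE2881)) (BT.node 2882 (BT.leaf cE2882) (BT.leaf cE2883)))) (BT.node 2888 (BT.node 2886 (BT.node 2885 (BT.node 2884 (BT.leaf cE2884) (BT.leaf cE2885)) (BT.leaf cE2886)) (BT.node 2887 (BT.leaf cE2887) (BT.leaf cE2888))) (BT.node 2891 (BT.node 2890 (BT.node 2889 (BT.leaf cE2889) (BT.leaf cE2890)) (BT.leaf cE2891)) (BT.node 2892 (BT.leaf cE2892) (BT.leaf cE2893))))))) (BT.node 2934 (BT.node 2914 (BT.node 2904 (BT.node 2899 (BT.node 2896 (BT.node 2895 (BT.node 2894 (BT.leaf cE2894) (BT.leaf cE2895)) (BT.leaf cE2896)) (BT.node 2898 (BT.node 2897 (BT.leaf cE2897) (BT.leaf cE2898)) (BT.leaf cE2899))) (BT.node 2902 (BT.node 2901 (BT.node 2900 (BT.leaf cE2900) (BT.leaf cE2901)) (BT.leaf cE2902)) (BT.node 2903 (BT.leaf cE2903) (BT.leaf cE2904)))) (BT.node 2909 (BT.node 2907 (BT.node 2906 (BT.node 2905 (BT.leaf cE2905) (BT.leaf cE2906)) (BT.leaf cE2907)) (BT.node 2908 (BT.leaf cE2908) (BT.leaf cE2909))) (BT.node 2912 (BT.node 2911 (BT.node 2910 (BT.leaf cE2910) (BT.leaf cE2911)) (BT.leaf cE2912)) (BT.node 2913 (BT.leaf cE2913) (BT.leaf cE2914))))) (BT.node 2924 (BT.node 2919 (BT.node 2917 (BT.node 2916 (BT.node 2915 (BT.leaf cE2915) (BT.leaf cE2916)) (BT.leaf cE2917)) (BT.node 2918 (BT.leaf cE2918) (BT.leaf cE2919))) (BT.node 2922 (BT.node 2921 (BT.node 2920 (BT.leaf cE2920) (BT.leaf cE2921)) (BT.leaf cE2922)) (BT.node 2923 (BT.leaf cE2923) (BT.leaf cE2924)))) (BT.node 2929 (BT.node 2927 (BT.node 2926 (BT.node 2925 (BT.leaf cE2925) (BT.leaf cE2926)) (BT.leaf cE2927)) (BT.node 2928 (BT.leaf cE2928) (BT.leaf cE2929))) (BT.node 2932 (BT.node 2931 (BT.node 2930 (BT.leaf cE2930) (BT.leaf cE2931)) (BT.leaf cE2932)) (BT.node 2933 (BT.leaf cE2933) (BT.leaf cE2934)))))) (BT.node 2955 (BT.node 2945 (BT.node 2940 (BT.node 2937 (BT.node 2936 (BT.node 2935 (BT.leaf cE2935) (BT.leaf cE2936)) (BT.leaf cE2937)) (BT.node 2939 (BT.node 2938 (BT.leaf cE2938) (BT.leaf cE2939)) (BT.leaf cE2940))) (BT.node 2943 (BT.node 2942 (BT.node 2941 (BT.leaf cE2941) (BT.leaf cE2942)) (BT.leaf cE2943)) (BT.node 2944 (BT.leaf cE2944) (BT.leaf cE2945)))) (BT.node 2950 (BT.node 2948 (BT.node 2947 (BT.node 2946 (BT.leaf cE2946) (BT.leaf cE2947)) (BT.leaf cE2948)) (BT.node 2949 (BT.leaf cE2949) (BT.leaf cE2950))) (BT.node 2953 (BT.node 2952 (BT.node 2951 (BT.leaf cE2951) (BT.leaf cE2952)) (BT.leaf cE2953)) (BT.node 2954 (BT.leaf cE2954) (BT.leaf cE2955))))) (BT.node 2965 (BT.node 2960 (BT.node 2958 (BT.node 2957 (BT.node 2956 (BT.leaf cE2956) (BT.leaf cE2957)) (BT.leaf cE2958)) (BT.node 2959 (BT.leaf cE2959) (BT.leaf cE2960))) (BT.node 2963 (BT.node 2962 (BT.node 2961 (BT.leaf cE2961) (BT.leaf cE2962)) (BT.leaf cE2963)) (BT.node 2964 (BT.leaf cE2964) (BT.leaf cE2965)))) (BT.node 2970 (BT.node 2968 (BT.node 2967 (BT.node 2966 (BT.leaf cE2966) (BT.leaf cE2967)) (BT.leaf cE2968)) (BT.node 2969 (BT.leaf cE2969) (BT.leaf cE2970))) (BT.node 2973 (BT.node 2972 (BT.node 2971 (BT.leaf cE2971) (BT.leaf cE2972)) (BT.leaf cE2973)) (BT.node 2974 (BT.leaf cE2974) (BT.leaf cE2975))))))))) (BT.node 3141 (BT.node 3058 (BT.node 3017 (BT.node 2996 (BT.node 2986 (BT.node 2981 (BT.node 2978 (BT.node 2977 (BT.node 2976 (BT.leaf cE2976) (BT.leaf cE2977)) (BT.leaf cE2978)) (BT.node 2980 (BT.node 2979 (BT.leaf cE2979) (BT.leaf cE2980)) (BT.leaf cE2981))) (BT.node 2984 (BT.node 2983 (BT.node 2982 (BT.leaf cE2982) (BT.leaf cE2983)) (BT.leaf cE2984)) (BT.node 2985 (BT.leaf cE2985) (BT.leaf cE2986)))) (BT.node 2991 (BT.node 2989 (BT.node 2988 (BT.node 2987 (BT.leaf cE2987) (BT.leaf cE2988)) (BT.leaf cE2989)) (BT.node 2990 (BT.leaf cE2990) (BT.leaf cE2991))) (BT.node 2994 (BT.node 2993 (BT.node 2992 (BT.leaf cE2992) (BT.leaf cE2993)) (BT.leaf cE2994)) (BT.node 2995 (BT.leaf cE2995) (BT.leaf cE2996))))) (BT.node 3007 (BT.node 3002 (BT.node 2999 (BT.node 2998 (BT.node 2997 (BT.leaf cE2997) (BT.leaf cE2998)) (BT.leaf cE2999)) (BT.node 3001 (BT.node 3000 (BT.leaf cE3000) (BT.leaf cE3001)) (BT.leaf cE3002))) (BT.node 3005 (BT.node 3004 (BT.node 3003 (BT.leaf cE3003) (BT.leaf cE3004)) (BT.leaf cE3005)) (BT.node 3006 (BT.leaf cE3006) (BT.leaf cE3007)))) (BT.node 3012 (BT.node 3010 (BT.node 3009 (BT.node 3008 (BT.leaf cE3008) (BT.leaf cE3009)) (BT.leaf cE3010)) (BT.node 3011 (BT.leaf cE3011) (BT.leaf cE3012))) (BT.node 3015 (BT.node 3014 (BT.node 3013 (BT.leaf cE3013) (BT.leaf cE3014)) (BT.leaf cE3015)) (BT.node 3016 (BT.leaf cE3016) (BT.leaf cE3017)))))) (BT.node 3038 (BT.node 3028 (BT.node 3023 (BT.node 3020 (BT.node 3019 (BT.node 3018 (BT.leaf cE3018) (BT.leaf cE3019)) (BT.leaf cE3020)) (BT.node 3022 (BT.node 3021 (BT.leaf cE3021) (BT.leaf cE3022)) (BT.leaf cE3023))) (BT.node 3026 (BT.node 3025 (BT.node 3024 (BT.leaf cE3024) (BT.leaf cE3025)) (BT.leaf cE3026)) (BT.node 3027 (BT.leaf cE3027) (BT.leaf cE3028)))) (BT.node 3033 (BT.node 3031 (BT.node 3030 (BT.node 3029 (BT.leaf cE3029) (BT.leaf cE3030)) (BT.leaf cE3031)) (BT.node 3032 (BT.leaf cE3032) (BT.leaf cE3033))) (BT.node 3036 (BT.node 3035 (BT.node 3034 (BT.leaf cE3034) (BT.leaf cE3035)) (BT.leaf cE3036)) (BT.node 3037 (BT.leaf cE3037) (BT.leaf cE3038))))) (BT.node 3048 (BT.node 3043 (BT.node 3041 (BT.node 3040 (BT.node 3039 (BT.leaf cE3039) (BT.leaf cE3040)) (BT.leaf cE3041)) (BT.node 3042 (BT.leaf cE3042) (BT.leaf cE3043))) (BT.node 3046 (BT.node 3045 (BT.node 3044 (BT.leaf cE3044) (BT.leaf cE3045)) (BT.leaf cE3046)) (BT.node 3047 (BT.leaf cE3047) (BT.leaf cE3048)))) (BT.node 3053 (BT.node 3051 (BT.node 3050 (BT.node 3049 (BT.leaf cE3049) (BT.leaf cE3050)) (BT.leaf cE3051)) (BT.node 3052 (BT.leaf cE3052) (BT.leaf cE3053))) (BT.node 3056 (BT.node 3055 (BT.node 3054 (BT.leaf cE3054) (BT.leaf cE3055)) (BT.leaf cE3056)) (BT.node 3057 (BT.leaf cE3057) (BT.leaf cE3058))))))) (BT.node 3100 (BT.node 3079 (BT.node 3069 (BT.node 3064 (BT.node 3061 (BT.node 3060 (BT.node 3059 (BT.leaf cE3059) (BT.leaf cE3060)) (BT.leaf cE3061)) (BT.node 3063 (BT.node 3062 (BT.leaf cE3062) (BT.leaf cE3063)) (BT.leaf cE3064))) (BT.node 3067 (BT.node 3066 (BT.node 3065 (BT.leaf cE3065) (BT.leaf cE3066)) (BT.leaf cE3067)) (BT.node 3068 (BT.leaf cE3068) (BT.leaf cE3069)))) (BT.node 3074 (BT.node 3072 (BT.node 3071 (BT.node 3070 (BT.leaf cE3070) (BT.leaf cE3071)) (BT.leaf cE3072)) (BT.node 3073 (BT.leaf cE3073) (BT.leaf cE3074))) (BT.node 3077 (BT.node 3076 (BT.node 3075 (BT.leaf cE3075) (BT.leaf cE3076)) (BT.leaf cE3077)) (BT.node 3078 (BT.leaf cE3078) (BT.leaf cE3079))))) (BT.node 3090 (BT.node 3085 (BT.node 3082 (BT.node 3081 (BT.node 3080 (BT.leaf cE3080) (BT.leaf cE3081)) (BT.leaf cE3082)) (BT.node 3084 (BT.node 3083 (BT.leaf cE3083) (BT.leaf cE3084)) (BT.leaf cE3085))) (BT.node 3088 (BT.node 3087 (BT.node 3086 (BT.leaf cE3086) (BT.leaf cE3087)) (BT.leaf cE3088)) (BT.node 3089 (BT.leaf cE3089) (BT.leaf cE3090)))) (BT.node 3095 (BT.node 3093 (BT.node 3092 (BT.node 3091 (BT.leaf cE3091) (BT.leaf cE3092)) (BT.leaf cE3093)) (BT.node 3094 (BT.leaf cE3094) (BT.leaf cE3095))) (BT.node 3098 (BT.node 3097 (BT.node 3096 (BT.leaf cE3096) (BT.leaf cE3097)) (BT.leaf cE3098)) (BT.node 3099 (BT.leaf cE3099) (BT.leaf cE3100)))))) (BT.node 3121 (BT.node 3111 (BT.node 3106 (BT.node 3103 (BT.node 3102 (BT.node 3101 (BT.leaf cE3101) (BT.leaf cE3102)) (BT.leaf cE3103)) (BT.node 3105 (BT.node 3104 (BT.leaf cE3104) (BT.leaf cE3105)) (BT.leaf cE3106))) (BT.node 3109 (BT.node 3108 (BT.node 3107 (BT.leaf cE3107) (BT.leaf cE3108)) (BT.leaf cE3109)) (BT.node 3110 (BT.leaf cE3110) (BT.leaf cE3111)))) (BT.node 3116 (BT.node 3114 (BT.node 3113 (BT.node 3112 (BT.leaf cE3112) (BT.leaf cE3113)) (BT.leaf cE3114)) (BT.node 3115 (BT.leaf cE3115) (BT.leaf cE3116))) (BT.node 3119 (BT.node 3118 (BT.node 3117 (BT.leaf cE3117) (BT.leaf cE3118)) (BT.leaf cE3119)) (BT.node 3120 (BT.leaf cE3120) (BT.leaf cE3121))))) (BT.node 3131 (BT.node 3126 (BT.node 3124 (BT.node 3123 (BT.node 3122 (BT.leaf cE3122) (BT.leaf cE3123)) (BT.leaf cE3124)) (BT.node 3125 (BT.leaf cE3125) (BT.leaf cE3126))) (BT.node 3129 (BT.node 3128 (BT.node 3127 (BT.leaf cE3127) (BT.leaf cE3128)) (BT.leaf cE3129)) (BT.node 3130 (BT.leaf cE3130) (BT.leaf cE3131)))) (BT.node 3136 (BT.node 3134 (BT.node 3133 (BT.node 3132 (BT.leaf cE3132) (BT.leaf cE3133)) (BT.leaf cE3134)) (BT.node 3135 (BT.leaf cE3135) (BT.leaf cE3136))) (BT.node 3139 (BT.node 3138 (BT.node 3137 (BT.leaf cE3137) (BT.leaf cE3138)) (BT.leaf cE3139)) (BT.node 3140 (BT.leaf cE3140) (BT.leaf cE3141)))))))) (BT.node 3224 (BT.node 3183 (BT.node 3162 (BT.node 3152 (BT.node 3147 (BT.node 3144 (BT.node 3143 (BT.node 3142 (BT.leaf cE3142) (BT.leaf cE3143)) (BT.leaf cE3144)) (BT.node 3146 (BT.node 3145 (BT.leaf cE3145) (BT.leaf cE3146)) (BT.leaf cE3147))) (BT.node 3150 (BT.node 3149 (BT.node 3148 (BT.leaf cE3148) (BT.leaf cE3149)) (BT.leaf cE3150)) (BT.node 3151 (BT.leaf cE3151) (BT.leaf cE3152)))) (BT.node 3157 (BT.node 3155 (BT.node 3154 (BT.node 3153 (BT.leaf cE3153) (BT.leaf cE3154)) (BT.leaf cE3155)) (BT.node 3156 (BT.leaf cE3156) (BT.leaf cE3157))) (BT.node 3160 (BT.node 3159 (BT.node 3158 (BT.leaf cE3158) (BT.leaf cE3159)) (BT.leaf cE3160)) (BT.node 3161 (BT.leaf cE3161) (BT.leaf cE3162))))) (BT.node 3173 (BT.node 3168 (BT.node 3165 (BT.node 3164 (BT.node 3163 (BT.leaf cE3163) (BT.leaf cE3164)) (BT.leaf cE3165)) (BT.node 3167 (BT.node 3166 (BT.leaf cE3166) (BT.leaf cE3167)) (BT.leaf cE3168))) (BT.node 3171 (BT.node 3170 (BT.node 3169 (BT.leaf cE3169) (BT.leaf cE3170)) (BT.leaf cE3171)) (BT.node 3172 (BT.leaf cE3172) (BT.leaf cE3173)))) (BT.node 3178 (BT.node 3176 (BT.node 3175 (BT.node 3174 (BT.leaf cE3174) (BT.leaf cE3175)) (BT.leaf cE3176)) (BT.node 3177 (BT.leaf cE3177) (BT.leaf cE3178))) (BT.node 3181 (BT.node 3180 (BT.node 3179 (BT.leaf cE3179) (BT.leaf cE3180)) (BT.leaf cE3181)) (BT.node 3182 (BT.leaf cE3182) (BT.leaf cE3183)))))) (BT.node 3204 (BT.node 3194 (BT.node 3189 (BT.node 3186 (BT.node 3185 (BT.node 3184 (BT.leaf cE3184) (BT.leaf cE3185)) (BT.leaf cE3186)) (BT.node 3188 (BT.node 3187 (BT.leaf cE3187) (BT.leaf cE3188)) (BT.leaf cE3189))) (BT.node 3192 (BT.node 3191 (BT.node 3190 (BT.leaf cE3190) (BT.leaf cE3191)) (BT.leaf cE3192)) (BT.node 3193 (BT.leaf cE3193) (BT.leaf cE3194)))) (BT.node 3199 (BT.node 3197 (BT.node 3196 (BT.node 3195 (BT.leaf cE3195) (BT.leaf cE3196)) (BT.leaf cE3197)) (BT.node 3198 (BT.leaf cE3198) (BT.leaf cE3199))) (BT.node 3202 (BT.node 3201 (BT.node 3200 (BT.leaf cE3200) (BT.leaf cE3201)) (BT.leaf cE3202)) (BT.node 3203 (BT.leaf cE3203) (BT.leaf cE3204))))) (BT.node 3214 (BT.node 3209 (BT.node 3207 (BT.node 3206 (BT.node 3205 (BT.leaf cE3205) (BT.leaf cE3206)) (BT.leaf cE3207)) (BT.node 3208 (BT.leaf cE3208) (BT.leaf cE3209))) (BT.node 3212 (BT.node 3211 (BT.node 3210 (BT.leaf cE3210) (BT.leaf cE3211)) (BT.leaf cE3212)) (BT.node 3213 (BT.leaf cE3213) (BT.leaf cE3214)))) (BT.node 3219 (BT.node 3217 (BT.node 3216 (BT.node 3215 (BT.leaf cE3215) (BT.leaf cE3216)) (BT.leaf cE3217)) (BT.node 3218 (BT.leaf cE3218) (BT.leaf cE3219))) (BT.node 3222 (BT.node 3221 (BT.node 3220 (BT.leaf cE3220) (BT.leaf cE3221)) (BT.leaf cE3222)) (BT.node 3223 (BT.leaf cE3223) (BT.leaf cE3224))))))) (BT.node 3265 (BT.node 3245 (BT.node 3235 (BT.node 3230 (BT.node 3227 (BT.node 3226 (BT.node 3225 (BT.leaf cE3225) (BT.leaf cE3226)) (BT.leaf cE3227)) (BT.node 3229 (BT.node 3228 (BT.leaf cE3228) (BT.leaf cE3229)) (BT.leaf cE3230))) (BT.node 3233 (BT.node 3232 (BT.node 3231 (BT.leaf cE3231) (BT.leaf cE3232)) (BT.leaf cE3233)) (BT.node 3234 (BT.leaf cE3234) (BT.leaf cE3235)))) (BT.node 3240 (BT.node 3238 (BT.node 3237 (BT.node 3236 (BT.leaf cE3236) (BT.leaf cE3237)) (BT.leaf cE3238)) (BT.node 3239 (BT.leaf cE3239) (BT.leaf cE3240))) (BT.node 3243 (BT.node 3242 (BT.node 3241 (BT.leaf cE3241) (BT.leaf cE3242)) (BT.leaf cE3243)) (BT.node 3244 (BT.leaf cE3244) (BT.leaf cE3245))))) (BT.node 3255 (BT.node 3250 (BT.node 3248 (BT.node 3247 (BT.node 3246 (BT.leaf cE3246) (BT.leaf cE3247)) (BT.leaf cE3248)) (BT.node 3249 (BT.leaf cE3249) (BT.leaf cE3250))) (BT.node 3253 (BT.node 3252 (BT.node 3251 (BT.leaf cE3251) (BT.leaf cE3252)) (BT.leaf cE3253)) (BT.node 3254 (BT.leaf cE3254) (BT.leaf cE3255)))) (BT.node 3260 (BT.node 3258 (BT.node 3257 (BT.node 3256 (BT.leaf cE3256) (BT.leaf cE3257)) (BT.leaf cE3258)) (BT.node 3259 (BT.leaf cE3259) (BT.leaf cE3260))) (BT.node 3263 (BT.node 3262 (BT.node 3261 (BT.leaf cE3261) (BT.leaf cE3262)) (BT.leaf cE3263)) (BT.node 3264 (BT.leaf cE3264) (BT.leaf cE3265)))))) (BT.node 3286 (BT.node 3276 (BT.node 3271 (BT.node 3268 (BT.node 3267 (BT.node 3266 (BT.leaf cE3266) (BT.leaf cE3267)) (BT.leaf cE3268)) (BT.node 3270 (BT.node 3269 (BT.leaf cE3269) (BT.leaf cE3270)) (BT.leaf cE3271))) (BT.node 3274 (BT.node 3273 (BT.node 3272 (BT.leaf cE3272) (BT.leaf cE3273)) (BT.leaf cE3274)) (BT.node 3275 (BT.leaf cE3275) (BT.leaf cE3276)))) (BT.node 3281 (BT.node 3279 (BT.node 3278 (BT.node 3277 (BT.leaf cE3277) (BT.leaf cE3278)) (BT.leaf cE3279)) (BT.node 3280 (BT.leaf cE3280) (BT.leaf cE3281))) (BT.node 3284 (BT.node 3283 (BT.node 3282 (BT.leaf cE3282) (BT.leaf cE3283)) (BT.leaf cE3284)) (BT.node 3285 (BT.leaf cE3285) (BT.leaf cE3286))))) (BT.node 3296 (BT.node 3291 (BT.node 3289 (BT.node 3288 (BT.node 3287 (BT.leaf cE3287) (BT.leaf cE3288)) (BT.leaf cE3289)) (BT.node 3290 (BT.leaf cE3290) (BT.leaf cE3291))) (BT.node 3294 (BT.node 3293 (BT.node 3292 (BT.leaf cE3292) (BT.leaf cE3293)) (BT.leaf cE3294)) (BT.node 3295 (BT.leaf cE3295) (BT.leaf cE3296)))) (BT.node 3301 (BT.node 3299 (BT.node 3298 (BT.node 3297 (BT.leaf cE3297) (BT.leaf cE3298)) (BT.leaf cE3299)) (BT.node 3300 (BT.leaf cE3300) (BT.leaf cE3301))) (BT.node 3304 (BT.node 3303 (BT.node 3302 (BT.leaf cE3302) (BT.leaf cE3303)) (BT.leaf cE3304)) (BT.node 3305 (BT.leaf cE3305) (BT.leaf cE3306)))))))))) (BT.node 3637 (BT.node 3472 (BT.node 3389 (BT.node 3348 (BT.node 3327 (BT.node 3317 (BT.node 3312 (BT.node 3309 (BT.node 3308 (BT.node 3307 (BT.leaf cE3307) (BT.leaf cE3308)) (BT.leaf cE3309)) (BT.node 3311 (BT.node 3310 (BT.leaf cE3310) (BT.leaf cE3311)) (BT.leaf cE3312))) (BT.node 3315 (BT.node 3314 (BT.node 3313 (BT.leaf cE3313) (BT.leaf cE3314)) (BT.leaf cE3315)) (BT.node 3316 (BT.leaf cE3316) (BT.leaf cE3317)))) (BT.node 3322 (BT.node 3320 (BT.node 3319 (BT.node 3318 (BT.leaf cE3318) (BT.leaf cE3319)) (BT.leaf cE3320)) (BT.node 3321 (BT.leaf cE3321) (BT.leaf cE3322))) (BT.node 3325 (BT.node 3324 (BT.node 3323 (BT.leaf cE3323) (BT.leaf cE3324)) (BT.leaf cE3325)) (BT.node 3326 (BT.leaf cE3326) (BT.leaf cE3327))))) (BT.node 3338 (BT.node 3333 (BT.node 3330 (BT.node 3329 (BT.node 3328 (BT.leaf cE3328) (BT.leaf cE3329)) (BT.leaf cE3330)) (BT.node 3332 (BT.node 3331 (BT.leaf cE3331) (BT.leaf cE3332)) (BT.leaf cE3333))) (BT.node 3336 (BT.node 3335 (BT.node 3334 (BT.leaf cE3334) (BT.leaf cE3335)) (BT.leaf cE3336)) (BT.node 3337 (BT.leaf cE3337) (BT.leaf cE3338)))) (BT.node 3343 (BT.node 3341 (BT.node 3340 (BT.node 3339 (BT.leaf cE3339) (BT.leaf cE3340)) (BT.leaf cE3341)) (BT.node 3342 (BT.leaf cE3342) (BT.leaf cE3343))) (BT.node 3346 (BT.node 3345 (BT.node 3344 (BT.leaf cE3344) (BT.leaf cE3345)) (BT.leaf cE3346)) (BT.node 3347 (BT.leaf cE3347) (BT.leaf cE3348)))))) (BT.node 3369 (BT.node 3359 (BT.node 3354 (BT.node 3351 (BT.node 3350 (BT.node 3349 (BT.leaf cE3349) (BT.leaf cE3350)) (BT.leaf cE3351)) (BT.node 3353 (BT.node 3352 (BT.leaf cE3352) (BT.leaf cE3353)) (BT.leaf cE3354))) (BT.node 3357 (BT.node 3356 (BT.node 3355 (BT.leaf cE3355) (BT.leaf cE3356)) (BT.leaf cE3357)) (BT.node 3358 (BT.leaf cE3358) (BT.leaf cE3359)))) (BT.node 3364 (BT.node 3362 (BT.node 3361 (BT.node 3360 (BT.leaf cE3360) (BT.leaf cE3361)) (BT.leaf cE3362)) (BT.node 3363 (BT.leaf cE3363) (BT.leaf cE3364))) (BT.node 3367 (BT.node 3366 (BT.node 3365 (BT.leaf cE3365) (BT.leaf cE3366)) (BT.leaf cE3367)) (BT.node 3368 (BT.leaf cE3368) (BT.leaf cE3369))))) (BT.node 3379 (BT.node 3374 (BT.node 3372 (BT.node 3371 (BT.node 3370 (BT.leaf cE3370) (BT.leaf cE3371)) (BT.leaf cE3372)) (BT.node 3373 (BT.leaf cE3373) (BT.leaf cE3374))) (BT.node 3377 (BT.node 3376 (BT.node 3375 (BT.leaf cE3375) (BT.leaf cE3376)) (BT.leaf cE3377)) (BT.node 3378 (BT.leaf cE3378) (BT.leaf cE3379)))) (BT.node 3384 (BT.node 3382 (BT.node 3381 (BT.node 3380 (BT.leaf cE3380) (BT.leaf cE3381)) (BT.leaf cE3382)) (BT.node 3383 (BT.leaf cE3383) (BT.leaf cE3384))) (BT.node 3387 (BT.node 3386 (BT.node 3385 (BT.leaf cE3385) (BT.leaf cE3386)) (BT.leaf cE3387)) (BT.node 3388 (BT.leaf cE3388) (BT.leaf cE3389))))))) (BT.node 3431 (BT.node 3410 (BT.node 3400 (BT.node 3395 (BT.node 3392 (BT.node 3391 (BT.node 3390 (BT.leaf cE3390) (BT.leaf cE3391)) (BT.leaf cE3392)) (BT.node 3394 (BT.node 3393 (BT.leaf cE3393) (BT.leaf cE3394)) (BT.leaf cE3395))) (BT.node 3398 (BT.node 3397 (BT.node 3396 (BT.leaf cE3396) (BT.leaf cE3397)) (BT.leaf cE3398)) (BT.node 3399 (BT.leaf cE3399) (BT.leaf cE3400)))) (BT.node 3405 (BT.node 3403 (BT.node 3402 (BT.node 3401 (BT.leaf cE3401) (BT.leaf cE3402)) (BT.leaf cE3403)) (BT.node 3404 (BT.leaf cE3404) (BT.leaf cE3405))) (BT.node 3408 (BT.node 3407 (BT.node 3406 (BT.leaf cE3406) (BT.leaf cE3407)) (BT.leaf cE3408)) (BT.node 3409 (BT.leaf cE3409) (BT.leaf cE3410))))) (BT.node 3421 (BT.node 3416 (BT.node 3413 (BT.node 3412 (BT.node 3411 (BT.leaf cE3411) (BT.leaf cE3412)) (BT.leaf cE3413)) (BT.node 3415 (BT.node 3414 (BT.leaf cE3414) (BT.leaf cE3415)) (BT.leaf cE3416))) (BT.node 3419 (BT.node 3418 (BT.node 3417 (BT.leaf cE3417) (BT.leaf cE3418)) (BT.leaf cE3419)) (BT.node 3420 (BT.leaf cE3420) (BT.leaf cE3421)))) (BT.node 3426 (BT.node 3424 (BT.node 3423 (BT.node 3422 (BT.leaf cE3422) (BT.leaf cE3423)) (BT.leaf cE3424)) (BT.node 3425 (BT.leaf cE3425) (BT.leaf cE3426))) (BT.node 3429 (BT.node 3428 (BT.node 3427 (BT.leaf cE3427) (BT.leaf cE3428)) (BT.leaf cE3429)) (BT.node 3430 (BT.leaf cE3430) (BT.leaf cE3431)))))) (BT.node 3452 (BT.node 3442 (BT.node 3437 (BT.node 3434 (BT.node 3433 (BT.node 3432 (BT.leaf cE3432) (BT.leaf cE3433)) (BT.leaf cE3434)) (BT.node 3436 (BT.node 3435 (BT.leaf cE3435) (BT.leaf cE3436)) (BT.leaf cE3437))) (BT.node 3440 (BT.node 3439 (BT.node 3438 (BT.leaf cE3438) (BT.leaf cE3439)) (BT.leaf cE3440)) (BT.node 3441 (BT.leaf cE3441) (BT.leaf cE3442)))) (BT.node 3447 (BT.node 3445 (BT.node 3444 (BT.node 3443 (BT.leaf cE3443) (BT.leaf cE3444)) (BT.leaf cE3445)) (BT.node 3446 (BT.leaf cE3446) (BT.leaf cE3447))) (BT.node 3450 (BT.node 3449 (BT.node 3448 (BT.leaf cE3448) (BT.leaf cE3449)) (BT.leaf cE3450)) (BT.node 3451 (BT.leaf cE3451) (BT.leaf cE3452))))) (BT.node 3462 (BT.node 3457 (BT.node 3455 (BT.node 3454 (BT.node 3453 (BT.leaf cE3453) (BT.leaf cE3454)) (BT.leaf cE3455)) (BT.node 3456 (BT.leaf cE3456) (BT.leaf cE3457))) (BT.node 3460 (BT.node 3459 (BT.node 3458 (BT.leaf cE3458) (BT.leaf cE3459)) (BT.leaf cE3460)) (BT.node 3461 (BT.leaf cE3461) (BT.leaf cE3462)))) (BT.node 3467 (BT.node 3465 (BT.node 3464 (BT.node 3463 (BT.leaf cE3463) (BT.leaf cE3464)) (BT.leaf cE3465)) (BT.node 3466 (BT.leaf cE3466) (BT.leaf cE3467))) (BT.node 3470 (BT.node 3469 (BT.node 3468 (BT.leaf cE3468) (BT.leaf cE3469)) (BT.leaf cE3470)) (BT.node 3471 (BT.leaf cE3471) (BT.leaf cE3472)))))))) (BT.node 3555 (BT.node 3514 (BT.node 3493 (BT.node 3483 (BT.node 3478 (BT.node 3475 (BT.node 3474 (BT.node 3473 (BT.leaf cE3473) (BT.leaf cE3474)) (BT.leaf cE3475)) (BT.node 3477 (BT.node 3476 (BT.leaf cE3476) (BT.leaf cE3477)) (BT.leaf cE3478))) (BT.node 3481 (BT.node 3480 (BT.node 3479 (BT.leaf cE3479) (BT.leaf cE3480)) (BT.leaf cE3481)) (BT.node 3482 (BT.leaf cE3482) (BT.leaf cE3483)))) (BT.node 3488 (BT.node 3486 (BT.node 3485 (BT.node 3484 (BT.leaf cE3484) (BT.leaf cE3485)) (BT.leaf cE3486)) (BT.node 3487 (BT.leaf cE3487) (BT.leaf cE3488))) (BT.node 3491 (BT.node 3490 (BT.node 3489 (BT.leaf cE3489) (BT.leaf cE3490)) (BT.leaf cE3491)) (BT.node 3492 (BT.leaf cE3492) (BT.leaf cE3493))))) (BT.node 3504 (BT.node 3499 (BT.node 3496 (BT.node 3495 (BT.node 3494 (BT.leaf cE3494) (BT.leaf cE3495)) (BT.leaf cE3496)) (BT.node 3498 (BT.node 3497 (BT.leaf cE3497) (BT.leaf cE3498)) (BT.leaf cE3499))) (BT.node 3502 (BT.node 3501 (BT.node 3500 (BT.leaf cE3500) (BT.leaf cE3501)) (BT.leaf cE3502)) (BT.node 3503 (BT.leaf cE3503) (BT.leaf cE3504)))) (BT.node 3509 (BT.node 3507 (BT.node 3506 (BT.node 3505 (BT.leaf cE3505) (BT.leaf cE3506)) (BT.leaf cE3507)) (BT.node 3508 (BT.leaf cE3508) (BT.leaf cE3509))) (BT.node 3512 (BT.node 3511 (BT.node 3510 (BT.leaf cE3510) (BT.leaf cE3511)) (BT.leaf cE3512)) (BT.node 3513 (BT.leaf cE3513) (BT.leaf cE3514)))))) (BT.node 3535 (BT.node 3525 (BT.node 3520 (BT.node 3517 (BT.node 3516 (BT.node 3515 (BT.leaf cE3515) (BT.leaf cE3516)) (BT.leaf cE3517)) (BT.node 3519 (BT.node 3518 (BT.leaf cE3518) (BT.leaf cE3519)) (BT.leaf cE3520))) (BT.node 3523 (BT.node 3522 (BT.node 3521 (BT.leaf cE3521) (BT.leaf cE3522)) (BT.leaf cE3523)) (BT.node 3524 (BT.leaf cE3524) (BT.leaf cE3525)))) (BT.node 3530 (BT.node 3528 (BT.node 3527 (BT.node 3526 (BT.leaf cE3526) (BT.leaf cE3527)) (BT.leaf cE3528)) (BT.node 3529 (BT.leaf cE3529) (BT.leaf cE3530))) (BT.node 3533 (BT.node 3532 (BT.node 3531 (BT.leaf cE3531) (BT.leaf cE3532)) (BT.leaf cE3533)) (BT.node 3534 (BT.leaf cE3534) (BT.leaf cE3535))))) (BT.node 3545 (BT.node 3540 (BT.node 3538 (BT.node 3537 (BT.node 3536 (BT.leaf cE3536) (BT.leaf cE3537)) (BT.leaf cE3538)) (BT.node 3539 (BT.leaf cE3539) (BT.leaf cE3540))) (BT.node 3543 (BT.node 3542 (BT.node 3541 (BT.leaf cE3541) (BT.leaf cE3542)) (BT.leaf cE3543)) (BT.node 3544 (BT.leaf cE3544) (BT.leaf cE3545)))) (BT.node 3550 (BT.node 3548 (BT.node 3547 (BT.node 3546 (BT.leaf cE3546) (BT.leaf cE3547)) (BT.leaf cE3548)) (BT.node 3549 (BT.leaf cE3549) (BT.leaf cE3550))) (BT.node 3553 (BT.node 3552 (BT.node 3551 (BT.leaf cE3551) (BT.leaf cE3552)) (BT.leaf cE3553)) (BT.node 3554 (BT.leaf cE3554) (BT.leaf cE3555))))))) (BT.node 3596 (BT.node 3576 (BT.node 3566 (BT.node 3561 (BT.node 3558 (BT.node 3557 (BT.node 3556 (BT.leaf cE3556) (BT.leaf cE3557)) (BT.leaf cE3558)) (BT.node 3560 (BT.node 3559 (BT.leaf cE3559) (BT.leaf cE3560)) (BT.leaf cE3561))) (BT.node 3564 (BT.node 3563 (BT.node 3562 (BT.leaf cE3562) (BT.leaf cE3563)) (BT.leaf cE3564)) (BT.node 3565 (BT.leaf cE3565) (BT.leaf cE3566)))) (BT.node 3571 (BT.node 3569 (BT.node 3568 (BT.node 3567 (BT.leaf cE3567) (BT.leaf cE3568)) (BT.leaf cE3569)) (BT.node 3570 (BT.leaf cE3570) (BT.leaf cE3571))) (BT.node 3574 (BT.node 3573 (BT.node 3572 (BT.leaf cE3572) (BT.leaf cE3573)) (BT.leaf cE3574)) (BT.node 3575 (BT.leaf cE3575) (BT.leaf cE3576))))) (BT.node 3586 (BT.node 3581 (BT.node 3579 (BT.node 3578 (BT.node 3577 (BT.leaf cE3577) (BT.leaf cE3578)) (BT.leaf cE3579)) (BT.node 3580 (BT.leaf cE3580) (BT.leaf cE3581))) (BT.node 3584 (BT.node 3583 (BT.node 3582 (BT.leaf cE3582) (BT.leaf cE3583)) (BT.leaf cE3584)) (BT.node 3585 (BT.leaf cE3585) (BT.leaf cE3586)))) (BT.node 3591 (BT.node 3589 (BT.node 3588 (BT.node 3587 (BT.leaf cE3587) (BT.leaf cE3588)) (BT.leaf cE3589)) (BT.node 3590 (BT.leaf cE3590) (BT.leaf cE3591))) (BT.node 3594 (BT.node 3593 (BT.node 3592 (BT.leaf cE3592) (BT.leaf cE3593)) (BT.leaf cE3594)) (BT.node 3595 (BT.leaf cE3595) (BT.leaf cE3596)))))) (BT.node 3617 (BT.node 3607 (BT.node 3602 (BT.node 3599 (BT.node 3598 (BT.node 3597 (BT.leaf cE3597) (BT.leaf cE3598)) (BT.leaf cE3599)) (BT.node 3601 (BT.node 3600 (BT.leaf cE3600) (BT.leaf cE3601)) (BT.leaf cE3602))) (BT.node 3605 (BT.node 3604 (BT.node 3603 (BT.leaf cE3603) (BT.leaf cE3604)) (BT.leaf cE3605)) (BT.node 3606 (BT.leaf cE3606) (BT.leaf cE3607)))) (BT.node 3612 (BT.node 3610 (BT.node 3609 (BT.node 3608 (BT.leaf cE3608) (BT.leaf cE3609)) (BT.leaf cE3610)) (BT.node 3611 (BT.leaf cE3611) (BT.leaf cE3612))) (BT.node 3615 (BT.node 3614 (BT.node 3613 (BT.leaf cE3613) (BT.leaf cE3614)) (BT.leaf cE3615)) (BT.node 3616 (BT.leaf cE3616) (BT.leaf cE3617))))) (BT.node 3627 (BT.node 3622 (BT.node 3620 (BT.node 3619 (BT.node 3618 (BT.leaf cE3618) (BT.leaf cE3619)) (BT.leaf cE3620)) (BT.node 3621 (BT.leaf cE3621) (BT.leaf cE3622))) (BT.node 3625 (BT.node 3624 (BT.node 3623 (BT.leaf cE3623) (BT.leaf cE3624)) (BT.leaf cE3625)) (BT.node 3626 (BT.leaf cE3626) (BT.leaf cE3627)))) (BT.node 3632 (BT.node 3630 (BT.node 3629 (BT.node 3628 (BT.leaf cE3628) (BT.leaf cE3629)) (BT.leaf cE3630)) (BT.node 3631 (BT.leaf cE3631) (BT.leaf cE3632))) (BT.node 3635 (BT.node 3634 (BT.node 3633 (BT.leaf cE3633) (BT.leaf cE3634)) (BT.leaf cE3635)) (BT.node 3636 (BT.leaf cE3636) (BT.leaf cE3637))))))))) (BT.node 3802 (BT.node 3720 (BT.node 3679 (BT.node 3658 (BT.node 3648 (BT.node 3643 (BT.node 3640 (BT.node 3639 (BT.node 3638 (BT.leaf cE3638) (BT.leaf cE3639)) (BT.leaf cE3640)) (BT.node 3642 (BT.node 3641 (BT.leaf cE3641) (BT.leaf cE3642)) (BT.leaf cE3643))) (BT.node 3646 (BT.node 3645 (BT.node 3644 (BT.leaf cE3644) (BT.leaf cE3645)) (BT.leaf cE3646)) (BT.node 3647 (BT.leaf cE3647) (BT.leaf cE3648)))) (BT.node 3653 (BT.node 3651 (BT.node 3650 (BT.node 3649 (BT.leaf cE3649) (BT.leaf cE3650)) (BT.leaf cE3651)) (BT.node 3652 (BT.leaf cE3652) (BT.leaf cE3653))) (BT.node 3656 (BT.node 3655 (BT.node 3654 (BT.leaf cE3654) (BT.leaf cE3655)) (BT.leaf cE3656)) (BT.node 3657 (BT.leaf cE3657) (BT.leaf cE3658))))) (BT.node 3669 (BT.node 3664 (BT.node 3661 (BT.node 3660 (BT.node 3659 (BT.leaf cE3659) (BT.leaf cE3660)) (BT.leaf cE3661)) (BT.node 3663 (BT.node 3662 (BT.leaf cE3662) (BT.leaf cE3663)) (BT.leaf cE3664))) (BT.node 3667 (BT.node 3666 (BT.node 3665 (BT.leaf cE3665) (BT.leaf cE3666)) (BT.leaf cE3667)) (BT.node 3668 (BT.leaf cE3668) (BT.leaf cE3669)))) (BT.node 3674 (BT.node 3672 (BT.node 3671 (BT.node 3670 (BT.leaf cE3670) (BT.leaf cE3671)) (BT.leaf cE3672)) (BT.node 3673 (BT.leaf cE3673) (BT.leaf cE3674))) (BT.node 3677 (BT.node 3676 (BT.node 3675 (BT.leaf cE3675) (BT.leaf cE3676)) (BT.leaf cE3677)) (BT.node 3678 (BT.leaf cE3678) (BT.leaf cE3679)))))) (BT.node 3700 (BT.node 3690 (BT.node 3685 (BT.node 3682 (BT.node 3681 (BT.node 3680 (BT.leaf cE3680) (BT.leaf cE3681)) (BT.leaf cE3682)) (BT.node 3684 (BT.node 3683 (BT.leaf cE3683) (BT.leaf cE3684)) (BT.leaf cE3685))) (BT.node 3688 (BT.node 3687 (BT.node 3686 (BT.leaf cE3686) (BT.leaf cE3687)) (BT.leaf cE3688)) (BT.node 3689 (BT.leaf cE3689) (BT.leaf cE3690)))) (BT.node 3695 (BT.node 3693 (BT.node 3692 (BT.node 3691 (BT.leaf cE3691) (BT.leaf cE3692)) (BT.leaf cE3693)) (BT.node 3694 (BT.leaf cE3694) (BT.leaf cE3695))) (BT.node 3698 (BT.node 3697 (BT.node 3696 (BT.leaf cE3696) (BT.leaf cE3697)) (BT.leaf cE3698)) (BT.node 3699 (BT.leaf cE3699) (BT.leaf cE3700))))) (BT.node 3710 (BT.node 3705 (BT.node 3703 (BT.node 3702 (BT.node 3701 (BT.leaf cE3701) (BT.leaf cE3702)) (BT.leaf cE3703)) (BT.node 3704 (BT.leaf cE3704) (BT.leaf cE3705))) (BT.node 3708 (BT.node 3707 (BT.node 3706 (BT.leaf cE3706) (BT.leaf cE3707)) (BT.leaf cE3708)) (BT.node 3709 (BT.leaf cE3709) (BT.leaf cE3710)))) (BT.node 3715 (BT.node 3713 (BT.node 3712 (BT.node 3711 (BT.leaf cE3711) (BT.leaf cE3712)) (BT.leaf cE3713)) (BT.node 3714 (BT.leaf cE3714) (BT.leaf cE3715))) (BT.node 3718 (BT.node 3717 (BT.node 3716 (BT.leaf cE3716) (BT.leaf cE3717)) (BT.leaf cE3718)) (BT.node 3719 (BT.leaf cE3719) (BT.leaf cE3720))))))) (BT.node 3761 (BT.node 3741 (BT.node 3731 (BT.node 3726 (BT.node 3723 (BT.node 3722 (BT.node 3721 (BT.leaf cE3721) (BT.leaf cE3722)) (BT.leaf cE3723)) (BT.node 3725 (BT.node 3724 (BT.leaf cE3724) (BT.leaf cE3725)) (BT.leaf cE3726))) (BT.node 3729 (BT.node 3728 (BT.node 3727 (BT.leaf cE3727) (BT.leaf cE3728)) (BT.leaf cE3729)) (BT.node 3730 (BT.leaf cE3730) (BT.leaf cE3731)))) (BT.node 3736 (BT.node 3734 (BT.node 3733 (BT.node 3732 (BT.leaf cE3732) (BT.leaf cE3733)) (BT.leaf cE3734)) (BT.node 3735 (BT.leaf cE3735) (BT.leaf cE3736))) (BT.node 3739 (BT.node 3738 (BT.node 3737 (BT.leaf cE3737) (BT.leaf cE3738)) (BT.leaf cE3739)) (BT.node 3740 (BT.leaf cE3740) (BT.leaf cE3741))))) (BT.node 3751 (BT.node 3746 (BT.node 3744 (BT.node 3743 (BT.node 3742 (BT.leaf cE3742) (BT.leaf cE3743)) (BT.leaf cE3744)) (BT.node 3745 (BT.leaf cE3745) (BT.leaf cE3746))) (BT.node 3749 (BT.node 3748 (BT.node 3747 (BT.leaf cE3747) (BT.leaf cE3748)) (BT.leaf cE3749)) (BT.node 3750 (BT.leaf cE3750) (BT.leaf cE3751)))) (BT.node 3756 (BT.node 3754 (BT.node 3753 (BT.node 3752 (BT.leaf cE3752) (BT.leaf cE3753)) (BT.leaf cE3754)) (BT.node 3755 (BT.leaf cE3755) (BT.leaf cE3756))) (BT.node 3759 (BT.node 3758 (BT.node 3757 (BT.leaf cE3757) (BT.leaf cE3758)) (BT.leaf cE3759)) (BT.node 3760 (BT.leaf cE3760) (BT.leaf cE3761)))))) (BT.node 3782 (BT.node 3772 (BT.node 3767 (BT.node 3764 (BT.node 3763 (BT.node 3762 (BT.leaf cE3762) (BT.leaf cE3763)) (BT.leaf cE3764)) (BT.node 3766 (BT.node 3765 (BT.leaf cE3765) (BT.leaf cE3766)) (BT.leaf cE3767))) (BT.node 3770 (BT.node 3769 (BT.node 3768 (BT.leaf cE3768) (BT.leaf cE3769)) (BT.leaf cE3770)) (BT.node 3771 (BT.leaf cE3771) (BT.leaf cE3772)))) (BT.node 3777 (BT.node 3775 (BT.node 3774 (BT.node 3773 (BT.leaf cE3773) (BT.leaf cE3774)) (BT.leaf cE3775)) (BT.node 3776 (BT.leaf cE3776) (BT.leaf cE3777))) (BT.node 3780 (BT.node 3779 (BT.node 3778 (BT.leaf cE3778) (BT.leaf cE3779)) (BT.leaf cE3780)) (BT.node 3781 (BT.leaf cE3781) (BT.leaf cE3782))))) (BT.node 3792 (BT.node 3787 (BT.node 3785 (BT.node 3784 (BT.node 3783 (BT.leaf cE3783) (BT.leaf cE3784)) (BT.leaf cE3785)) (BT.node 3786 (BT.leaf cE3786) (BT.leaf cE3787))) (BT.node 3790 (BT.node 3789 (BT.node 3788 (BT.leaf cE3788) (BT.leaf cE3789)) (BT.leaf cE3790)) (BT.node 3791 (BT.leaf cE3791) (BT.leaf cE3792)))) (BT.node 3797 (BT.node 3795 (BT.node 3794 (BT.node 3793 (BT.leaf cE3793) (BT.leaf cE3794)) (BT.leaf cE3795)) (BT.node 3796 (BT.leaf cE3796) (BT.leaf cE3797))) (BT.node 3800 (BT.node 3799 (BT.node 3798 (BT.leaf cE3798) (BT.leaf cE3799)) (BT.leaf cE3800)) (BT.node 3801 (BT.leaf cE3801) (BT.leaf cE3802)))))))) (BT.node 3885 (BT.node 3844 (BT.node 3823 (BT.node 3813 (BT.node 3808 (BT.node 3805 (BT.node 3804 (BT.node 3803 (BT.leaf cE3803) (BT.leaf cE3804)) (BT.leaf cE3805)) (BT.node 3807 (BT.node 3806 (BT.leaf cE3806) (BT.leaf cE3807)) (BT.leaf cE3808))) (BT.node 3811 (BT.node 3810 (BT.node 3809 (BT.leaf cE3809) (BT.leaf cE3810)) (BT.leaf cE3811)) (BT.node 3812 (BT.leaf cE3812) (BT.leaf cE3813)))) (BT.node 3818 (BT.node 3816 (BT.node 3815 (BT.node 3814 (BT.leaf cE3814) (BT.leaf cE3815)) (BT.leaf cE3816)) (BT.node 3817 (BT.leaf cE3817) (BT.leaf cE3818))) (BT.node 3821 (BT.node 3820 (BT.node 3819 (BT.leaf cE3819) (BT.leaf cE3820)) (BT.leaf cE3821)) (BT.node 3822 (BT.leaf cE3822) (BT.leaf cE3823))))) (BT.node 3834 (BT.node 3829 (BT.node 3826 (BT.node 3825 (BT.node 3824 (BT.leaf cE3824) (BT.leaf cE3825)) (BT.leaf cE3826)) (BT.node 3828 (BT.node 3827 (BT.leaf cE3827) (BT.leaf cE3828)) (BT.leaf cE3829))) (BT.node 3832 (BT.node 3831 (BT.node 3830 (BT.leaf cE3830) (BT.leaf cE3831)) (BT.leaf cE3832)) (BT.node 3833 (BT.leaf cE3833) (BT.leaf cE3834)))) (BT.node 3839 (BT.node 3837 (BT.node 3836 (BT.node 3835 (BT.leaf cE3835) (BT.leaf cE3836)) (BT.leaf cE3837)) (BT.node 3838 (BT.leaf cE3838) (BT.leaf cE3839))) (BT.node 3842 (BT.node 3841 (BT.node 3840 (BT.leaf cE3840) (BT.leaf cE3841)) (BT.leaf cE3842)) (BT.node 3843 (BT.leaf cE3843) (BT.leaf cE3844)))))) (BT.node 3865 (BT.node 3855 (BT.node 3850 (BT.node 3847 (BT.node 3846 (BT.node 3845 (BT.leaf cE3845) (BT.leaf cE3846)) (BT.leaf cE3847)) (BT.node 3849 (BT.node 3848 (BT.leaf cE3848) (BT.leaf cE3849)) (BT.leaf cE3850))) (BT.node 3853 (BT.node 3852 (BT.node 3851 (BT.leaf cE3851) (BT.leaf cE3852)) (BT.leaf cE3853)) (BT.node 3854 (BT.leaf cE3854) (BT.leaf cE3855)))) (BT.node 3860 (BT.node 3858 (BT.node 3857 (BT.node 3856 (BT.leaf cE3856) (BT.leaf cE3857)) (BT.leaf cE3858)) (BT.node 3859 (BT.leaf cE3859) (BT.leaf cE3860))) (BT.node 3863 (BT.node 3862 (BT.node 3861 (BT.leaf cE3861) (BT.leaf cE3862)) (BT.leaf cE3863)) (BT.node 3864 (BT.leaf cE3864) (BT.leaf cE3865))))) (BT.node 3875 (BT.node 3870 (BT.node 3868 (BT.node 3867 (BT.node 3866 (BT.leaf cE3866) (BT.leaf cE3867)) (BT.leaf cE3868)) (BT.node 3869 (BT.leaf cE3869) (BT.leaf cE3870))) (BT.node 3873 (BT.node 3872 (BT.node 3871 (BT.leaf cE3871) (BT.leaf cE3872)) (BT.leaf cE3873)) (BT.node 3874 (BT.leaf cE3874) (BT.leaf cE3875)))) (BT.node 3880 (BT.node 3878 (BT.node 3877 (BT.node 3876 (BT.leaf cE3876) (BT.leaf cE3877)) (BT.leaf cE3878)) (BT.node 3879 (BT.leaf cE3879) (BT.leaf cE3880))) (BT.node 3883 (BT.node 3882 (BT.node 3881 (BT.leaf cE3881) (BT.leaf cE3882)) (BT.leaf cE3883)) (BT.node 3884 (BT.leaf cE3884) (BT.leaf cE3885))))))) (BT.node 3926 (BT.node 3906 (BT.node 3896 (BT.node 3891 (BT.node 3888 (BT.node 3887 (BT.node 3886 (BT.leaf cE3886) (BT.leaf cE3887)) (BT.leaf cE3888)) (BT.node 3890 (BT.node 3889 (BT.leaf cE3889) (BT.leaf cE3890)) (BT.leaf cE3891))) (BT.node 3894 (BT.node 3893 (BT.node 3892 (BT.leaf cE3892) (BT.leaf cE3893)) (BT.leaf cE3894)) (BT.node 3895 (BT.leaf cE3895) (BT.leaf cE3896)))) (BT.node 3901 (BT.node 3899 (BT.node 3898 (BT.node 3897 (BT.leaf cE3897) (BT.leaf cE3898)) (BT.leaf cE3899)) (BT.node 3900 (BT.leaf cE3900) (BT.leaf cE3901))) (BT.node 3904 (BT.node 3903 (BT.node 3902 (BT.leaf cE3902) (BT.leaf cE3903)) (BT.leaf cE3904)) (BT.node 3905 (BT.leaf cE3905) (BT.leaf cE3906))))) (BT.node 3916 (BT.node 3911 (BT.node 3909 (BT.node 3908 (BT.node 3907 (BT.leaf cE3907) (BT.leaf cE3908)) (BT.leaf cE3909)) (BT.node 3910 (BT.leaf cE3910) (BT.leaf cE3911))) (BT.node 3914 (BT.node 3913 (BT.node 3912 (BT.leaf cE3912) (BT.leaf cE3913)) (BT.leaf cE3914)) (BT.node 3915 (BT.leaf cE3915) (BT.leaf cE3916)))) (BT.node 3921 (BT.node 3919 (BT.node 3918 (BT.node 3917 (BT.leaf cE3917) (BT.leaf cE3918)) (BT.leaf cE3919)) (BT.node 3920 (BT.leaf cE3920) (BT.leaf cE3921))) (BT.node 3924 (BT.node 3923 (BT.node 3922 (BT.leaf cE3922) (BT.leaf cE3923)) (BT.leaf cE3924)) (BT.node 3925 (BT.leaf cE3925) (BT.leaf cE3926)))))) (BT.node 3947 (BT.node 3937 (BT.node 3932 (BT.node 3929 (BT.node 3928 (BT.node 3927 (BT.leaf cE3927) (BT.leaf cE3928)) (BT.leaf cE3929)) (BT.node 3931 (BT.node 3930 (BT.leaf cE3930) (BT.leaf cE3931)) (BT.leaf cE3932))) (BT.node 3935 (BT.node 3934 (BT.node 3933 (BT.leaf cE3933) (BT.leaf cE3934)) (BT.leaf cE3935)) (BT.node 3936 (BT.leaf cE3936) (BT.leaf cE3937)))) (BT.node 3942 (BT.node 3940 (BT.node 3939 (BT.node 3938 (BT.leaf cE3938) (BT.leaf cE3939)) (BT.leaf cE3940)) (BT.node 3941 (BT.leaf cE3941) (BT.leaf cE3942))) (BT.node 3945 (BT.node 3944 (BT.node 3943 (BT.leaf cE3943) (BT.leaf cE3944)) (BT.leaf cE3945)) (BT.node 3946 (BT.leaf cE3946) (BT.leaf cE3947))))) (BT.node 3957 (BT.node 3952 (BT.node 3950 (BT.node 3949 (BT.node 3948 (BT.leaf cE3948) (BT.leaf cE3949)) (BT.leaf cE3950)) (BT.node 3951 (BT.leaf cE3951) (BT.leaf cE3952))) (BT.node 3955 (BT.node 3954 (BT.node 3953 (BT.leaf cE3953) (BT.leaf cE3954)) (BT.leaf cE3955)) (BT.node 3956 (BT.leaf cE3956) (BT.leaf cE3957)))) (BT.node 3962 (BT.node 3960 (BT.node 3959 (BT.node 3958 (BT.leaf cE3958) (BT.leaf cE3959)) (BT.leaf cE3960)) (BT.node 3961 (BT.leaf cE3961) (BT.leaf cE3962))) (BT.node 3965 (BT.node 3964 (BT.node 3963 (BT.leaf cE3963) (BT.leaf cE3964)) (BT.leaf cE3965)) (BT.node 3966 (BT.leaf cE3966) (BT.leaf cE3967))))))))))) (BT.node 4628 (BT.node 4298 (BT.node 4133 (BT.node 4050 (BT.node 4009 (BT.node 3988 (BT.node 3978 (BT.node 3973 (BT.node 3970 (BT.node 3969 (BT.node 3968 (BT.leaf cE3968) (BT.leaf cE3969)) (BT.leaf cE3970)) (BT.node 3972 (BT.node 3971 (BT.leaf cE3971) (BT.leaf cE3972)) (BT.leaf cE3973))) (BT.node 3976 (BT.node 3975 (BT.node 3974 (BT.leaf cE3974) (BT.leaf cE3975)) (BT.leaf cE3976)) (BT.node 3977 (BT.leaf cE3977) (BT.leaf cE3978)))) (BT.node 3983 (BT.node 3981 (BT.node 3980 (BT.node 3979 (BT.leaf cE3979) (BT.leaf cE3980)) (BT.leaf cE3981)) (BT.node 3982 (BT.leaf cE3982) (BT.leaf cE3983))) (BT.node 3986 (BT.node 3985 (BT.node 3984 (BT.leaf cE3984) (BT.leaf cE3985)) (BT.leaf cE3986)) (BT.node 3987 (BT.leaf cE3987) (BT.leaf cE3988))))) (BT.node 3999 (BT.node 3994 (BT.node 3991 (BT.node 3990 (BT.node 3989 (BT.leaf cE3989) (BT.leaf cE3990)) (BT.leaf cE3991)) (BT.node 3993 (BT.node 3992 (BT.leaf cE3992) (BT.leaf cE3993)) (BT.leaf cE3994))) (BT.node 3997 (BT.node 3996 (BT.node 3995 (BT.leaf cE3995) (BT.leaf cE3996)) (BT.leaf cE3997)) (BT.node 3998 (BT.leaf cE3998) (BT.leaf cE3999)))) (BT.node 4004 (BT.node 4002 (BT.node 4001 (BT.node 4000 (BT.leaf cE4000) (BT.leaf cE4001)) (BT.leaf cE4002)) (BT.node 4003 (BT.leaf cE4003) (BT.leaf cE4004))) (BT.node 4007 (BT.node 4006 (BT.node 4005 (BT.leaf cE4005) (BT.leaf cE4006)) (BT.leaf cE4007)) (BT.node 4008 (BT.leaf cE4008) (BT.leaf cE4009)))))) (BT.node 4030 (BT.node 4020 (BT.node 4015 (BT.node 4012 (BT.node 4011 (BT.node 4010 (BT.leaf cE4010) (BT.leaf cE4011)) (BT.leaf cE4012)) (BT.node 4014 (BT.node 4013 (BT.leaf cE4013) (BT.leaf cE4014)) (BT.leaf cE4015))) (BT.node 4018 (BT.node 4017 (BT.node 4016 (BT.leaf cE4016) (BT.leaf cE4017)) (BT.leaf cE4018)) (BT.node 4019 (BT.leaf cE4019) (BT.leaf cE4020)))) (BT.node 4025 (BT.node 4023 (BT.node 4022 (BT.node 4021 (BT.leaf cE4021) (BT.leaf cE4022)) (BT.leaf cE4023)) (BT.node 4024 (BT.leaf cE4024) (BT.leaf cE4025))) (BT.node 4028 (BT.node 4027 (BT.node 4026 (BT.leaf cE4026) (BT.leaf cE4027)) (BT.leaf cE4028)) (BT.node 4029 (BT.leaf cE4029) (BT.leaf cE4030))))) (BT.node 4040 (BT.node 4035 (BT.node 4033 (BT.node 4032 (BT.node 4031 (BT.leaf cE4031) (BT.leaf cE4032)) (BT.leaf cE4033)) (BT.node 4034 (BT.leaf cE4034) (BT.leaf cE4035))) (BT.node 4038 (BT.node 4037 (BT.node 4036 (BT.leaf cE4036) (BT.leaf cE4037)) (BT.leaf cE4038)) (BT.node 4039 (BT.leaf cE4039) (BT.leaf cE4040)))) (BT.node 4045 (BT.node 4043 (BT.node 4042 (BT.node 4041 (BT.leaf cE4041) (BT.leaf cE4042)) (BT.leaf cE4043)) (BT.node 4044 (BT.leaf cE4044) (BT.leaf cE4045))) (BT.node 4048 (BT.node 4047 (BT.node 4046 (BT.leaf cE4046) (BT.leaf cE4047)) (BT.leaf cE4048)) (BT.node 4049 (BT.leaf cE4049) (BT.leaf cE4050))))))) (BT.node 4092 (BT.node 4071 (BT.node 4061 (BT.node 4056 (BT.node 4053 (BT.node 4052 (BT.node 4051 (BT.leaf cE4051) (BT.leaf cE4052)) (BT.leaf cE4053)) (BT.node 4055 (BT.node 4054 (BT.leaf cE4054) (BT.leaf cE4055)) (BT.leaf cE4056))) (BT.node 4059 (BT.node 4058 (BT.node 4057 (BT.leaf cE4057) (BT.leaf cE4058)) (BT.leaf cE4059)) (BT.node 4060 (BT.leaf cE4060) (BT.leaf cE4061)))) (BT.node 4066 (BT.node 4064 (BT.node 4063 (BT.node 4062 (BT.leaf cE4062) (BT.leaf cE4063)) (BT.leaf cE4064)) (BT.node 4065 (BT.leaf cE4065) (BT.leaf cE4066))) (BT.node 4069 (BT.node 4068 (BT.node 4067 (BT.leaf cE4067) (BT.leaf cE4068)) (BT.leaf cE4069)) (BT.node 4070 (BT.leaf cE4070) (BT.leaf cE4071))))) (BT.node 4082 (BT.node 4077 (BT.node 4074 (BT.node 4073 (BT.node 4072 (BT.leaf cE4072) (BT.leaf cE4073)) (BT.leaf cE4074)) (BT.node 4076 (BT.node 4075 (BT.leaf cE4075) (BT.leaf cE4076)) (BT.leaf cE4077))) (BT.node 4080 (BT.node 4079 (BT.node 4078 (BT.leaf cE4078) (BT.leaf cE4079)) (BT.leaf cE4080)) (BT.node 4081 (BT.leaf cE4081) (BT.leaf cE4082)))) (BT.node 4087 (BT.node 4085 (BT.node 4084 (BT.node 4083 (BT.leaf cE4083) (BT.leaf cE4084)) (BT.leaf cE4085)) (BT.node 4086 (BT.leaf cE4086) (BT.leaf cE4087))) (BT.node 4090 (BT.node 4089 (BT.node 4088 (BT.leaf cE4088) (BT.leaf cE4089)) (BT.leaf cE4090)) (BT.node 4091 (BT.leaf cE4091) (BT.leaf cE4092)))))) (BT.node 4113 (BT.node 4103 (BT.node 4098 (BT.node 4095 (BT.node 4094 (BT.node 4093 (BT.leaf cE4093) (BT.leaf cE4094)) (BT.leaf cE4095)) (BT.node 4097 (BT.node 4096 (BT.leaf cE4096) (BT.leaf cE4097)) (BT.leaf cE4098))) (BT.node 4101 (BT.node 4100 (BT.node 4099 (BT.leaf cE4099) (BT.leaf cE4100)) (BT.leaf cE4101)) (BT.node 4102 (BT.leaf cE4102) (BT.leaf cE4103)))) (BT.node 4108 (BT.node 4106 (BT.node 4105 (BT.node 4104 (BT.leaf cE4104) (BT.leaf cE4105)) (BT.leaf cE4106)) (BT.node 4107 (BT.leaf cE4107) (BT.leaf cE4108))) (BT.node 4111 (BT.node 4110 (BT.node 4109 (BT.leaf cE4109) (BT.leaf cE4110)) (BT.leaf cE4111)) (BT.node 4112 (BT.leaf cE4112) (BT.leaf cE4113))))) (BT.node 4123 (BT.node 4118 (BT.node 4116 (BT.node 4115 (BT.node 4114 (BT.leaf cE4114) (BT.leaf cE4115)) (BT.leaf cE4116)) (BT.node 4117 (BT.leaf cE4117) (BT.leaf cE4118))) (BT.node 4121 (BT.node 4120 (BT.node 4119 (BT.leaf cE4119) (BT.leaf cE4120)) (BT.leaf cE4121)) (BT.node 4122 (BT.leaf cE4122) (BT.leaf cE4123)))) (BT.node 4128 (BT.node 4126 (BT.node 4125 (BT.node 4124 (BT.leaf cE4124) (BT.leaf cE4125)) (BT.leaf cE4126)) (BT.node 4127 (BT.leaf cE4127) (BT.leaf cE4128))) (BT.node 4131 (BT.node 4130 (BT.node 4129 (BT.leaf cE4129) (BT.leaf cE4130)) (BT.leaf cE4131)) (BT.node 4132 (BT.leaf cE4132) (BT.leaf cE4133)))))))) (BT.node 4216 (BT.node 4175 (BT.node 4154 (BT.node 4144 (BT.node 4139 (BT.node 4136 (BT.node 4135 (BT.node 4134 (BT.leaf cE4134) (BT.leaf cE4135)) (BT.leaf cE4136)) (BT.node 4138 (BT.node 4137 (BT.leaf cE4137) (BT.leaf cE4138)) (BT.leaf cE4139))) (BT.node 4142 (BT.node 4141 (BT.node 4140 (BT.leaf cE4140) (BT.leaf cE4141)) (BT.leaf cE4142)) (BT.node 4143 (BT.leaf cE4143) (BT.leaf cE4144)))) (BT.node 4149 (BT.node 4147 (BT.node 4146 (BT.node 4145 (BT.leaf cE4145) (BT.leaf cE4146)) (BT.leaf cE4147)) (BT.node 4148 (BT.leaf cE4148) (BT.leaf cE4149))) (BT.node 4152 (BT.node 4151 (BT.node 4150 (BT.leaf cE4150) (BT.leaf cE4151)) (BT.leaf cE4152)) (BT.node 4153 (BT.leaf cE4153) (BT.leaf cE4154))))) (BT.node 4165 (BT.node 4160 (BT.node 4157 (BT.node 4156 (BT.node 4155 (BT.leaf cE4155) (BT.leaf cE4156)) (BT.leaf cE4157)) (BT.node 4159 (BT.node 4158 (BT.leaf cE4158) (BT.leaf cE4159)) (BT.leaf cE4160))) (BT.node 4163 (BT.node 4162 (BT.node 4161 (BT.leaf cE4161) (BT.leaf cE4162)) (BT.leaf cE4163)) (BT.node 4164 (BT.leaf cE4164) (BT.leaf cE4165)))) (BT.node 4170 (BT.node 4168 (BT.node 4167 (BT.node 4166 (BT.leaf cE4166) (BT.leaf cE4167)) (BT.leaf cE4168)) (BT.node 4169 (BT.leaf cE4169) (BT.leaf cE4170))) (BT.node 4173 (BT.node 4172 (BT.node 4171 (BT.leaf cE4171) (BT.leaf cE4172)) (BT.leaf cE4173)) (BT.node 4174 (BT.leaf cE4174) (BT.leaf cE4175)))))) (BT.node 4196 (BT.node 4186 (BT.node 4181 (BT.node 4178 (BT.node 4177 (BT.node 4176 (BT.leaf cE4176) (BT.leaf cE4177)) (BT.leaf cE4178)) (BT.node 4180 (BT.node 4179 (BT.leaf cE4179) (BT.leaf cE4180)) (BT.leaf cE4181))) (BT.node 4184 (BT.node 4183 (BT.node 4182 (BT.leaf cE4182) (BT.leaf cE4183)) (BT.leaf cE4184)) (BT.node 4185 (BT.leaf cE4185) (BT.leaf cE4186)))) (BT.node 4191 (BT.node 4189 (BT.node 4188 (BT.node 4187 (BT.leaf cE4187) (BT.leaf cE4188)) (BT.leaf cE4189)) (BT.node 4190 (BT.leaf cE4190) (BT.leaf cE4191))) (BT.node 4194 (BT.node 4193 (BT.node 4192 (BT.leaf cE4192) (BT.leaf cE4193)) (BT.leaf cE4194)) (BT.node 4195 (BT.leaf cE4195) (BT.leaf cE4196))))) (BT.node 4206 (BT.node 4201 (BT.node 4199 (BT.node 4198 (BT.node 4197 (BT.leaf cE4197) (BT.leaf cE4198)) (BT.leaf cE4199)) (BT.node 4200 (BT.leaf cE4200) (BT.leaf cE4201))) (BT.node 4204 (BT.node 4203 (BT.node 4202 (BT.leaf cE4202) (BT.leaf cE4203)) (BT.leaf cE4204)) (BT.node 4205 (BT.leaf cE4205) (BT.leaf cE4206)))) (BT.node 4211 (BT.node 4209 (BT.node 4208 (BT.node 4207 (BT.leaf cE4207) (BT.leaf cE4208)) (BT.leaf cE4209)) (BT.node 4210 (BT.leaf cE4210) (BT.leaf cE4211))) (BT.node 4214 (BT.node 4213 (BT.node 4212 (BT.leaf cE4212) (BT.leaf cE4213)) (BT.leaf cE4214)) (BT.node 4215 (BT.leaf cE4215) (BT.leaf cE4216))))))) (BT.node 4257 (BT.node 4237 (BT.node 4227 (BT.node 4222 (BT.node 4219 (BT.node 4218 (BT.node 4217 (BT.leaf cE4217) (BT.leaf cE4218)) (BT.leaf cE4219)) (BT.node 4221 (BT.node 4220 (BT.leaf cE4220) (BT.leaf cE4221)) (BT.leaf cE4222))) (BT.node 4225 (BT.node 4224 (BT.node 4223 (BT.leaf cE4223) (BT.leaf cE4224)) (BT.leaf cE4225)) (BT.node 4226 (BT.leaf cE4226) (BT.leaf cE4227)))) (BT.node 4232 (BT.node 4230 (BT.node 4229 (BT.node 4228 (BT.leaf cE4228) (BT.leaf cE4229)) (BT.leaf cE4230)) (BT.node 4231 (BT.leaf cE4231) (BT.leaf cE4232))) (BT.node 4235 (BT.node 4234 (BT.node 4233 (BT.leaf cE4233) (BT.leaf cE4234)) (BT.leaf cE4235)) (BT.node 4236 (BT.leaf cE4236) (BT.leaf cE4237))))) (BT.node 4247 (BT.node 4242 (BT.node 4240 (BT.node 4239 (BT.node 4238 (BT.leaf cE4238) (BT.leaf cE4239)) (BT.leaf cE4240)) (BT.node 4241 (BT.leaf cE4241) (BT.leaf cE4242))) (BT.node 4245 (BT.node 4244 (BT.node 4243 (BT.leaf cE4243) (BT.leaf cE4244)) (BT.leaf cE4245)) (BT.node 4246 (BT.leaf cE4246) (BT.leaf cE4247)))) (BT.node 4252 (BT.node 4250 (BT.node 4249 (BT.node 4248 (BT.leaf cE4248) (BT.leaf cE4249)) (BT.leaf cE4250)) (BT.node 4251 (BT.leaf cE4251) (BT.leaf cE4252))) (BT.node 4255 (BT.node 4254 (BT.node 4253 (BT.leaf cE4253) (BT.leaf cE4254)) (BT.leaf cE4255)) (BT.node 4256 (BT.leaf cE4256) (BT.leaf cE4257)))))) (BT.node 4278 (BT.node 4268 (BT.node 4263 (BT.node 4260 (BT.node 4259 (BT.node 4258 (BT.leaf cE4258) (BT.leaf cE4259)) (BT.leaf cE4260)) (BT.node 4262 (BT.node 4261 (BT.leaf cE4261) (BT.leaf cE4262)) (BT.leaf cE4263))) (BT.node 4266 (BT.node 4265 (BT.node 4264 (BT.leaf cE4264) (BT.leaf cE4265)) (BT.leaf cE4266)) (BT.node 4267 (BT.leaf cE4267) (BT.leaf cE4268)))) (BT.node 4273 (BT.node 4271 (BT.node 4270 (BT.node 4269 (BT.leaf cE4269) (BT.leaf cE4270)) (BT.leaf cE4271)) (BT.node 4272 (BT.leaf cE4272) (BT.leaf cE4273))) (BT.node 4276 (BT.node 4275 (BT.node 4274 (BT.leaf cE4274) (BT.leaf cE4275)) (BT.leaf cE4276)) (BT.node 4277 (BT.leaf cE4277) (BT.leaf cE4278))))) (BT.node 4288 (BT.node 4283 (BT.node 4281 (BT.node 4280 (BT.node 4279 (BT.leaf cE4279) (BT.leaf cE4280)) (BT.leaf cE4281)) (BT.node 4282 (BT.leaf cE4282) (BT.leaf cE4283))) (BT.node 4286 (BT.node 4285 (BT.node 4284 (BT.leaf cE4284) (BT.leaf cE4285)) (BT.leaf cE4286)) (BT.node 4287 (BT.leaf cE4287) (BT.leaf cE4288)))) (BT.node 4293 (BT.node 4291 (BT.node 4290 (BT.node 4289 (BT.leaf cE4289) (BT.leaf cE4290)) (BT.leaf cE4291)) (BT.node 4292 (BT.leaf cE4292) (BT.leaf cE4293))) (BT.node 4296 (BT.node 4295 (BT.node 4294 (BT.leaf cE4294) (BT.leaf cE4295)) (BT.leaf cE4296)) (BT.node 4297 (BT.leaf cE4297) (BT.leaf cE4298))))))))) (BT.node 4463 (BT.node 4381 (BT.node 4340 (BT.node 4319 (BT.node 4309 (BT.node 4304 (BT.node 4301 (BT.node 4300 (BT.node 4299 (BT.leaf cE4299) (BT.leaf cE4300)) (BT.leaf cE4301)) (BT.node 4303 (BT.node 4302 (BT.leaf cE4302) (BT.leaf cE4303)) (BT.leaf cE4304))) (BT.node 4307 (BT.node 4306 (BT.node 4305 (BT.leaf cE4305) (BT.leaf cE4306)) (BT.leaf cE4307)) (BT.node 4308 (BT.leaf cE4308) (BT.leaf cE4309)))) (BT.node 4314 (BT.node 4312 (BT.node 4311 (BT.node 4310 (BT.leaf cE4310) (BT.leaf cE4311)) (BT.leaf cE4312)) (BT.node 4313 (BT.leaf cE4313) (BT.leaf cE4314))) (BT.node 4317 (BT.node 4316 (BT.node 4315 (BT.leaf cE4315) (BT.leaf cE4316)) (BT.leaf cE4317)) (BT.node 4318 (BT.leaf cE4318) (BT.leaf cE4319))))) (BT.node 4330 (BT.node 4325 (BT.node 4322 (BT.node 4321 (BT.node 4320 (BT.leaf cE4320) (BT.leaf cE4321)) (BT.leaf cE4322)) (BT.node 4324 (BT.node 4323 (BT.leaf cE4323) (BT.leaf cE4324)) (BT.leaf cE4325))) (BT.node 4328 (BT.node 4327 (BT.node 4326 (BT.leaf cE4326) (BT.leaf cE4327)) (BT.leaf cE4328)) (BT.node 4329 (BT.leaf cE4329) (BT.leaf cE4330)))) (BT.node 4335 (BT.node 4333 (BT.node 4332 (BT.node 4331 (BT.leaf cE4331) (BT.leaf cE4332)) (BT.leaf cE4333)) (BT.node 4334 (BT.leaf cE4334) (BT.leaf cE4335))) (BT.node 4338 (BT.node 4337 (BT.node 4336 (BT.leaf cE4336) (BT.leaf cE4337)) (BT.leaf cE4338)) (BT.node 4339 (BT.leaf cE4339) (BT.leaf cE4340)))))) (BT.node 4361 (BT.node 4351 (BT.node 4346 (BT.node 4343 (BT.node 4342 (BT.node 4341 (BT.leaf cE4341) (BT.leaf cE4342)) (BT.leaf cE4343)) (BT.node 4345 (BT.node 4344 (BT.leaf cE4344) (BT.leaf cE4345)) (BT.leaf cE4346))) (BT.node 4349 (BT.node 4348 (BT.node 4347 (BT.leaf cE4347) (BT.leaf cE4348)) (BT.leaf cE4349)) (BT.node 4350 (BT.leaf cE4350) (BT.leaf cE4351)))) (BT.node 4356 (BT.node 4354 (BT.node 4353 (BT.node 4352 (BT.leaf cE4352) (BT.leaf cE4353)) (BT.leaf cE4354)) (BT.node 4355 (BT.leaf cE4355) (BT.leaf cE4356))) (BT.node 4359 (BT.node 4358 (BT.node 4357 (BT.leaf cE4357) (BT.leaf cE4358)) (BT.leaf cE4359)) (BT.node 4360 (BT.leaf cE4360) (BT.leaf cE4361))))) (BT.node 4371 (BT.node 4366 (BT.node 4364 (BT.node 4363 (BT.node 4362 (BT.leaf cE4362) (BT.leaf cE4363)) (BT.leaf cE4364)) (BT.node 4365 (BT.leaf cE4365) (BT.leaf cE4366))) (BT.node 4369 (BT.node 4368 (BT.node 4367 (BT.leaf cE4367) (BT.leaf cE4368)) (BT.leaf cE4369)) (BT.node 4370 (BT.leaf cE4370) (BT.leaf cE4371)))) (BT.node 4376 (BT.node 4374 (BT.node 4373 (BT.node 4372 (BT.leaf cE4372) (BT.leaf cE4373)) (BT.leaf cE4374)) (BT.node 4375 (BT.leaf cE4375) (BT.leaf cE4376))) (BT.node 4379 (BT.node 4378 (BT.node 4377 (BT.leaf cE4377) (BT.leaf cE4378)) (BT.leaf cE4379)) (BT.node 4380 (BT.leaf cE4380) (BT.leaf cE4381))))))) (BT.node 4422 (BT.node 4402 (BT.node 4392 (BT.node 4387 (BT.node 4384 (BT.node 4383 (BT.node 4382 (BT.leaf cE4382) (BT.leaf cE4383)) (BT.leaf cE4384)) (BT.node 4386 (BT.node 4385 (BT.leaf cE4385) (BT.leaf cE4386)) (BT.leaf cE4387))) (BT.node 4390 (BT.node 4389 (BT.node 4388 (BT.leaf cE4388) (BT.leaf cE4389)) (BT.leaf cE4390)) (BT.node 4391 (BT.leaf cE4391) (BT.leaf cE4392)))) (BT.node 4397 (BT.node 4395 (BT.node 4394 (BT.node 4393 (BT.leaf cE4393) (BT.leaf cE4394)) (BT.leaf cE4395)) (BT.node 4396 (BT.leaf cE4396) (BT.leaf cE4397))) (BT.node 4400 (BT.node 4399 (BT.node 4398 (BT.leaf cE4398) (BT.leaf cE4399)) (BT.leaf cE4400)) (BT.node 4401 (BT.leaf cE4401) (BT.leaf cE4402))))) (BT.node 4412 (BT.node 4407 (BT.node 4405 (BT.node 4404 (BT.node 4403 (BT.leaf cE4403) (BT.leaf cE4404)) (BT.leaf cE4405)) (BT.node 4406 (BT.leaf cE4406) (BT.leaf cE4407))) (BT.node 4410 (BT.node 4409 (BT.node 4408 (BT.leaf cE4408) (BT.leaf cE4409)) (BT.leaf cE4410)) (BT.node 4411 (BT.leaf cE4411) (BT.leaf cE4412)))) (BT.node 4417 (BT.node 4415 (BT.node 4414 (BT.node 4413 (BT.leaf cE4413) (BT.leaf cE4414)) (BT.leaf cE4415)) (BT.node 4416 (BT.leaf cE4416) (BT.leaf cE4417))) (BT.node 4420 (BT.node 4419 (BT.node 4418 (BT.leaf cE4418) (BT.leaf cE4419)) (BT.leaf cE4420)) (BT.node 4421 (BT.leaf cE4421) (BT.leaf cE4422)))))) (BT.node 4443 (BT.node 4433 (BT.node 4428 (BT.node 4425 (BT.node 4424 (BT.node 4423 (BT.leaf cE4423) (BT.leaf cE4424)) (BT.leaf cE4425)) (BT.node 4427 (BT.node 4426 (BT.leaf cE4426) (BT.leaf cE4427)) (BT.leaf cE4428))) (BT.node 4431 (BT.node 4430 (BT.node 4429 (BT.leaf cE4429) (BT.leaf cE4430)) (BT.leaf cE4431)) (BT.node 4432 (BT.leaf cE4432) (BT.leaf cE4433)))) (BT.node 4438 (BT.node 4436 (BT.node 4435 (BT.node 4434 (BT.leaf cE4434) (BT.leaf cE4435)) (BT.leaf cE4436)) (BT.node 4437 (BT.leaf cE4437) (BT.leaf cE4438))) (BT.node 4441 (BT.node 4440 (BT.node 4439 (BT.leaf cE4439) (BT.leaf cE4440)) (BT.leaf cE4441)) (BT.node 4442 (BT.leaf cE4442) (BT.leaf cE4443))))) (BT.node 4453 (BT.node 4448 (BT.node 4446 (BT.node 4445 (BT.node 4444 (BT.leaf cE4444) (BT.leaf cE4445)) (BT.leaf cE4446)) (BT.node 4447 (BT.leaf cE4447) (BT.leaf cE4448))) (BT.node 4451 (BT.node 4450 (BT.node 4449 (BT.leaf cE4449) (BT.leaf cE4450)) (BT.leaf cE4451)) (BT.node 4452 (BT.leaf cE4452) (BT.leaf cE4453)))) (BT.node 4458 (BT.node 4456 (BT.node 4455 (BT.node 4454 (BT.leaf cE4454) (BT.leaf cE4455)) (BT.leaf cE4456)) (BT.node 4457 (BT.leaf cE4457) (BT.leaf cE4458))) (BT.node 4461 (BT.node 4460 (BT.node 4459 (BT.leaf cE4459) (BT.leaf cE4460)) (BT.leaf cE4461)) (BT.node 4462 (BT.leaf cE4462) (BT.leaf cE4463)))))))) (BT.node 4546 (BT.node 4505 (BT.node 4484 (BT.node 4474 (BT.node 4469 (BT.node 4466 (BT.node 4465 (BT.node 4464 (BT.leaf cE4464) (BT.leaf cE4465)) (BT.leaf cE4466)) (BT.node 4468 (BT.node 4467 (BT.leaf cE4467) (BT.leaf cE4468)) (BT.leaf cE4469))) (BT.node 4472 (BT.node 4471 (BT.node 4470 (BT.leaf cE4470) (BT.leaf cE4471)) (BT.leaf cE4472)) (BT.node 4473 (BT.leaf cE4473) (BT.leaf cE4474)))) (BT.node 4479 (BT.node 4477 (BT.node 4476 (BT.node 4475 (BT.leaf cE4475) (BT.leaf cE4476)) (BT.leaf cE4477)) (BT.node 4478 (BT.leaf cE4478) (BT.leaf cE4479))) (BT.node 4482 (BT.node 4481 (BT.node 4480 (BT.leaf cE4480) (BT.leaf cE4481)) (BT.leaf cE4482)) (BT.node 4483 (BT.leaf cE4483) (BT.leaf cE4484))))) (BT.node 4495 (BT.node 4490 (BT.node 4487 (BT.node 4486 (BT.node 4485 (BT.leaf cE4485) (BT.leaf cE4486)) (BT.leaf cE4487)) (BT.node 4489 (BT.node 4488 (BT.leaf cE4488) (BT.leaf cE4489)) (BT.leaf cE4490))) (BT.node 4493 (BT.node 4492 (BT.node 4491 (BT.leaf cE4491) (BT.leaf cE4492)) (BT.leaf cE4493)) (BT.node 4494 (BT.leaf cE4494) (BT.leaf cE4495)))) (BT.node 4500 (BT.node 4498 (BT.node 4497 (BT.node 4496 (BT.leaf cE4496) (BT.leaf cE4497)) (BT.leaf cE4498)) (BT.node 4499 (BT.leaf cE4499) (BT.leaf cE4500))) (BT.node 4503 (BT.node 4502 (BT.node 4501 (BT.leaf cE4501) (BT.leaf cE4502)) (BT.leaf cE4503)) (BT.node 4504 (BT.leaf cE4504) (BT.leaf cE4505)))))) (BT.node 4526 (BT.node 4516 (BT.node 4511 (BT.node 4508 (BT.node 4507 (BT.node 4506 (BT.leaf cE4506) (BT.leaf cE4507)) (BT.leaf cE4508)) (BT.node 4510 (BT.node 4509 (BT.leaf cE4509) (BT.leaf cE4510)) (BT.leaf cE4511))) (BT.node 4514 (BT.node 4513 (BT.node 4512 (BT.leaf cE4512) (BT.leaf cE4513)) (BT.leaf cE4514)) (BT.node 4515 (BT.leaf cE4515) (BT.leaf cE4516)))) (BT.node 4521 (BT.node 4519 (BT.node 4518 (BT.node 4517 (BT.leaf cE4517) (BT.leaf cE4518)) (BT.leaf cE4519)) (BT.node 4520 (BT.leaf cE4520) (BT.leaf cE4521))) (BT.node 4524 (BT.node 4523 (BT.node 4522 (BT.leaf cE4522) (BT.leaf cE4523)) (BT.leaf cE4524)) (BT.node 4525 (BT.leaf cE4525) (BT.leaf cE4526))))) (BT.node 4536 (BT.node 4531 (BT.node 4529 (BT.node 4528 (BT.node 4527 (BT.leaf cE4527) (BT.leaf cE4528)) (BT.leaf cE4529)) (BT.node 4530 (BT.leaf cE4530) (BT.leaf cE4531))) (BT.node 4534 (BT.node 4533 (BT.node 4532 (BT.leaf cE4532) (BT.leaf cE4533)) (BT.leaf cE4534)) (BT.node 4535 (BT.leaf cE4535) (BT.leaf cE4536)))) (BT.node 4541 (BT.node 4539 (BT.node 4538 (BT.node 4537 (BT.leaf cE4537) (BT.leaf cE4538)) (BT.leaf cE4539)) (BT.node 4540 (BT.leaf cE4540) (BT.leaf cE4541))) (BT.node 4544 (BT.node 4543 (BT.node 4542 (BT.leaf cE4542) (BT.leaf cE4543)) (BT.leaf cE4544)) (BT.node 4545 (BT.leaf cE4545) (BT.leaf cE4546))))))) (BT.node 4587 (BT.node 4567 (BT.node 4557 (BT.node 4552 (BT.node 4549 (BT.node 4548 (BT.node 4547 (BT.leaf cE4547) (BT.leaf cE4548)) (BT.leaf cE4549)) (BT.node 4551 (BT.node 4550 (BT.leaf cE4550) (BT.leaf cE4551)) (BT.leaf cE4552))) (BT.node 4555 (BT.node 4554 (BT.node 4553 (BT.leaf cE4553) (BT.leaf cE4554)) (BT.leaf cE4555)) (BT.node 4556 (BT.leaf cE4556) (BT.leaf cE4557)))) (BT.node 4562 (BT.node 4560 (BT.node 4559 (BT.node 4558 (BT.leaf cE4558) (BT.leaf cE4559)) (BT.leaf cE4560)) (BT.node 4561 (BT.leaf cE4561) (BT.leaf cE4562))) (BT.node 4565 (BT.node 4564 (BT.node 4563 (BT.leaf cE4563) (BT.leaf cE4564)) (BT.leaf cE4565)) (BT.node 4566 (BT.leaf cE4566) (BT.leaf cE4567))))) (BT.node 4577 (BT.node 4572 (BT.node 4570 (BT.node 4569 (BT.node 4568 (BT.leaf cE4568) (BT.leaf cE4569)) (BT.leaf cE4570)) (BT.node 4571 (BT.leaf cE4571) (BT.leaf cE4572))) (BT.node 4575 (BT.node 4574 (BT.node 4573 (BT.leaf cE4573) (BT.leaf cE4574)) (BT.leaf cE4575)) (BT.node 4576 (BT.leaf cE4576) (BT.leaf cE4577)))) (BT.node 4582 (BT.node 4580 (BT.node 4579 (BT.node 4578 (BT.leaf cE4578) (BT.leaf cE4579)) (BT.leaf cE4580)) (BT.node 4581 (BT.leaf cE4581) (BT.leaf cE4582))) (BT.node 4585 (BT.node 4584 (BT.node 4583 (BT.leaf cE4583) (BT.leaf cE4584)) (BT.leaf cE4585)) (BT.node 4586 (BT.leaf cE4586) (BT.leaf cE4587)))))) (BT.node 4608 (BT.node 4598 (BT.node 4593 (BT.node 4590 (BT.node 4589 (BT.node 4588 (BT.leaf cE4588) (BT.leaf cE4589)) (BT.leaf cE4590)) (BT.node 4592 (BT.node 4591 (BT.leaf cE4591) (BT.leaf cE4592)) (BT.leaf cE4593))) (BT.node 4596 (BT.node 4595 (BT.node 4594 (BT.leaf cE4594) (BT.leaf cE4595)) (BT.leaf cE4596)) (BT.node 4597 (BT.leaf cE4597) (BT.leaf cE4598)))) (BT.node 4603 (BT.node 4601 (BT.node 4600 (BT.node 4599 (BT.leaf cE4599) (BT.leaf cE4600)) (BT.leaf cE4601)) (BT.node 4602 (BT.leaf cE4602) (BT.leaf cE4603))) (BT.node 4606 (BT.node 4605 (BT.node 4604 (BT.leaf cE4604) (BT.leaf cE4605)) (BT.leaf cE4606)) (BT.node 4607 (BT.leaf cE4607) (BT.leaf cE4608))))) (BT.node 4618 (BT.node 4613 (BT.node 4611 (BT.node 4610 (BT.node 4609 (BT.leaf cE4609) (BT.leaf cE4610)) (BT.leaf cE4611)) (BT.node 4612 (BT.leaf cE4612) (BT.leaf cE4613))) (BT.node 4616 (BT.node 4615 (BT.node 4614 (BT.leaf cE4614) (BT.leaf cE4615)) (BT.leaf cE4616)) (BT.node 4617 (BT.leaf cE4617) (BT.leaf cE4618)))) (BT.node 4623 (BT.node 4621 (BT.node 4620 (BT.node 4619 (BT.leaf cE4619) (BT.leaf cE4620)) (BT.leaf cE4621)) (BT.node 4622 (BT.leaf cE4622) (BT.leaf cE4623))) (BT.node 4626 (BT.node 4625 (BT.node 4624 (BT.leaf cE4624) (BT.leaf cE4625)) (BT.leaf cE4626)) (BT.node 4627 (BT.leaf cE4627) (BT.leaf cE4628)))))))))) (BT.node 4959 (BT.node 4794 (BT.node 4711 (BT.node 4670 (BT.node 4649 (BT.node 4639 (BT.node 4634 (BT.node 4631 (BT.node 4630 (BT.node 4629 (BT.leaf cE4629) (BT.leaf cE4630)) (BT.leaf cE4631)) (BT.node 4633 (BT.node 4632 (BT.leaf cE4632) (BT.leaf cE4633)) (BT.leaf cE4634))) (BT.node 4637 (BT.node 4636 (BT.node 4635 (BT.leaf cE4635) (BT.leaf cE4636)) (BT.leaf cE4637)) (BT.node 4638 (BT.leaf cE4638) (BT.leaf cE4639)))) (BT.node 4644 (BT.node 4642 (BT.node 4641 (BT.node 4640 (BT.leaf cE4640) (BT.leaf cE4641)) (BT.leaf cE4642)) (BT.node 4643 (BT.leaf cE4643) (BT.leaf cE4644))) (BT.node 4647 (BT.node 4646 (BT.node 4645 (BT.leaf cE4645) (BT.leaf cE4646)) (BT.leaf cE4647)) (BT.node 4648 (BT.leaf cE4648) (BT.leaf cE4649))))) (BT.node 4660 (BT.node 4655 (BT.node 4652 (BT.node 4651 (BT.node 4650 (BT.leaf cE4650) (BT.leaf cE4651)) (BT.leaf cE4652)) (BT.node 4654 (BT.node 4653 (BT.leaf cE4653) (BT.leaf cE4654)) (BT.leaf cE4655))) (BT.node 4658 (BT.node 4657 (BT.node 4656 (BT.leaf cE4656) (BT.leaf cE4657)) (BT.leaf cE4658)) (BT.node 4659 (BT.leaf cE4659) (BT.leaf cE4660)))) (BT.node 4665 (BT.node 4663 (BT.node 4662 (BT.node 4661 (BT.leaf cE4661) (BT.leaf cE4662)) (BT.leaf cE4663)) (BT.node 4664 (BT.leaf cE4664) (BT.leaf cE4665))) (BT.node 4668 (BT.node 4667 (BT.node 4666 (BT.leaf cE4666) (BT.leaf cE4667)) (BT.leaf cE4668)) (BT.node 4669 (BT.leaf cE4669) (BT.leaf cE4670)))))) (BT.node 4691 (BT.node 4681 (BT.node 4676 (BT.node 4673 (BT.node 4672 (BT.node 4671 (BT.leaf cE4671) (BT.leaf cE4672)) (BT.leaf cE4673)) (BT.node 4675 (BT.node 4674 (BT.leaf cE4674) (BT.leaf cE4675)) (BT.leaf cE4676))) (BT.node 4679 (BT.node 4678 (BT.node 4677 (BT.leaf cE4677) (BT.leaf cE4678)) (BT.leaf cE4679)) (BT.node 4680 (BT.leaf cE4680) (BT.leaf cE4681)))) (BT.node 4686 (BT.node 4684 (BT.node 4683 (BT.node 4682 (BT.leaf cE4682) (BT.leaf cE4683)) (BT.leaf cE4684)) (BT.node 4685 (BT.leaf cE4685) (BT.leaf cE4686))) (BT.node 4689 (BT.node 4688 (BT.node 4687 (BT.leaf cE4687) (BT.leaf cE4688)) (BT.leaf cE4689)) (BT.node 4690 (BT.leaf cE4690) (BT.leaf cE4691))))) (BT.node 4701 (BT.node 4696 (BT.node 4694 (BT.node 4693 (BT.node 4692 (BT.leaf cE4692) (BT.leaf cE4693)) (BT.leaf cE4694)) (BT.node 4695 (BT.leaf cE4695) (BT.leaf cE4696))) (BT.node 4699 (BT.node 4698 (BT.node 4697 (BT.leaf cE4697) (BT.leaf cE4698)) (BT.leaf cE4699)) (BT.node 4700 (BT.leaf cE4700) (BT.leaf cE4701)))) (BT.node 4706 (BT.node 4704 (BT.node 4703 (BT.node 4702 (BT.leaf cE4702) (BT.leaf cE4703)) (BT.leaf cE4704)) (BT.node 4705 (BT.leaf cE4705) (BT.leaf cE4706))) (BT.node 4709 (BT.node 4708 (BT.node 4707 (BT.leaf cE4707) (BT.leaf cE4708)) (BT.leaf cE4709)) (BT.node 4710 (BT.leaf cE4710) (BT.leaf cE4711))))))) (BT.node 4753 (BT.node 4732 (BT.node 4722 (BT.node 4717 (BT.node 4714 (BT.node 4713 (BT.node 4712 (BT.leaf cE4712) (BT.leaf cE4713)) (BT.leaf cE4714)) (BT.node 4716 (BT.node 4715 (BT.leaf cE4715) (BT.leaf cE4716)) (BT.leaf cE4717))) (BT.node 4720 (BT.node 4719 (BT.node 4718 (BT.leaf cE4718) (BT.leaf cE4719)) (BT.leaf cE4720)) (BT.node 4721 (BT.leaf cE4721) (BT.leaf cE4722)))) (BT.node 4727 (BT.node 4725 (BT.node 4724 (BT.node 4723 (BT.leaf cE4723) (BT.leaf cE4724)) (BT.leaf cE4725)) (BT.node 4726 (BT.leaf cE4726) (BT.leaf cE4727))) (BT.node 4730 (BT.node 4729 (BT.node 4728 (BT.leaf cE4728) (BT.leaf cE4729)) (BT.leaf cE4730)) (BT.node 4731 (BT.leaf cE4731) (BT.leaf cE4732))))) (BT.node 4743 (BT.node 4738 (BT.node 4735 (BT.node 4734 (BT.node 4733 (BT.leaf cE4733) (BT.leaf cE4734)) (BT.leaf cE4735)) (BT.node 4737 (BT.node 4736 (BT.leaf cE4736) (BT.leaf cE4737)) (BT.leaf cE4738))) (BT.node 4741 (BT.node 4740 (BT.node 4739 (BT.leaf cE4739) (BT.leaf cE4740)) (BT.leaf cE4741)) (BT.node 4742 (BT.leaf cE4742) (BT.leaf cE4743)))) (BT.node 4748 (BT.node 4746 (BT.node 4745 (BT.node 4744 (BT.leaf cE4744) (BT.leaf cE4745)) (BT.leaf cE4746)) (BT.node 4747 (BT.leaf cE4747) (BT.leaf cE4748))) (BT.node 4751 (BT.node 4750 (BT.node 4749 (BT.leaf cE4749) (BT.leaf cE4750)) (BT.leaf cE4751)) (BT.node 4752 (BT.leaf cE4752) (BT.leaf cE4753)))))) (BT.node 4774 (BT.node 4764 (BT.node 4759 (BT.node 4756 (BT.node 4755 (BT.node 4754 (BT.leaf cE4754) (BT.leaf cE4755)) (BT.leaf cE4756)) (BT.node 4758 (BT.node 4757 (BT.leaf cE4757) (BT.leaf cE4758)) (BT.leaf cE4759))) (BT.node 4762 (BT.node 4761 (BT.node 4760 (BT.leaf cE4760) (BT.leaf cE4761)) (BT.leaf cE4762)) (BT.node 4763 (BT.leaf cE4763) (BT.leaf cE4764)))) (BT.node 4769 (BT.node 4767 (BT.node 4766 (BT.node 4765 (BT.leaf cE4765) (BT.leaf cE4766)) (BT.leaf cE4767)) (BT.node 4768 (BT.leaf cE4768) (BT.leaf cE4769))) (BT.node 4772 (BT.node 4771 (BT.node 4770 (BT.leaf cE4770) (BT.leaf cE4771)) (BT.leaf cE4772)) (BT.node 4773 (BT.leaf cE4773) (BT.leaf cE4774))))) (BT.node 4784 (BT.node 4779 (BT.node 4777 (BT.node 4776 (BT.node 4775 (BT.leaf cE4775) (BT.leaf cE4776)) (BT.leaf cE4777)) (BT.node 4778 (BT.leaf cE4778) (BT.leaf cE4779))) (BT.node 4782 (BT.node 4781 (BT.node 4780 (BT.leaf cE4780) (BT.leaf cE4781)) (BT.leaf cE4782)) (BT.node 4783 (BT.leaf cE4783) (BT.leaf cE4784)))) (BT.node 4789 (BT.node 4787 (BT.node 4786 (BT.node 4785 (BT.leaf cE4785) (BT.leaf cE4786)) (BT.leaf cE4787)) (BT.node 4788 (BT.leaf cE4788) (BT.leaf cE4789))) (BT.node 4792 (BT.node 4791 (BT.node 4790 (BT.leaf cE4790) (BT.leaf cE4791)) (BT.leaf cE4792)) (BT.node 4793 (BT.leaf cE4793) (BT.leaf cE4794)))))))) (BT.node 4877 (BT.node 4836 (BT.node 4815 (BT.node 4805 (BT.node 4800 (BT.node 4797 (BT.node 4796 (BT.node 4795 (BT.leaf cE4795) (BT.leaf cE4796)) (BT.leaf cE4797)) (BT.node 4799 (BT.node 4798 (BT.leaf cE4798) (BT.leaf cE4799)) (BT.leaf cE4800))) (BT.node 4803 (BT.node 4802 (BT.node 4801 (BT.leaf cE4801) (BT.leaf cE4802)) (BT.leaf cE4803)) (BT.node 4804 (BT.leaf cE4804) (BT.leaf cE4805)))) (BT.node 4810 (BT.node 4808 (BT.node 4807 (BT.node 4806 (BT.leaf cE4806) (BT.leaf cE4807)) (BT.leaf cE4808)) (BT.node 4809 (BT.leaf cE4809) (BT.leaf cE4810))) (BT.node 4813 (BT.node 4812 (BT.node 4811 (BT.leaf cE4811) (BT.leaf cE4812)) (BT.leaf cE4813)) (BT.node 4814 (BT.leaf cE4814) (BT.leaf cE4815))))) (BT.node 4826 (BT.node 4821 (BT.node 4818 (BT.node 4817 (BT.node 4816 (BT.leaf cE4816) (BT.leaf cE4817)) (BT.leaf cE4818)) (BT.node 4820 (BT.node 4819 (BT.leaf cE4819) (BT.leaf cE4820)) (BT.leaf cE4821))) (BT.node 4824 (BT.node 4823 (BT.node 4822 (BT.leaf cE4822) (BT.leaf cE4823)) (BT.leaf cE4824)) (BT.node 4825 (BT.leaf cE4825) (BT.leaf cE4826)))) (BT.node 4831 (BT.node 4829 (BT.node 4828 (BT.node 4827 (BT.leaf cE4827) (BT.leaf cE4828)) (BT.leaf cE4829)) (BT.node 4830 (BT.leaf cE4830) (BT.leaf cE4831))) (BT.node 4834 (BT.node 4833 (BT.node 4832 (BT.leaf cE4832) (BT.leaf cE4833)) (BT.leaf cE4834)) (BT.node 4835 (BT.leaf cE4835) (BT.leaf cE4836)))))) (BT.node 4857 (BT.node 4847 (BT.node 4842 (BT.node 4839 (BT.node 4838 (BT.node 4837 (BT.leaf cE4837) (BT.leaf cE4838)) (BT.leaf cE4839)) (BT.node 4841 (BT.node 4840 (BT.leaf cE4840) (BT.leaf cE4841)) (BT.leaf cE4842))) (BT.node 4845 (BT.node 4844 (BT.node 4843 (BT.leaf cE4843) (BT.leaf cE4844)) (BT.leaf cE4845)) (BT.node 4846 (BT.leaf cE4846) (BT.leaf cE4847)))) (BT.node 4852 (BT.node 4850 (BT.node 4849 (BT.node 4848 (BT.leaf cE4848) (BT.leaf cE4849)) (BT.leaf cE4850)) (BT.node 4851 (BT.leaf cE4851) (BT.leaf cE4852))) (BT.node 4855 (BT.node 4854 (BT.node 4853 (BT.leaf cE4853) (BT.leaf cE4854)) (BT.leaf cE4855)) (BT.node 4856 (BT.leaf cE4856) (BT.leaf cE4857))))) (BT.node 4867 (BT.node 4862 (BT.node 4860 (BT.node 4859 (BT.node 4858 (BT.leaf cE4858) (BT.leaf cE4859)) (BT.leaf cE4860)) (BT.node 4861 (BT.leaf cE4861) (BT.leaf cE4862))) (BT.node 4865 (BT.node 4864 (BT.node 4863 (BT.leaf cE4863) (BT.leaf cE4864)) (BT.leaf cE4865)) (BT.node 4866 (BT.leaf cE4866) (BT.leaf cE4867)))) (BT.node 4872 (BT.node 4870 (BT.node 4869 (BT.node 4868 (BT.leaf cE4868) (BT.leaf cE4869)) (BT.leaf cE4870)) (BT.node 4871 (BT.leaf cE4871) (BT.leaf cE4872))) (BT.node 4875 (BT.node 4874 (BT.node 4873 (BT.leaf cE4873) (BT.leaf cE4874)) (BT.leaf cE4875)) (BT.node 4876 (BT.leaf cE4876) (BT.leaf cE4877))))))) (BT.node 4918 (BT.node 4898 (BT.node 4888 (BT.node 4883 (BT.node 4880 (BT.node 4879 (BT.node 4878 (BT.leaf cE4878) (BT.leaf cE4879)) (BT.leaf cE4880)) (BT.node 4882 (BT.node 4881 (BT.leaf cE4881) (BT.leaf cE4882)) (BT.leaf cE4883))) (BT.node 4886 (BT.node 4885 (BT.node 4884 (BT.leaf cE4884) (BT.leaf cE4885)) (BT.leaf cE4886)) (BT.node 4887 (BT.leaf cE4887) (BT.leaf cE4888)))) (BT.node 4893 (BT.node 4891 (BT.node 4890 (BT.node 4889 (BT.leaf cE4889) (BT.leaf cE4890)) (BT.leaf cE4891)) (BT.node 4892 (BT.leaf cE4892) (BT.leaf cE4893))) (BT.node 4896 (BT.node 4895 (BT.node 4894 (BT.leaf cE4894) (BT.leaf cE4895)) (BT.leaf cE4896)) (BT.node 4897 (BT.leaf cE4897) (BT.leaf cE4898))))) (BT.node 4908 (BT.node 4903 (BT.node 4901 (BT.node 4900 (BT.node 4899 (BT.leaf cE4899) (BT.leaf cE4900)) (BT.leaf cE4901)) (BT.node 4902 (BT.leaf cE4902) (BT.leaf cE4903))) (BT.node 4906 (BT.node 4905 (BT.node 4904 (BT.leaf cE4904) (BT.leaf cE4905)) (BT.leaf cE4906)) (BT.node 4907 (BT.leaf cE4907) (BT.leaf cE4908)))) (BT.node 4913 (BT.node 4911 (BT.node 4910 (BT.node 4909 (BT.leaf cE4909) (BT.leaf cE4910)) (BT.leaf cE4911)) (BT.node 4912 (BT.leaf cE4912) (BT.leaf cE4913))) (BT.node 4916 (BT.node 4915 (BT.node 4914 (BT.leaf cE4914) (BT.leaf cE4915)) (BT.leaf cE4916)) (BT.node 4917 (BT.leaf cE4917) (BT.leaf cE4918)))))) (BT.node 4939 (BT.node 4929 (BT.node 4924 (BT.node 4921 (BT.node 4920 (BT.node 4919 (BT.leaf cE4919) (BT.leaf cE4920)) (BT.leaf cE4921)) (BT.node 4923 (BT.node 4922 (BT.leaf cE4922) (BT.leaf cE4923)) (BT.leaf cE4924))) (BT.node 4927 (BT.node 4926 (BT.node 4925 (BT.leaf cE4925) (BT.leaf cE4926)) (BT.leaf cE4927)) (BT.node 4928 (BT.leaf cE4928) (BT.leaf cE4929)))) (BT.node 4934 (BT.node 4932 (BT.node 4931 (BT.node 4930 (BT.leaf cE4930) (BT.leaf cE4931)) (BT.leaf cE4932)) (BT.node 4933 (BT.leaf cE4933) (BT.leaf cE4934))) (BT.node 4937 (BT.node 4936 (BT.node 4935 (BT.leaf cE4935) (BT.leaf cE4936)) (BT.leaf cE4937)) (BT.node 4938 (BT.leaf cE4938) (BT.leaf cE4939))))) (BT.node 4949 (BT.node 4944 (BT.node 4942 (BT.node 4941 (BT.node 4940 (BT.leaf cE4940) (BT.leaf cE4941)) (BT.leaf cE4942)) (BT.node 4943 (BT.leaf cE4943) (BT.leaf cE4944))) (BT.node 4947 (BT.node 4946 (BT.node 4945 (BT.leaf cE4945) (BT.leaf cE4946)) (BT.leaf cE4947)) (BT.node 4948 (BT.leaf cE4948) (BT.leaf cE4949)))) (BT.node 4954 (BT.node 4952 (BT.node 4951 (BT.node 4950 (BT.leaf cE4950) (BT.leaf cE4951)) (BT.leaf cE4952)) (BT.node 4953 (BT.leaf cE4953) (BT.leaf cE4954))) (BT.node 4957 (BT.node 4956 (BT.node 4955 (BT.leaf cE4955) (BT.leaf cE4956)) (BT.leaf cE4957)) (BT.node 4958 (BT.leaf cE4958) (BT.leaf cE4959))))))))) (BT.node 5124 (BT.node 5042 (BT.node 5001 (BT.node 4980 (BT.node 4970 (BT.node 4965 (BT.node 4962 (BT.node 4961 (BT.node 4960 (BT.leaf cE4960) (BT.leaf cE4961)) (BT.leaf cE4962)) (BT.node 4964 (BT.node 4963 (BT.leaf cE4963) (BT.leaf cE4964)) (BT.leaf cE4965))) (BT.node 4968 (BT.node 4967 (BT.node 4966 (BT.leaf cE4966) (BT.leaf cE4967)) (BT.leaf cE4968)) (BT.node 4969 (BT.leaf cE4969) (BT.leaf cE4970)))) (BT.node 4975 (BT.node 4973 (BT.node 4972 (BT.node 4971 (BT.leaf cE4971) (BT.leaf cE4972)) (BT.leaf cE4973)) (BT.node 4974 (BT.leaf cE4974) (BT.leaf cE4975))) (BT.node 4978 (BT.node 4977 (BT.node 4976 (BT.leaf cE4976) (BT.leaf cE4977)) (BT.leaf cE4978)) (BT.node 4979 (BT.leaf cE4979) (BT.leaf cE4980))))) (BT.node 4991 (BT.node 4986 (BT.node 4983 (BT.node 4982 (BT.node 4981 (BT.leaf cE4981) (BT.leaf cE4982)) (BT.leaf cE4983)) (BT.node 4985 (BT.node 4984 (BT.leaf cE4984) (BT.leaf cE4985)) (BT.leaf cE4986))) (BT.node 4989 (BT.node 4988 (BT.node 4987 (BT.leaf cE4987) (BT.leaf cE4988)) (BT.leaf cE4989)) (BT.node 4990 (BT.leaf cE4990) (BT.leaf cE4991)))) (BT.node 4996 (BT.node 4994 (BT.node 4993 (BT.node 4992 (BT.leaf cE4992) (BT.leaf cE4993)) (BT.leaf cE4994)) (BT.node 4995 (BT.leaf cE4995) (BT.leaf cE4996))) (BT.node 4999 (BT.node 4998 (BT.node 4997 (BT.leaf cE4997) (BT.leaf cE4998)) (BT.leaf cE4999)) (BT.node 5000 (BT.leaf cE5000) (BT.leaf cE5001)))))) (BT.node 5022 (BT.node 5012 (BT.node 5007 (BT.node 5004 (BT.node 5003 (BT.node 5002 (BT.leaf cE5002) (BT.leaf cE5003)) (BT.leaf cE5004)) (BT.node 5006 (BT.node 5005 (BT.leaf cE5005) (BT.leaf cE5006)) (BT.leaf cE5007))) (BT.node 5010 (BT.node 5009 (BT.node 5008 (BT.leaf cE5008) (BT.leaf cE5009)) (BT.leaf cE5010)) (BT.node 5011 (BT.leaf cE5011) (BT.leaf cE5012)))) (BT.node 5017 (BT.node 5015 (BT.node 5014 (BT.node 5013 (BT.leaf cE5013) (BT.leaf cE5014)) (BT.leaf cE5015)) (BT.node 5016 (BT.leaf cE5016) (BT.leaf cE5017))) (BT.node 5020 (BT.node 5019 (BT.node 5018 (BT.leaf cE5018) (BT.leaf cE5019)) (BT.leaf cE5020)) (BT.node 5021 (BT.leaf cE5021) (BT.leaf cE5022))))) (BT.node 5032 (BT.node 5027 (BT.node 5025 (BT.node 5024 (BT.node 5023 (BT.leaf cE5023) (BT.leaf cE5024)) (BT.leaf cE5025)) (BT.node 5026 (BT.leaf cE5026) (BT.leaf cE5027))) (BT.node 5030 (BT.node 5029 (BT.node 5028 (BT.leaf cE5028) (BT.leaf cE5029)) (BT.leaf cE5030)) (BT.node 5031 (BT.leaf cE5031) (BT.leaf cE5032)))) (BT.node 5037 (BT.node 5035 (BT.node 5034 (BT.node 5033 (BT.leaf cE5033) (BT.leaf cE5034)) (BT.leaf cE5035)) (BT.node 5036 (BT.leaf cE5036) (BT.leaf cE5037))) (BT.node 5040 (BT.node 5039 (BT.node 5038 (BT.leaf cE5038) (BT.leaf cE5039)) (BT.leaf cE5040)) (BT.node 5041 (BT.leaf cE5041) (BT.leaf cE5042))))))) (BT.node 5083 (BT.node 5063 (BT.node 5053 (BT.node 5048 (BT.node 5045 (BT.node 5044 (BT.node 5043 (BT.leaf cE5043) (BT.leaf cE5044)) (BT.leaf cE5045)) (BT.node 5047 (BT.node 5046 (BT.leaf cE5046) (BT.leaf cE5047)) (BT.leaf cE5048))) (BT.node 5051 (BT.node 5050 (BT.node 5049 (BT.leaf cE5049) (BT.leaf cE5050)) (BT.leaf cE5051)) (BT.node 5052 (BT.leaf cE5052) (BT.leaf cE5053)))) (BT.node 5058 (BT.node 5056 (BT.node 5055 (BT.node 5054 (BT.leaf cE5054) (BT.leaf cE5055)) (BT.leaf cE5056)) (BT.node 5057 (BT.leaf cE5057) (BT.leaf cE5058))) (BT.node 5061 (BT.node 5060 (BT.node 5059 (BT.leaf cE5059) (BT.leaf cE5060)) (BT.leaf cE5061)) (BT.node 5062 (BT.leaf cE5062) (BT.leaf cE5063))))) (BT.node 5073 (BT.node 5068 (BT.node 5066 (BT.node 5065 (BT.node 5064 (BT.leaf cE5064) (BT.leaf cE5065)) (BT.leaf cE5066)) (BT.node 5067 (BT.leaf cE5067) (BT.leaf cE5068))) (BT.node 5071 (BT.node 5070 (BT.node 5069 (BT.leaf cE5069) (BT.leaf cE5070)) (BT.leaf cE5071)) (BT.node 5072 (BT.leaf cE5072) (BT.leaf cE5073)))) (BT.node 5078 (BT.node 5076 (BT.node 5075 (BT.node 5074 (BT.leaf cE5074) (BT.leaf cE5075)) (BT.leaf cE5076)) (BT.node 5077 (BT.leaf cE5077) (BT.leaf cE5078))) (BT.node 5081 (BT.node 5080 (BT.node 5079 (BT.leaf cE5079) (BT.leaf cE5080)) (BT.leaf cE5081)) (BT.node 5082 (BT.leaf cE5082) (BT.leaf cE5083)))))) (BT.node 5104 (BT.node 5094 (BT.node 5089 (BT.node 5086 (BT.node 5085 (BT.node 5084 (BT.leaf cE5084) (BT.leaf cE5085)) (BT.leaf cE5086)) (BT.node 5088 (BT.node 5087 (BT.leaf cE5087) (BT.leaf cE5088)) (BT.leaf cE5089))) (BT.node 5092 (BT.node 5091 (BT.node 5090 (BT.leaf cE5090) (BT.leaf cE5091)) (BT.leaf cE5092)) (BT.node 5093 (BT.leaf cE5093) (BT.leaf cE5094)))) (BT.node 5099 (BT.node 5097 (BT.node 5096 (BT.node 5095 (BT.leaf cE5095) (BT.leaf cE5096)) (BT.leaf cE5097)) (BT.node 5098 (BT.leaf cE5098) (BT.leaf cE5099))) (BT.node 5102 (BT.node 5101 (BT.node 5100 (BT.leaf cE5100) (BT.leaf cE5101)) (BT.leaf cE5102)) (BT.node 5103 (BT.leaf cE5103) (BT.leaf cE5104))))) (BT.node 5114 (BT.node 5109 (BT.node 5107 (BT.node 5106 (BT.node 5105 (BT.leaf cE5105) (BT.leaf cE5106)) (BT.leaf cE5107)) (BT.node 5108 (BT.leaf cE5108) (BT.leaf cE5109))) (BT.node 5112 (BT.node 5111 (BT.node 5110 (BT.leaf cE5110) (BT.leaf cE5111)) (BT.leaf cE5112)) (BT.node 5113 (BT.leaf cE5113) (BT.leaf cE5114)))) (BT.node 5119 (BT.node 5117 (BT.node 5116 (BT.node 5115 (BT.leaf cE5115) (BT.leaf cE5116)) (BT.leaf cE5117)) (BT.node 5118 (BT.leaf cE5118) (BT.leaf cE5119))) (BT.node 5122 (BT.node 5121 (BT.node 5120 (BT.leaf cE5120) (BT.leaf cE5121)) (BT.leaf cE5122)) (BT.node 5123 (BT.leaf cE5123) (BT.leaf cE5124)))))))) (BT.node 5207 (BT.node 5166 (BT.node 5145 (BT.node 5135 (BT.node 5130 (BT.node 5127 (BT.node 5126 (BT.node 5125 (BT.leaf cE5125) (BT.leaf cE5126)) (BT.leaf cE5127)) (BT.node 5129 (BT.node 5128 (BT.leaf cE5128) (BT.leaf cE5129)) (BT.leaf cE5130))) (BT.node 5133 (BT.node 5132 (BT.node 5131 (BT.leaf cE5131) (BT.leaf cE5132)) (BT.leaf cE5133)) (BT.node 5134 (BT.leaf cE5134) (BT.leaf cE5135)))) (BT.node 5140 (BT.node 5138 (BT.node 5137 (BT.node 5136 (BT.leaf cE5136) (BT.leaf cE5137)) (BT.leaf cE5138)) (BT.node 5139 (BT.leaf cE5139) (BT.leaf cE5140))) (BT.node 5143 (BT.node 5142 (BT.node 5141 (BT.leaf cE5141) (BT.leaf cE5142)) (BT.leaf cE5143)) (BT.node 5144 (BT.leaf cE5144) (BT.leaf cE5145))))) (BT.node 5156 (BT.node 5151 (BT.node 5148 (BT.node 5147 (BT.node 5146 (BT.leaf cE5146) (BT.leaf cE5147)) (BT.leaf cE5148)) (BT.node 5150 (BT.node 5149 (BT.leaf cE5149) (BT.leaf cE5150)) (BT.leaf cE5151))) (BT.node 5154 (BT.node 5153 (BT.node 5152 (BT.leaf cE5152) (BT.leaf cE5153)) (BT.leaf cE5154)) (BT.node 5155 (BT.leaf cE5155) (BT.leaf cE5156)))) (BT.node 5161 (BT.node 5159 (BT.node 5158 (BT.node 5157 (BT.leaf cE5157) (BT.leaf cE5158)) (BT.leaf cE5159)) (BT.node 5160 (BT.leaf cE5160) (BT.leaf cE5161))) (BT.node 5164 (BT.node 5163 (BT.node 5162 (BT.leaf cE5162) (BT.leaf cE5163)) (BT.leaf cE5164)) (BT.node 5165 (BT.leaf cE5165) (BT.leaf cE5166)))))) (BT.node 5187 (BT.node 5177 (BT.node 5172 (BT.node 5169 (BT.node 5168 (BT.node 5167 (BT.leaf cE5167) (BT.leaf cE5168)) (BT.leaf cE5169)) (BT.node 5171 (BT.node 5170 (BT.leaf cE5170) (BT.leaf cE5171)) (BT.leaf cE5172))) (BT.node 5175 (BT.node 5174 (BT.node 5173 (BT.leaf cE5173) (BT.leaf cE5174)) (BT.leaf cE5175)) (BT.node 5176 (BT.leaf cE5176) (BT.leaf cE5177)))) (BT.node 5182 (BT.node 5180 (BT.node 5179 (BT.node 5178 (BT.leaf cE5178) (BT.leaf cE5179)) (BT.leaf cE5180)) (BT.node 5181 (BT.leaf cE5181) (BT.leaf cE5182))) (BT.node 5185 (BT.node 5184 (BT.node 5183 (BT.leaf cE5183) (BT.leaf cE5184)) (BT.leaf cE5185)) (BT.node 5186 (BT.leaf cE5186) (BT.leaf cE5187))))) (BT.node 5197 (BT.node 5192 (BT.node 5190 (BT.node 5189 (BT.node 5188 (BT.leaf cE5188) (BT.leaf cE5189)) (BT.leaf cE5190)) (BT.node 5191 (BT.leaf cE5191) (BT.leaf cE5192))) (BT.node 5195 (BT.node 5194 (BT.node 5193 (BT.leaf cE5193) (BT.leaf cE5194)) (BT.leaf cE5195)) (BT.node 5196 (BT.leaf cE5196) (BT.leaf cE5197)))) (BT.node 5202 (BT.node 5200 (BT.node 5199 (BT.node 5198 (BT.leaf cE5198) (BT.leaf cE5199)) (BT.leaf cE5200)) (BT.node 5201 (BT.leaf cE5201) (BT.leaf cE5202))) (BT.node 5205 (BT.node 5204 (BT.node 5203 (BT.leaf cE5203) (BT.leaf cE5204)) (BT.leaf cE5205)) (BT.node 5206 (BT.leaf cE5206) (BT.leaf cE5207))))))) (BT.node 5248 (BT.node 5228 (BT.node 5218 (BT.node 5213 (BT.node 5210 (BT.node 5209 (BT.node 5208 (BT.leaf cE5208) (BT.leaf cE5209)) (BT.leaf cE5210)) (BT.node 5212 (BT.node 5211 (BT.leaf cE5211) (BT.leaf cE5212)) (BT.leaf cE5213))) (BT.node 5216 (BT.node 5215 (BT.node 5214 (BT.leaf cE5214) (BT.leaf cE5215)) (BT.leaf cE5216)) (BT.node 5217 (BT.leaf cE5217) (BT.leaf cE5218)))) (BT.node 5223 (BT.node 5221 (BT.node 5220 (BT.node 5219 (BT.leaf cE5219) (BT.leaf cE5220)) (BT.leaf cE5221)) (BT.node 5222 (BT.leaf cE5222) (BT.leaf cE5223))) (BT.node 5226 (BT.node 5225 (BT.node 5224 (BT.leaf cE5224) (BT.leaf cE5225)) (BT.leaf cE5226)) (BT.node 5227 (BT.leaf cE5227) (BT.leaf cE5228))))) (BT.node 5238 (BT.node 5233 (BT.node 5231 (BT.node 5230 (BT.node 5229 (BT.leaf cE5229) (BT.leaf cE5230)) (BT.leaf cE5231)) (BT.node 5232 (BT.leaf cE5232) (BT.leaf cE5233))) (BT.node 5236 (BT.node 5235 (BT.node 5234 (BT.leaf cE5234) (BT.leaf cE5235)) (BT.leaf cE5236)) (BT.node 5237 (BT.leaf cE5237) (BT.leaf cE5238)))) (BT.node 5243 (BT.node 5241 (BT.node 5240 (BT.node 5239 (BT.leaf cE5239) (BT.leaf cE5240)) (BT.leaf cE5241)) (BT.node 5242 (BT.leaf cE5242) (BT.leaf cE5243))) (BT.node 5246 (BT.node 5245 (BT.node 5244 (BT.leaf cE5244) (BT.leaf cE5245)) (BT.leaf cE5246)) (BT.node 5247 (BT.leaf cE5247) (BT.leaf cE5248)))))) (BT.node 5269 (BT.node 5259 (BT.node 5254 (BT.node 5251 (BT.node 5250 (BT.node 5249 (BT.leaf cE5249) (BT.leaf cE5250)) (BT.leaf cE5251)) (BT.node 5253 (BT.node 5252 (BT.leaf cE5252) (BT.leaf cE5253)) (BT.leaf cE5254))) (BT.node 5257 (BT.node 5256 (BT.node 5255 (BT.leaf cE5255) (BT.leaf cE5256)) (BT.leaf cE5257)) (BT.node 5258 (BT.leaf cE5258) (BT.leaf cE5259)))) (BT.node 5264 (BT.node 5262 (BT.node 5261 (BT.node 5260 (BT.leaf cE5260) (BT.leaf cE5261)) (BT.leaf cE5262)) (BT.node 5263 (BT.leaf cE5263) (BT.leaf cE5264))) (BT.node 5267 (BT.node 5266 (BT.node 5265 (BT.leaf cE5265) (BT.leaf cE5266)) (BT.leaf cE5267)) (BT.node 5268 (BT.leaf cE5268) (BT.leaf cE5269))))) (BT.node 5279 (BT.node 5274 (BT.node 5272 (BT.node 5271 (BT.node 5270 (BT.leaf cE5270) (BT.leaf cE5271)) (BT.leaf cE5272)) (BT.node 5273 (BT.leaf cE5273) (BT.leaf cE5274))) (BT.node 5277 (BT.node 5276 (BT.node 5275 (BT.leaf cE5275) (BT.leaf cE5276)) (BT.leaf cE5277)) (BT.node 5278 (BT.leaf cE5278) (BT.leaf cE5279)))) (BT.node 5284 (BT.node 5282 (BT.node 5281 (BT.node 5280 (BT.leaf cE5280) (BT.leaf cE5281)) (BT.leaf cE5282)) (BT.node 5283 (BT.leaf cE5283) (BT.leaf cE5284))) (BT.node 5287 (BT.node 5286 (BT.node 5285 (BT.leaf cE5285) (BT.leaf cE5286)) (BT.leaf cE5287)) (BT.node 5288 (BT.leaf cE5288) (BT.leaf cE5289)))))))))))))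
/-- justification chunks -/
def colJT : BT ℕ := (BT.node 2644 (BT.node 1322 (BT.node 661 (BT.node 330 (BT.node 165 (BT.node 82 (BT.node 41 (BT.node 20 (BT.node 10 (BT.node 5 (BT.node 2 (BT.node 1 (BT.node 0 (BT.leaf cJ0) (BT.leaf cJ1)) (BT.leaf cJ2)) (BT.node 4 (BT.node 3 (BT.leaf cJ3) (BT.leaf cJ4)) (BT.leaf cJ5))) (BT.node 8 (BT.node 7 (BT.node 6 (BT.leaf cJ6) (BT.leaf cJ7)) (BT.leaf cJ8)) (BT.node 9 (BT.leaf cJ9) (BT.leaf cJ10)))) (BT.node 15 (BT.node 13 (BT.node 12 (BT.node 11 (BT.leaf cJ11) (BT.leaf cJ12)) (BT.leaf cJ13)) (BT.node 14 (BT.leaf cJ14) (BT.leaf cJ15))) (BT.node 18 (BT.node 17 (BT.node 16 (BT.leaf cJ16) (BT.leaf cJ17)) (BT.leaf cJ18)) (BT.node 19 (BT.leaf cJ19) (BT.leaf cJ20))))) (BT.node 31 (BT.node 26 (BT.node 23 (BT.node 22 (BT.node 21 (BT.leaf cJ21) (BT.leaf cJ22)) (BT.leaf cJ23)) (BT.node 25 (BT.node 24 (BT.leaf cJ24) (BT.leaf cJ25)) (BT.leaf cJ26))) (BT.node 29 (BT.node 28 (BT.node 27 (BT.leaf cJ27) (BT.leaf cJ28)) (BT.leaf cJ29)) (BT.node 30 (BT.leaf cJ30) (BT.leaf cJ31)))) (BT.node 36 (BT.node 34 (BT.node 33 (BT.node 32 (BT.leaf cJ32) (BT.leaf cJ33)) (BT.leaf cJ34)) (BT.node 35 (BT.leaf cJ35) (BT.leaf cJ36))) (BT.node 39 (BT.node 38 (BT.node 37 (BT.leaf cJ37) (BT.leaf cJ38)) (BT.leaf cJ39)) (BT.node 40 (BT.leaf cJ40) (BT.leaf cJ41)))))) (BT.node 62 (BT.node 52 (BT.node 47 (BT.node 44 (BT.node 43 (BT.node 42 (BT.leaf cJ42) (BT.leaf cJ43)) (BT.leaf cJ44)) (BT.node 46 (BT.node 45 (BT.leaf cJ45) (BT.leaf cJ46)) (BT.leaf cJ47))) (BT.node 50 (BT.node 49 (BT.node 48 (BT.leaf cJ48) (BT.leaf cJ49)) (BT.leaf cJ50)) (BT.node 51 (BT.leaf cJ51) (BT.leaf cJ52)))) (BT.node 57 (BT.node 55 (BT.node 54 (BT.node 53 (BT.leaf cJ53) (BT.leaf cJ54)) (BT.leaf cJ55)) (BT.node 56 (BT.leaf cJ56) (BT.leaf cJ57))) (BT.node 60 (BT.node 59 (BT.node 58 (BT.leaf cJ58) (BT.leaf cJ59)) (BT.leaf cJ60)) (BT.node 61 (BT.leaf cJ61) (BT.leaf cJ62))))) (BT.node 72 (BT.node 67 (BT.node 65 (BT.node 64 (BT.node 63 (BT.leaf cJ63) (BT.leaf cJ64)) (BT.leaf cJ65)) (BT.node 66 (BT.leaf cJ66) (BT.leaf cJ67))) (BT.node 70 (BT.node 69 (BT.node 68 (BT.leaf cJ68) (BT.leaf cJ69)) (BT.leaf cJ70)) (BT.node 71 (BT.leaf cJ71) (BT.leaf cJ72)))) (BT.node 77 (BT.node 75 (BT.node 74 (BT.node 73 (BT.leaf cJ73) (BT.leaf cJ74)) (BT.leaf cJ75)) (BT.node 76 (BT.leaf cJ76) (BT.leaf cJ77))) (BT.node 80 (BT.node 79 (BT.node 78 (BT.leaf cJ78) (BT.leaf cJ79)) (BT.leaf cJ80)) (BT.node 81 (BT.leaf cJ81) (BT.leaf cJ82))))))) (BT.node 124 (BT.node 103 (BT.node 93 (BT.node 88 (BT.node 85 (BT.node 84 (BT.node 83 (BT.leaf cJ83) (BT.leaf cJ84)) (BT.leaf cJ85)) (BT.node 87 (BT.node 86 (BT.leaf cJ86) (BT.leaf cJ87)) (BT.leaf cJ88))) (BT.node 91 (BT.node 90 (BT.node 89 (BT.leaf cJ89) (BT.leaf cJ90)) (BT.leaf cJ91)) (BT.node 92 (BT.leaf cJ92) (BT.leaf cJ93)))) (BT.node 98 (BT.node 96 (BT.node 95 (BT.node 94 (BT.leaf cJ94) (BT.leaf cJ95)) (BT.leaf cJ96)) (BT.node 97 (BT.leaf cJ97) (BT.leaf cJ98))) (BT.node 101 (BT.node 100 (BT.node 99 (BT.leaf cJ99) (BT.leaf cJ100)) (BT.leaf cJ101)) (BT.node 102 (BT.leaf cJ102) (BT.leaf cJ103))))) (BT.node 114 (BT.node 109 (BT.node 106 (BT.node 105 (BT.node 104 (BT.leaf cJ104) (BT.leaf cJ105)) (BT.leaf cJ106)) (BT.node 108 (BT.node 107 (BT.leaf cJ107) (BT.leaf cJ108)) (BT.leaf cJ109))) (BT.node 112 (BT.node 111 (BT.node 110 (BT.leaf cJ110) (BT.leaf cJ111)) (BT.leaf cJ112)) (BT.node 113 (BT.leaf cJ113) (BT.leaf cJ114)))) (BT.node 119 (BT.node 117 (BT.node 116 (BT.node 115 (BT.leaf cJ115) (BT.leaf cJ116)) (BT.leaf cJ117)) (BT.node 118 (BT.leaf cJ118) (BT.leaf cJ119))) (BT.node 122 (BT.node 121 (BT.node 120 (BT.leaf cJ120) (BT.leaf cJ121)) (BT.leaf cJ122)) (BT.node 123 (BT.leaf cJ123) (BT.leaf cJ124)))))) (BT.node 145 (BT.node 135 (BT.node 130 (BT.node 127 (BT.node 126 (BT.node 125 (BT.leaf cJ125) (BT.leaf cJ126)) (BT.leaf cJ127)) (BT.node 129 (BT.node 128 (BT.leaf cJ128) (BT.leaf cJ129)) (BT.leaf cJ130))) (BT.node 133 (BT.node 132 (BT.node 131 (BT.leaf cJ131) (BT.leaf cJ132)) (BT.leaf cJ133)) (BT.node 134 (BT.leaf cJ134) (BT.leaf cJ135)))) (BT.node 140 (BT.node 138 (BT.node 137 (BT.node 136 (BT.leaf cJ136) (BT.leaf cJ137)) (BT.leaf cJ138)) (BT.node 139 (BT.leaf cJ139) (BT.leaf cJ140))) (BT.node 143 (BT.node 142 (BT.node 141 (BT.leaf cJ141) (BT.leaf cJ142)) (BT.leaf cJ143)) (BT.node 144 (BT.leaf cJ144) (BT.leaf cJ145))))) (BT.node 155 (BT.node 150 (BT.node 148 (BT.node 147 (BT.node 146 (BT.leaf cJ146) (BT.leaf cJ147)) (BT.leaf cJ148)) (BT.node 149 (BT.leaf cJ149) (BT.leaf cJ150))) (BT.node 153 (BT.node 152 (BT.node 151 (BT.leaf cJ151) (BT.leaf cJ152)) (BT.leaf cJ153)) (BT.node 154 (BT.leaf cJ154) (BT.leaf cJ155)))) (BT.node 160 (BT.node 158 (BT.node 157 (BT.node 156 (BT.leaf cJ156) (BT.leaf cJ157)) (BT.leaf cJ158)) (BT.node 159 (BT.leaf cJ159) (BT.leaf cJ160))) (BT.node 163 (BT.node 162 (BT.node 161 (BT.leaf cJ161) (BT.leaf cJ162)) (BT.leaf cJ163)) (BT.node 164 (BT.leaf cJ164) (BT.leaf cJ165)))))))) (BT.node 248 (BT.node 207 (BT.node 186 (BT.node 176 (BT.node 171 (BT.node 168 (BT.node 167 (BT.node 166 (BT.leaf cJ166) (BT.leaf cJ167)) (BT.leaf cJ168)) (BT.node 170 (BT.node 169 (BT.leaf cJ169) (BT.leaf cJ170)) (BT.leaf cJ171))) (BT.node 174 (BT.node 173 (BT.node 172 (BT.leaf cJ172) (BT.leaf cJ173)) (BT.leaf cJ174)) (BT.node 175 (BT.leaf cJ175) (BT.leaf cJ176)))) (BT.node 181 (BT.node 179 (BT.node 178 (BT.node 177 (BT.leaf cJ177) (BT.leaf cJ178)) (BT.leaf cJ179)) (BT.node 180 (BT.leaf cJ180) (BT.leaf cJ181))) (BT.node 184 (BT.node 183 (BT.node 182 (BT.leaf cJ182) (BT.leaf cJ183)) (BT.leaf cJ184)) (BT.node 185 (BT.leaf cJ185) (BT.leaf cJ186))))) (BT.node 197 (BT.node 192 (BT.node 189 (BT.node 188 (BT.node 187 (BT.leaf cJ187) (BT.leaf cJ188)) (BT.leaf cJ189)) (BT.node 191 (BT.node 190 (BT.leaf cJ190) (BT.leaf cJ191)) (BT.leaf cJ192))) (BT.node 195 (BT.node 194 (BT.node 193 (BT.leaf cJ193) (BT.leaf cJ194)) (BT.leaf cJ195)) (BT.node 196 (BT.leaf cJ196) (BT.leaf cJ197)))) (BT.node 202 (BT.node 200 (BT.node 199 (BT.node 198 (BT.leaf cJ198) (BT.leaf cJ199)) (BT.leaf cJ200)) (BT.node 201 (BT.leaf cJ201) (BT.leaf cJ202))) (BT.node 205 (BT.node 204 (BT.node 203 (BT.leaf cJ203) (BT.leaf cJ204)) (BT.leaf cJ205)) (BT.node 206 (BT.leaf cJ206) (BT.leaf cJ207)))))) (BT.node 228 (BT.node 218 (BT.node 213 (BT.node 210 (BT.node 209 (BT.node 208 (BT.leaf cJ208) (BT.leaf cJ209)) (BT.leaf cJ210)) (BT.node 212 (BT.node 211 (BT.leaf cJ211) (BT.leaf cJ212)) (BT.leaf cJ213))) (BT.node 216 (BT.node 215 (BT.node 214 (BT.leaf cJ214) (BT.leaf cJ215)) (BT.leaf cJ216)) (BT.node 217 (BT.leaf cJ217) (BT.leaf cJ218)))) (BT.node 223 (BT.node 221 (BT.node 220 (BT.node 219 (BT.leaf cJ219) (BT.leaf cJ220)) (BT.leaf cJ221)) (BT.node 222 (BT.leaf cJ222) (BT.leaf cJ223))) (BT.node 226 (BT.node 225 (BT.node 224 (BT.leaf cJ224) (BT.leaf cJ225)) (BT.leaf cJ226)) (BT.node 227 (BT.leaf cJ227) (BT.leaf cJ228))))) (BT.node 238 (BT.node 233 (BT.node 231 (BT.node 230 (BT.node 229 (BT.leaf cJ229) (BT.leaf cJ230)) (BT.leaf cJ231)) (BT.node 232 (BT.leaf cJ232) (BT.leaf cJ233))) (BT.node 236 (BT.node 235 (BT.node 234 (BT.leaf cJ234) (BT.leaf cJ235)) (BT.leaf cJ236)) (BT.node 237 (BT.leaf cJ237) (BT.leaf cJ238)))) (BT.node 243 (BT.node 241 (BT.node 240 (BT.node 239 (BT.leaf cJ239) (BT.leaf cJ240)) (BT.leaf cJ241)) (BT.node 242 (BT.leaf cJ242) (BT.leaf cJ243))) (BT.node 246 (BT.node 245 (BT.node 244 (BT.leaf cJ244) (BT.leaf cJ245)) (BT.leaf cJ246)) (BT.node 247 (BT.leaf cJ247) (BT.leaf cJ248))))))) (BT.node 289 (BT.node 269 (BT.node 259 (BT.node 254 (BT.node 251 (BT.node 250 (BT.node 249 (BT.leaf cJ249) (BT.leaf cJ250)) (BT.leaf cJ251)) (BT.node 253 (BT.node 252 (BT.leaf cJ252) (BT.leaf cJ253)) (BT.leaf cJ254))) (BT.node 257 (BT.node 256 (BT.node 255 (BT.leaf cJ255) (BT.leaf cJ256)) (BT.leaf cJ257)) (BT.node 258 (BT.leaf cJ258) (BT.leaf cJ259)))) (BT.node 264 (BT.node 262 (BT.node 261 (BT.node 260 (BT.leaf cJ260) (BT.leaf cJ261)) (BT.leaf cJ262)) (BT.node 263 (BT.leaf cJ263) (BT.leaf cJ264))) (BT.node 267 (BT.node 266 (BT.node 265 (BT.leaf cJ265) (BT.leaf cJ266)) (BT.leaf cJ267)) (BT.node 268 (BT.leaf cJ268) (BT.leaf cJ269))))) (BT.node 279 (BT.node 274 (BT.node 272 (BT.node 271 (BT.node 270 (BT.leaf cJ270) (BT.leaf cJ271)) (BT.leaf cJ272)) (BT.node 273 (BT.leaf cJ273) (BT.leaf cJ274))) (BT.node 277 (BT.node 276 (BT.node 275 (BT.leaf cJ275) (BT.leaf cJ276)) (BT.leaf cJ277)) (BT.node 278 (BT.leaf cJ278) (BT.leaf cJ279)))) (BT.node 284 (BT.node 282 (BT.node 281 (BT.node 280 (BT.leaf cJ280) (BT.leaf cJ281)) (BT.leaf cJ282)) (BT.node 283 (BT.leaf cJ283) (BT.leaf cJ284))) (BT.node 287 (BT.node 286 (BT.node 285 (BT.leaf cJ285) (BT.leaf cJ286)) (BT.leaf cJ287)) (BT.node 288 (BT.leaf cJ288) (BT.leaf cJ289)))))) (BT.node 310 (BT.node 300 (BT.node 295 (BT.node 292 (BT.node 291 (BT.node 290 (BT.leaf cJ290) (BT.leaf cJ291)) (BT.leaf cJ292)) (BT.node 294 (BT.node 293 (BT.leaf cJ293) (BT.leaf cJ294)) (BT.leaf cJ295))) (BT.node 298 (BT.node 297 (BT.node 296 (BT.leaf cJ296) (BT.leaf cJ297)) (BT.leaf cJ298)) (BT.node 299 (BT.leaf cJ299) (BT.leaf cJ300)))) (BT.node 305 (BT.node 303 (BT.node 302 (BT.node 301 (BT.leaf cJ301) (BT.leaf cJ302)) (BT.leaf cJ303)) (BT.node 304 (BT.leaf cJ304) (BT.leaf cJ305))) (BT.node 308 (BT.node 307 (BT.node 306 (BT.leaf cJ306) (BT.leaf cJ307)) (BT.leaf cJ308)) (BT.node 309 (BT.leaf cJ309) (BT.leaf cJ310))))) (BT.node 320 (BT.node 315 (BT.node 313 (BT.node 312 (BT.node 311 (BT.leaf cJ311) (BT.leaf cJ312)) (BT.leaf cJ313)) (BT.node 314 (BT.leaf cJ314) (BT.leaf cJ315))) (BT.node 318 (BT.node 317 (BT.node 316 (BT.leaf cJ316) (BT.leaf cJ317)) (BT.leaf cJ318)) (BT.node 319 (BT.leaf cJ319) (BT.leaf cJ320)))) (BT.node 325 (BT.node 323 (BT.node 322 (BT.node 321 (BT.leaf cJ321) (BT.leaf cJ322)) (BT.leaf cJ323)) (BT.node 324 (BT.leaf cJ324) (BT.leaf cJ325))) (BT.node 328 (BT.node 327 (BT.node 326 (BT.leaf cJ326) (BT.leaf cJ327)) (BT.leaf cJ328)) (BT.node 329 (BT.leaf cJ329) (BT.leaf cJ330))))))))) (BT.node 496 (BT.node 413 (BT.node 372 (BT.node 351 (BT.node 341 (BT.node 336 (BT.node 333 (BT.node 332 (BT.node 331 (BT.leaf cJ331) (BT.leaf cJ332)) (BT.leaf cJ333)) (BT.node 335 (BT.node 334 (BT.leaf cJ334) (BT.leaf cJ335)) (BT.leaf cJ336))) (BT.node 339 (BT.node 338 (BT.node 337 (BT.leaf cJ337) (BT.leaf cJ338)) (BT.leaf cJ339)) (BT.node 340 (BT.leaf cJ340) (BT.leaf cJ341)))) (BT.node 346 (BT.node 344 (BT.node 343 (BT.node 342 (BT.leaf cJ342) (BT.leaf cJ343)) (BT.leaf cJ344)) (BT.node 345 (BT.leaf cJ345) (BT.leaf cJ346))) (BT.node 349 (BT.node 348 (BT.node 347 (BT.leaf cJ347) (BT.leaf cJ348)) (BT.leaf cJ349)) (BT.node 350 (BT.leaf cJ350) (BT.leaf cJ351))))) (BT.node 362 (BT.node 357 (BT.node 354 (BT.node 353 (BT.node 352 (BT.leaf cJ352) (BT.leaf cJ353)) (BT.leaf cJ354)) (BT.node 356 (BT.node 355 (BT.leaf cJ355) (BT.leaf cJ356)) (BT.leaf cJ357))) (BT.node 360 (BT.node 359 (BT.node 358 (BT.leaf cJ358) (BT.leaf cJ359)) (BT.leaf cJ360)) (BT.node 361 (BT.leaf cJ361) (BT.leaf cJ362)))) (BT.node 367 (BT.node 365 (BT.node 364 (BT.node 363 (BT.leaf cJ363) (BT.leaf cJ364)) (BT.leaf cJ365)) (BT.node 366 (BT.leaf cJ366) (BT.leaf cJ367))) (BT.node 370 (BT.node 369 (BT.node 368 (BT.leaf cJ368) (BT.leaf cJ369)) (BT.leaf cJ370)) (BT.node 371 (BT.leaf cJ371) (BT.leaf cJ372)))))) (BT.node 393 (BT.node 383 (BT.node 378 (BT.node 375 (BT.node 374 (BT.node 373 (BT.leaf cJ373) (BT.leaf cJ374)) (BT.leaf cJ375)) (BT.node 377 (BT.node 376 (BT.leaf cJ376) (BT.leaf cJ377)) (BT.leaf cJ378))) (BT.node 381 (BT.node 380 (BT.node 379 (BT.leaf cJ379) (BT.leaf cJ380)) (BT.leaf cJ381)) (BT.node 382 (BT.leaf cJ382) (BT.leaf cJ383)))) (BT.node 388 (BT.node 386 (BT.node 385 (BT.node 384 (BT.leaf cJ384) (BT.leaf cJ385)) (BT.leaf cJ386)) (BT.node 387 (BT.leaf cJ387) (BT.leaf cJ388))) (BT.node 391 (BT.node 390 (BT.node 389 (BT.leaf cJ389) (BT.leaf cJ390)) (BT.leaf cJ391)) (BT.node 392 (BT.leaf cJ392) (BT.leaf cJ393))))) (BT.node 403 (BT.node 398 (BT.node 396 (BT.node 395 (BT.node 394 (BT.leaf cJ394) (BT.leaf cJ395)) (BT.leaf cJ396)) (BT.node 397 (BT.leaf cJ397) (BT.leaf cJ398))) (BT.node 401 (BT.node 400 (BT.node 399 (BT.leaf cJ399) (BT.leaf cJ400)) (BT.leaf cJ401)) (BT.node 402 (BT.leaf cJ402) (BT.leaf cJ403)))) (BT.node 408 (BT.node 406 (BT.node 405 (BT.node 404 (BT.leaf cJ404) (BT.leaf cJ405)) (BT.leaf cJ406)) (BT.node 407 (BT.leaf cJ407) (BT.leaf cJ408))) (BT.node 411 (BT.node 410 (BT.node 409 (BT.leaf cJ409) (BT.leaf cJ410)) (BT.leaf cJ411)) (BT.node 412 (BT.leaf cJ412) (BT.leaf cJ413))))))) (BT.node 455 (BT.node 434 (BT.node 424 (BT.node 419 (BT.node 416 (BT.node 415 (BT.node 414 (BT.leaf cJ414) (BT.leaf cJ415)) (BT.leaf cJ416)) (BT.node 418 (BT.node 417 (BT.leaf cJ417) (BT.leaf cJ418)) (BT.leaf cJ419))) (BT.node 422 (BT.node 421 (BT.node 420 (BT.leaf cJ420) (BT.leaf cJ421)) (BT.leaf cJ422)) (BT.node 423 (BT.leaf cJ423) (BT.leaf cJ424)))) (BT.node 429 (BT.node 427 (BT.node 426 (BT.node 425 (BT.leaf cJ425) (BT.leaf cJ426)) (BT.leaf cJ427)) (BT.node 428 (BT.leaf cJ428) (BT.leaf cJ429))) (BT.node 432 (BT.node 431 (BT.node 430 (BT.leaf cJ430) (BT.leaf cJ431)) (BT.leaf cJ432)) (BT.node 433 (BT.leaf cJ433) (BT.leaf cJ434))))) (BT.node 445 (BT.node 440 (BT.node 437 (BT.node 436 (BT.node 435 (BT.leaf cJ435) (BT.leaf cJ436)) (BT.leaf cJ437)) (BT.node 439 (BT.node 438 (BT.leaf cJ438) (BT.leaf cJ439)) (BT.leaf cJ440))) (BT.node 443 (BT.node 442 (BT.node 441 (BT.leaf cJ441) (BT.leaf cJ442)) (BT.leaf cJ443)) (BT.node 444 (BT.leaf cJ444) (BT.leaf cJ445)))) (BT.node 450 (BT.node 448 (BT.node 447 (BT.node 446 (BT.leaf cJ446) (BT.leaf cJ447)) (BT.leaf cJ448)) (BT.node 449 (BT.leaf cJ449) (BT.leaf cJ450))) (BT.node 453 (BT.node 452 (BT.node 451 (BT.leaf cJ451) (BT.leaf cJ452)) (BT.leaf cJ453)) (BT.node 454 (BT.leaf cJ454) (BT.leaf cJ455)))))) (BT.node 476 (BT.node 466 (BT.node 461 (BT.node 458 (BT.node 457 (BT.node 456 (BT.leaf cJ456) (BT.leaf cJ457)) (BT.leaf cJ458)) (BT.node 460 (BT.node 459 (BT.leaf cJ459) (BT.leaf cJ460)) (BT.leaf cJ461))) (BT.node 464 (BT.node 463 (BT.node 462 (BT.leaf cJ462) (BT.leaf cJ463)) (BT.leaf cJ464)) (BT.node 465 (BT.leaf cJ465) (BT.leaf cJ466)))) (BT.node 471 (BT.node 469 (BT.node 468 (BT.node 467 (BT.leaf cJ467) (BT.leaf cJ468)) (BT.leaf cJ469)) (BT.node 470 (BT.leaf cJ470) (BT.leaf cJ471))) (BT.node 474 (BT.node 473 (BT.node 472 (BT.leaf cJ472) (BT.leaf cJ473)) (BT.leaf cJ474)) (BT.node 475 (BT.leaf cJ475) (BT.leaf cJ476))))) (BT.node 486 (BT.node 481 (BT.node 479 (BT.node 478 (BT.node 477 (BT.leaf cJ477) (BT.leaf cJ478)) (BT.leaf cJ479)) (BT.node 480 (BT.leaf cJ480) (BT.leaf cJ481))) (BT.node 484 (BT.node 483 (BT.node 482 (BT.leaf cJ482) (BT.leaf cJ483)) (BT.leaf cJ484)) (BT.node 485 (BT.leaf cJ485) (BT.leaf cJ486)))) (BT.node 491 (BT.node 489 (BT.node 488 (BT.node 487 (BT.leaf cJ487) (BT.leaf cJ488)) (BT.leaf cJ489)) (BT.node 490 (BT.leaf cJ490) (BT.leaf cJ491))) (BT.node 494 (BT.node 493 (BT.node 492 (BT.leaf cJ492) (BT.leaf cJ493)) (BT.leaf cJ494)) (BT.node 495 (BT.leaf cJ495) (BT.leaf cJ496)))))))) (BT.node 579 (BT.node 538 (BT.node 517 (BT.node 507 (BT.node 502 (BT.node 499 (BT.node 498 (BT.node 497 (BT.leaf cJ497) (BT.leaf cJ498)) (BT.leaf cJ499)) (BT.node 501 (BT.node 500 (BT.leaf cJ500) (BT.leaf cJ501)) (BT.leaf cJ502))) (BT.node 505 (BT.node 504 (BT.node 503 (BT.leaf cJ503) (BT.leaf cJ504)) (BT.leaf cJ505)) (BT.node 506 (BT.leaf cJ506) (BT.leaf cJ507)))) (BT.node 512 (BT.node 510 (BT.node 509 (BT.node 508 (BT.leaf cJ508) (BT.leaf cJ509)) (BT.leaf cJ510)) (BT.node 511 (BT.leaf cJ511) (BT.leaf cJ512))) (BT.node 515 (BT.node 514 (BT.node 513 (BT.leaf cJ513) (BT.leaf cJ514)) (BT.leaf cJ515)) (BT.node 516 (BT.leaf cJ516) (BT.leaf cJ517))))) (BT.node 528 (BT.node 523 (BT.node 520 (BT.node 519 (BT.node 518 (BT.leaf cJ518) (BT.leaf cJ519)) (BT.leaf cJ520)) (BT.node 522 (BT.node 521 (BT.leaf cJ521) (BT.leaf cJ522)) (BT.leaf cJ523))) (BT.node 526 (BT.node 525 (BT.node 524 (BT.leaf cJ524) (BT.leaf cJ525)) (BT.leaf cJ526)) (BT.node 527 (BT.leaf cJ527) (BT.leaf cJ528)))) (BT.node 533 (BT.node 531 (BT.node 530 (BT.node 529 (BT.leaf cJ529) (BT.leaf cJ530)) (BT.leaf cJ531)) (BT.node 532 (BT.leaf cJ532) (BT.leaf cJ533))) (BT.node 536 (BT.node 535 (BT.node 534 (BT.leaf cJ534) (BT.leaf cJ535)) (BT.leaf cJ536)) (BT.node 537 (BT.leaf cJ537) (BT.leaf cJ538)))))) (BT.node 559 (BT.node 549 (BT.node 544 (BT.node 541 (BT.node 540 (BT.node 539 (BT.leaf cJ539) (BT.leaf cJ540)) (BT.leaf cJ541)) (BT.node 543 (BT.node 542 (BT.leaf cJ542) (BT.leaf cJ543)) (BT.leaf cJ544))) (BT.node 547 (BT.node 546 (BT.node 545 (BT.leaf cJ545) (BT.leaf cJ546)) (BT.leaf cJ547)) (BT.node 548 (BT.leaf cJ548) (BT.leaf cJ549)))) (BT.node 554 (BT.node 552 (BT.node 551 (BT.node 550 (BT.leaf cJ550) (BT.leaf cJ551)) (BT.leaf cJ552)) (BT.node 553 (BT.leaf cJ553) (BT.leaf cJ554))) (BT.node 557 (BT.node 556 (BT.node 555 (BT.leaf cJ555) (BT.leaf cJ556)) (BT.leaf cJ557)) (BT.node 558 (BT.leaf cJ558) (BT.leaf cJ559))))) (BT.node 569 (BT.node 564 (BT.node 562 (BT.node 561 (BT.node 560 (BT.leaf cJ560) (BT.leaf cJ561)) (BT.leaf cJ562)) (BT.node 563 (BT.leaf cJ563) (BT.leaf cJ564))) (BT.node 567 (BT.node 566 (BT.node 565 (BT.leaf cJ565) (BT.leaf cJ566)) (BT.leaf cJ567)) (BT.node 568 (BT.leaf cJ568) (BT.leaf cJ569)))) (BT.node 574 (BT.node 572 (BT.node 571 (BT.node 570 (BT.leaf cJ570) (BT.leaf cJ571)) (BT.leaf cJ572)) (BT.node 573 (BT.leaf cJ573) (BT.leaf cJ574))) (BT.node 577 (BT.node 576 (BT.node 575 (BT.leaf cJ575) (BT.leaf cJ576)) (BT.leaf cJ577)) (BT.node 578 (BT.leaf cJ578) (BT.leaf cJ579))))))) (BT.node 620 (BT.node 600 (BT.node 590 (BT.node 585 (BT.node 582 (BT.node 581 (BT.node 580 (BT.leaf cJ580) (BT.leaf cJ581)) (BT.leaf cJ582)) (BT.node 584 (BT.node 583 (BT.leaf cJ583) (BT.leaf cJ584)) (BT.leaf cJ585))) (BT.node 588 (BT.node 587 (BT.node 586 (BT.leaf cJ586) (BT.leaf cJ587)) (BT.leaf cJ588)) (BT.node 589 (BT.leaf cJ589) (BT.leaf cJ590)))) (BT.node 595 (BT.node 593 (BT.node 592 (BT.node 591 (BT.leaf cJ591) (BT.leaf cJ592)) (BT.leaf cJ593)) (BT.node 594 (BT.leaf cJ594) (BT.leaf cJ595))) (BT.node 598 (BT.node 597 (BT.node 596 (BT.leaf cJ596) (BT.leaf cJ597)) (BT.leaf cJ598)) (BT.node 599 (BT.leaf cJ599) (BT.leaf cJ600))))) (BT.node 610 (BT.node 605 (BT.node 603 (BT.node 602 (BT.node 601 (BT.leaf cJ601) (BT.leaf cJ602)) (BT.leaf cJ603)) (BT.node 604 (BT.leaf cJ604) (BT.leaf cJ605))) (BT.node 608 (BT.node 607 (BT.node 606 (BT.leaf cJ606) (BT.leaf cJ607)) (BT.leaf cJ608)) (BT.node 609 (BT.leaf cJ609) (BT.leaf cJ610)))) (BT.node 615 (BT.node 613 (BT.node 612 (BT.node 611 (BT.leaf cJ611) (BT.leaf cJ612)) (BT.leaf cJ613)) (BT.node 614 (BT.leaf cJ614) (BT.leaf cJ615))) (BT.node 618 (BT.node 617 (BT.node 616 (BT.leaf cJ616) (BT.leaf cJ617)) (BT.leaf cJ618)) (BT.node 619 (BT.leaf cJ619) (BT.leaf cJ620)))))) (BT.node 641 (BT.node 631 (BT.node 626 (BT.node 623 (BT.node 622 (BT.node 621 (BT.leaf cJ621) (BT.leaf cJ622)) (BT.leaf cJ623)) (BT.node 625 (BT.node 624 (BT.leaf cJ624) (BT.leaf cJ625)) (BT.leaf cJ626))) (BT.node 629 (BT.node 628 (BT.node 627 (BT.leaf cJ627) (BT.leaf cJ628)) (BT.leaf cJ629)) (BT.node 630 (BT.leaf cJ630) (BT.leaf cJ631)))) (BT.node 636 (BT.node 634 (BT.node 633 (BT.node 632 (BT.leaf cJ632) (BT.leaf cJ633)) (BT.leaf cJ634)) (BT.node 635 (BT.leaf cJ635) (BT.leaf cJ636))) (BT.node 639 (BT.node 638 (BT.node 637 (BT.leaf cJ637) (BT.leaf cJ638)) (BT.leaf cJ639)) (BT.node 640 (BT.leaf cJ640) (BT.leaf cJ641))))) (BT.node 651 (BT.node 646 (BT.node 644 (BT.node 643 (BT.node 642 (BT.leaf cJ642) (BT.leaf cJ643)) (BT.leaf cJ644)) (BT.node 645 (BT.leaf cJ645) (BT.leaf cJ646))) (BT.node 649 (BT.node 648 (BT.node 647 (BT.leaf cJ647) (BT.leaf cJ648)) (BT.leaf cJ649)) (BT.node 650 (BT.leaf cJ650) (BT.leaf cJ651)))) (BT.node 656 (BT.node 654 (BT.node 653 (BT.node 652 (BT.leaf cJ652) (BT.leaf cJ653)) (BT.leaf cJ654)) (BT.node 655 (BT.leaf cJ655) (BT.leaf cJ656))) (BT.node 659 (BT.node 658 (BT.node 657 (BT.leaf cJ657) (BT.leaf cJ658)) (BT.leaf cJ659)) (BT.node 660 (BT.leaf cJ660) (BT.leaf cJ661)))))))))) (BT.node 992 (BT.node 827 (BT.node 744 (BT.node 703 (BT.node 682 (BT.node 672 (BT.node 667 (BT.node 664 (BT.node 663 (BT.node 662 (BT.leaf cJ662) (BT.leaf cJ663)) (BT.leaf cJ664)) (BT.node 666 (BT.node 665 (BT.leaf cJ665) (BT.leaf cJ666)) (BT.leaf cJ667))) (BT.node 670 (BT.node 669 (BT.node 668 (BT.leaf cJ668) (BT.leaf cJ669)) (BT.leaf cJ670)) (BT.node 671 (BT.leaf cJ671) (BT.leaf cJ672)))) (BT.node 677 (BT.node 675 (BT.node 674 (BT.node 673 (BT.leaf cJ673) (BT.leaf cJ674)) (BT.leaf cJ675)) (BT.node 676 (BT.leaf cJ676) (BT.leaf cJ677))) (BT.node 680 (BT.node 679 (BT.node 678 (BT.leaf cJ678) (BT.leaf cJ679)) (BT.leaf cJ680)) (BT.node 681 (BT.leaf cJ681) (BT.leaf cJ682))))) (BT.node 693 (BT.node 688 (BT.node 685 (BT.node 684 (BT.node 683 (BT.leaf cJ683) (BT.leaf cJ684)) (BT.leaf cJ685)) (BT.node 687 (BT.node 686 (BT.leaf cJ686) (BT.leaf cJ687)) (BT.leaf cJ688))) (BT.node 691 (BT.node 690 (BT.node 689 (BT.leaf cJ689) (BT.leaf cJ690)) (BT.leaf cJ691)) (BT.node 692 (BT.leaf cJ692) (BT.leaf cJ693)))) (BT.node 698 (BT.node 696 (BT.node 695 (BT.node 694 (BT.leaf cJ694) (BT.leaf cJ695)) (BT.leaf cJ696)) (BT.node 697 (BT.leaf cJ697) (BT.leaf cJ698))) (BT.node 701 (BT.node 700 (BT.node 699 (BT.leaf cJ699) (BT.leaf cJ700)) (BT.leaf cJ701)) (BT.node 702 (BT.leaf cJ702) (BT.leaf cJ703)))))) (BT.node 724 (BT.node 714 (BT.node 709 (BT.node 706 (BT.node 705 (BT.node 704 (BT.leaf cJ704) (BT.leaf cJ705)) (BT.leaf cJ706)) (BT.node 708 (BT.node 707 (BT.leaf cJ707) (BT.leaf cJ708)) (BT.leaf cJ709))) (BT.node 712 (BT.node 711 (BT.node 710 (BT.leaf cJ710) (BT.leaf cJ711)) (BT.leaf cJ712)) (BT.node 713 (BT.leaf cJ713) (BT.leaf cJ714)))) (BT.node 719 (BT.node 717 (BT.node 716 (BT.node 715 (BT.leaf cJ715) (BT.leaf cJ716)) (BT.leaf cJ717)) (BT.node 718 (BT.leaf cJ718) (BT.leaf cJ719))) (BT.node 722 (BT.node 721 (BT.node 720 (BT.leaf cJ720) (BT.leaf cJ721)) (BT.leaf cJ722)) (BT.node 723 (BT.leaf cJ723) (BT.leaf cJ724))))) (BT.node 734 (BT.node 729 (BT.node 727 (BT.node 726 (BT.node 725 (BT.leaf cJ725) (BT.leaf cJ726)) (BT.leaf cJ727)) (BT.node 728 (BT.leaf cJ728) (BT.leaf cJ729))) (BT.node 732 (BT.node 731 (BT.node 730 (BT.leaf cJ730) (BT.leaf cJ731)) (BT.leaf cJ732)) (BT.node 733 (BT.leaf cJ733) (BT.leaf cJ734)))) (BT.node 739 (BT.node 737 (BT.node 736 (BT.node 735 (BT.leaf cJ735) (BT.leaf cJ736)) (BT.leaf cJ737)) (BT.node 738 (BT.leaf cJ738) (BT.leaf cJ739))) (BT.node 742 (BT.node 741 (BT.node 740 (BT.leaf cJ740) (BT.leaf cJ741)) (BT.leaf cJ742)) (BT.node 743 (BT.leaf cJ743) (BT.leaf cJ744))))))) (BT.node 786 (BT.node 765 (BT.node 755 (BT.node 750 (BT.node 747 (BT.node 746 (BT.node 745 (BT.leaf cJ745) (BT.leaf cJ746)) (BT.leaf cJ747)) (BT.node 749 (BT.node 748 (BT.leaf cJ748) (BT.leaf cJ749)) (BT.leaf cJ750))) (BT.node 753 (BT.node 752 (BT.node 751 (BT.leaf cJ751) (BT.leaf cJ752)) (BT.leaf cJ753)) (BT.node 754 (BT.leaf cJ754) (BT.leaf cJ755)))) (BT.node 760 (BT.node 758 (BT.node 757 (BT.node 756 (BT.leaf cJ756) (BT.leaf cJ757)) (BT.leaf cJ758)) (BT.node 759 (BT.leaf cJ759) (BT.leaf cJ760))) (BT.node 763 (BT.node 762 (BT.node 761 (BT.leaf cJ761) (BT.leaf cJ762)) (BT.leaf cJ763)) (BT.node 764 (BT.leaf cJ764) (BT.leaf cJ765))))) (BT.node 776 (BT.node 771 (BT.node 768 (BT.node 767 (BT.node 766 (BT.leaf cJ766) (BT.leaf cJ767)) (BT.leaf cJ768)) (BT.node 770 (BT.node 769 (BT.leaf cJ769) (BT.leaf cJ770)) (BT.leaf cJ771))) (BT.node 774 (BT.node 773 (BT.node 772 (BT.leaf cJ772) (BT.leaf cJ773)) (BT.leaf cJ774)) (BT.node 775 (BT.leaf cJ775) (BT.leaf cJ776)))) (BT.node 781 (BT.node 779 (BT.node 778 (BT.node 777 (BT.leaf cJ777) (BT.leaf cJ778)) (BT.leaf cJ779)) (BT.node 780 (BT.leaf cJ780) (BT.leaf cJ781))) (BT.node 784 (BT.node 783 (BT.node 782 (BT.leaf cJ782) (BT.leaf cJ783)) (BT.leaf cJ784)) (BT.node 785 (BT.leaf cJ785) (BT.leaf cJ786)))))) (BT.node 807 (BT.node 797 (BT.node 792 (BT.node 789 (BT.node 788 (BT.node 787 (BT.leaf cJ787) (BT.leaf cJ788)) (BT.leaf cJ789)) (BT.node 791 (BT.node 790 (BT.leaf cJ790) (BT.leaf cJ791)) (BT.leaf cJ792))) (BT.node 795 (BT.node 794 (BT.node 793 (BT.leaf cJ793) (BT.leaf cJ794)) (BT.leaf cJ795)) (BT.node 796 (BT.leaf cJ796) (BT.leaf cJ797)))) (BT.node 802 (BT.node 800 (BT.node 799 (BT.node 798 (BT.leaf cJ798) (BT.leaf cJ799)) (BT.leaf cJ800)) (BT.node 801 (BT.leaf cJ801) (BT.leaf cJ802))) (BT.node 805 (BT.node 804 (BT.node 803 (BT.leaf cJ803) (BT.leaf cJ804)) (BT.leaf cJ805)) (BT.node 806 (BT.leaf cJ806) (BT.leaf cJ807))))) (BT.node 817 (BT.node 812 (BT.node 810 (BT.node 809 (BT.node 808 (BT.leaf cJ808) (BT.leaf cJ809)) (BT.leaf cJ810)) (BT.node 811 (BT.leaf cJ811) (BT.leaf cJ812))) (BT.node 815 (BT.node 814 (BT.node 813 (BT.leaf cJ813) (BT.leaf cJ814)) (BT.leaf cJ815)) (BT.node 816 (BT.leaf cJ816) (BT.leaf cJ817)))) (BT.node 822 (BT.node 820 (BT.node 819 (BT.node 818 (BT.leaf cJ818) (BT.leaf cJ819)) (BT.leaf cJ820)) (BT.node 821 (BT.leaf cJ821) (BT.leaf cJ822))) (BT.node 825 (BT.node 824 (BT.node 823 (BT.leaf cJ823) (BT.leaf cJ824)) (BT.leaf cJ825)) (BT.node 826 (BT.leaf cJ826) (BT.leaf cJ827)))))))) (BT.node 910 (BT.node 869 (BT.node 848 (BT.node 838 (BT.node 833 (BT.node 830 (BT.node 829 (BT.node 828 (BT.leaf cJ828) (BT.leaf cJ829)) (BT.leaf cJ830)) (BT.node 832 (BT.node 831 (BT.leaf cJ831) (BT.leaf cJ832)) (BT.leaf cJ833))) (BT.node 836 (BT.node 835 (BT.node 834 (BT.leaf cJ834) (BT.leaf cJ835)) (BT.leaf cJ836)) (BT.node 837 (BT.leaf cJ837) (BT.leaf cJ838)))) (BT.node 843 (BT.node 841 (BT.node 840 (BT.node 839 (BT.leaf cJ839) (BT.leaf cJ840)) (BT.leaf cJ841)) (BT.node 842 (BT.leaf cJ842) (BT.leaf cJ843))) (BT.node 846 (BT.node 845 (BT.node 844 (BT.leaf cJ844) (BT.leaf cJ845)) (BT.leaf cJ846)) (BT.node 847 (BT.leaf cJ847) (BT.leaf cJ848))))) (BT.node 859 (BT.node 854 (BT.node 851 (BT.node 850 (BT.node 849 (BT.leaf cJ849) (BT.leaf cJ850)) (BT.leaf cJ851)) (BT.node 853 (BT.node 852 (BT.leaf cJ852) (BT.leaf cJ853)) (BT.leaf cJ854))) (BT.node 857 (BT.node 856 (BT.node 855 (BT.leaf cJ855) (BT.leaf cJ856)) (BT.leaf cJ857)) (BT.node 858 (BT.leaf cJ858) (BT.leaf cJ859)))) (BT.node 864 (BT.node 862 (BT.node 861 (BT.node 860 (BT.leaf cJ860) (BT.leaf cJ861)) (BT.leaf cJ862)) (BT.node 863 (BT.leaf cJ863) (BT.leaf cJ864))) (BT.node 867 (BT.node 866 (BT.node 865 (BT.leaf cJ865) (BT.leaf cJ866)) (BT.leaf cJ867)) (BT.node 868 (BT.leaf cJ868) (BT.leaf cJ869)))))) (BT.node 890 (BT.node 880 (BT.node 875 (BT.node 872 (BT.node 871 (BT.node 870 (BT.leaf cJ870) (BT.leaf cJ871)) (BT.leaf cJ872)) (BT.node 874 (BT.node 873 (BT.leaf cJ873) (BT.leaf cJ874)) (BT.leaf cJ875))) (BT.node 878 (BT.node 877 (BT.node 876 (BT.leaf cJ876) (BT.leaf cJ877)) (BT.leaf cJ878)) (BT.node 879 (BT.leaf cJ879) (BT.leaf cJ880)))) (BT.node 885 (BT.node 883 (BT.node 882 (BT.node 881 (BT.leaf cJ881) (BT.leaf cJ882)) (BT.leaf cJ883)) (BT.node 884 (BT.leaf cJ884) (BT.leaf cJ885))) (BT.node 888 (BT.node 887 (BT.node 886 (BT.leaf cJ886) (BT.leaf cJ887)) (BT.leaf cJ888)) (BT.node 889 (BT.leaf cJ889) (BT.leaf cJ890))))) (BT.node 900 (BT.node 895 (BT.node 893 (BT.node 892 (BT.node 891 (BT.leaf cJ891) (BT.leaf cJ892)) (BT.leaf cJ893)) (BT.node 894 (BT.leaf cJ894) (BT.leaf cJ895))) (BT.node 898 (BT.node 897 (BT.node 896 (BT.leaf cJ896) (BT.leaf cJ897)) (BT.leaf cJ898)) (BT.node 899 (BT.leaf cJ899) (BT.leaf cJ900)))) (BT.node 905 (BT.node 903 (BT.node 902 (BT.node 901 (BT.leaf cJ901) (BT.leaf cJ902)) (BT.leaf cJ903)) (BT.node 904 (BT.leaf cJ904) (BT.leaf cJ905))) (BT.node 908 (BT.node 907 (BT.node 906 (BT.leaf cJ906) (BT.leaf cJ907)) (BT.leaf cJ908)) (BT.node 909 (BT.leaf cJ909) (BT.leaf cJ910))))))) (BT.node 951 (BT.node 931 (BT.node 921 (BT.node 916 (BT.node 913 (BT.node 912 (BT.node 911 (BT.leaf cJ911) (BT.leaf cJ912)) (BT.leaf cJ913)) (BT.node 915 (BT.node 914 (BT.leaf cJ914) (BT.leaf cJ915)) (BT.leaf cJ916))) (BT.node 919 (BT.node 918 (BT.node 917 (BT.leaf cJ917) (BT.leaf cJ918)) (BT.leaf cJ919)) (BT.node 920 (BT.leaf cJ920) (BT.leaf cJ921)))) (BT.node 926 (BT.node 924 (BT.node 923 (BT.node 922 (BT.leaf cJ922) (BT.leaf cJ923)) (BT.leaf cJ924)) (BT.node 925 (BT.leaf cJ925) (BT.leaf cJ926))) (BT.node 929 (BT.node 928 (BT.node 927 (BT.leaf cJ927) (BT.leaf cJ928)) (BT.leaf cJ929)) (BT.node 930 (BT.leaf cJ930) (BT.leaf cJ931))))) (BT.node 941 (BT.node 936 (BT.node 934 (BT.node 933 (BT.node 932 (BT.leaf cJ932) (BT.leaf cJ933)) (BT.leaf cJ934)) (BT.node 935 (BT.leaf cJ935) (BT.leaf cJ936))) (BT.node 939 (BT.node 938 (BT.node 937 (BT.leaf cJ937) (BT.leaf cJ938)) (BT.leaf cJ939)) (BT.node 940 (BT.leaf cJ940) (BT.leaf cJ941)))) (BT.node 946 (BT.node 944 (BT.node 943 (BT.node 942 (BT.leaf cJ942) (BT.leaf cJ943)) (BT.leaf cJ944)) (BT.node 945 (BT.leaf cJ945) (BT.leaf cJ946))) (BT.node 949 (BT.node 948 (BT.node 947 (BT.leaf cJ947) (BT.leaf cJ948)) (BT.leaf cJ949)) (BT.node 950 (BT.leaf cJ950) (BT.leaf cJ951)))))) (BT.node 972 (BT.node 962 (BT.node 957 (BT.node 954 (BT.node 953 (BT.node 952 (BT.leaf cJ952) (BT.leaf cJ953)) (BT.leaf cJ954)) (BT.node 956 (BT.node 955 (BT.leaf cJ955) (BT.leaf cJ956)) (BT.leaf cJ957))) (BT.node 960 (BT.node 959 (BT.node 958 (BT.leaf cJ958) (BT.leaf cJ959)) (BT.leaf cJ960)) (BT.node 961 (BT.leaf cJ961) (BT.leaf cJ962)))) (BT.node 967 (BT.node 965 (BT.node 964 (BT.node 963 (BT.leaf cJ963) (BT.leaf cJ964)) (BT.leaf cJ965)) (BT.node 966 (BT.leaf cJ966) (BT.leaf cJ967))) (BT.node 970 (BT.node 969 (BT.node 968 (BT.leaf cJ968) (BT.leaf cJ969)) (BT.leaf cJ970)) (BT.node 971 (BT.leaf cJ971) (BT.leaf cJ972))))) (BT.node 982 (BT.node 977 (BT.node 975 (BT.node 974 (BT.node 973 (BT.leaf cJ973) (BT.leaf cJ974)) (BT.leaf cJ975)) (BT.node 976 (BT.leaf cJ976) (BT.leaf cJ977))) (BT.node 980 (BT.node 979 (BT.node 978 (BT.leaf cJ978) (BT.leaf cJ979)) (BT.leaf cJ980)) (BT.node 981 (BT.leaf cJ981) (BT.leaf cJ982)))) (BT.node 987 (BT.node 985 (BT.node 984 (BT.node 983 (BT.leaf cJ983) (BT.leaf cJ984)) (BT.leaf cJ985)) (BT.node 986 (BT.leaf cJ986) (BT.leaf cJ987))) (BT.node 990 (BT.node 989 (BT.node 988 (BT.leaf cJ988) (BT.leaf cJ989)) (BT.leaf cJ990)) (BT.node 991 (BT.leaf cJ991) (BT.leaf cJ992))))))))) (BT.node 1157 (BT.node 1075 (BT.node 1034 (BT.node 1013 (BT.node 1003 (BT.node 998 (BT.node 995 (BT.node 994 (BT.node 993 (BT.leaf cJ993) (BT.leaf cJ994)) (BT.leaf cJ995)) (BT.node 997 (BT.node 996 (BT.leaf cJ996) (BT.leaf cJ997)) (BT.leaf cJ998))) (BT.node 1001 (BT.node 1000 (BT.node 999 (BT.leaf cJ999) (BT.leaf cJ1000)) (BT.leaf cJ1001)) (BT.node 1002 (BT.leaf cJ1002) (BT.leaf cJ1003)))) (BT.node 1008 (BT.node 1006 (BT.node 1005 (BT.node 1004 (BT.leaf cJ1004) (BT.leaf cJ1005)) (BT.leaf cJ1006)) (BT.node 1007 (BT.leaf cJ1007) (BT.leaf cJ1008))) (BT.node 1011 (BT.node 1010 (BT.node 1009 (BT.leaf cJ1009) (BT.leaf cJ1010)) (BT.leaf cJ1011)) (BT.node 1012 (BT.leaf cJ1012) (BT.leaf cJ1013))))) (BT.node 1024 (BT.node 1019 (BT.node 1016 (BT.node 1015 (BT.node 1014 (BT.leaf cJ1014) (BT.leaf cJ1015)) (BT.leaf cJ1016)) (BT.node 1018 (BT.node 1017 (BT.leaf cJ1017) (BT.leaf cJ1018)) (BT.leaf cJ1019))) (BT.node 1022 (BT.node 1021 (BT.node 1020 (BT.leaf cJ1020) (BT.leaf cJ1021)) (BT.leaf cJ1022)) (BT.node 1023 (BT.leaf cJ1023) (BT.leaf cJ1024)))) (BT.node 1029 (BT.node 1027 (BT.node 1026 (BT.node 1025 (BT.leaf cJ1025) (BT.leaf cJ1026)) (BT.leaf cJ1027)) (BT.node 1028 (BT.leaf cJ1028) (BT.leaf cJ1029))) (BT.node 1032 (BT.node 1031 (BT.node 1030 (BT.leaf cJ1030) (BT.leaf cJ1031)) (BT.leaf cJ1032)) (BT.node 1033 (BT.leaf cJ1033) (BT.leaf cJ1034)))))) (BT.node 1055 (BT.node 1045 (BT.node 1040 (BT.node 1037 (BT.node 1036 (BT.node 1035 (BT.leaf cJ1035) (BT.leaf cJ1036)) (BT.leaf cJ1037)) (BT.node 1039 (BT.node 1038 (BT.leaf cJ1038) (BT.leaf cJ1039)) (BT.leaf cJ1040))) (BT.node 1043 (BT.node 1042 (BT.node 1041 (BT.leaf cJ1041) (BT.leaf cJ1042)) (BT.leaf cJ1043)) (BT.node 1044 (BT.leaf cJ1044) (BT.leaf cJ1045)))) (BT.node 1050 (BT.node 1048 (BT.node 1047 (BT.node 1046 (BT.leaf cJ1046) (BT.leaf cJ1047)) (BT.leaf cJ1048)) (BT.node 1049 (BT.leaf cJ1049) (BT.leaf cJ1050))) (BT.node 1053 (BT.node 1052 (BT.node 1051 (BT.leaf cJ1051) (BT.leaf cJ1052)) (BT.leaf cJ1053)) (BT.node 1054 (BT.leaf cJ1054) (BT.leaf cJ1055))))) (BT.node 1065 (BT.node 1060 (BT.node 1058 (BT.node 1057 (BT.node 1056 (BT.leaf cJ1056) (BT.leaf cJ1057)) (BT.leaf cJ1058)) (BT.node 1059 (BT.leaf cJ1059) (BT.leaf cJ1060))) (BT.node 1063 (BT.node 1062 (BT.node 1061 (BT.leaf cJ1061) (BT.leaf cJ1062)) (BT.leaf cJ1063)) (BT.node 1064 (BT.leaf cJ1064) (BT.leaf cJ1065)))) (BT.node 1070 (BT.node 1068 (BT.node 1067 (BT.node 1066 (BT.leaf cJ1066) (BT.leaf cJ1067)) (BT.leaf cJ1068)) (BT.node 1069 (BT.leaf cJ1069) (BT.leaf cJ1070))) (BT.node 1073 (BT.node 1072 (BT.node 1071 (BT.leaf cJ1071) (BT.leaf cJ1072)) (BT.leaf cJ1073)) (BT.node 1074 (BT.leaf cJ1074) (BT.leaf cJ1075))))))) (BT.node 1116 (BT.node 1096 (BT.node 1086 (BT.node 1081 (BT.node 1078 (BT.node 1077 (BT.node 1076 (BT.leaf cJ1076) (BT.leaf cJ1077)) (BT.leaf cJ1078)) (BT.node 1080 (BT.node 1079 (BT.leaf cJ1079) (BT.leaf cJ1080)) (BT.leaf cJ1081))) (BT.node 1084 (BT.node 1083 (BT.node 1082 (BT.leaf cJ1082) (BT.leaf cJ1083)) (BT.leaf cJ1084)) (BT.node 1085 (BT.leaf cJ1085) (BT.leaf cJ1086)))) (BT.node 1091 (BT.node 1089 (BT.node 1088 (BT.node 1087 (BT.leaf cJ1087) (BT.leaf cJ1088)) (BT.leaf cJ1089)) (BT.node 1090 (BT.leaf cJ1090) (BT.leaf cJ1091))) (BT.node 1094 (BT.node 1093 (BT.node 1092 (BT.leaf cJ1092) (BT.leaf cJ1093)) (BT.leaf cJ1094)) (BT.node 1095 (BT.leaf cJ1095) (BT.leaf cJ1096))))) (BT.node 1106 (BT.node 1101 (BT.node 1099 (BT.node 1098 (BT.node 1097 (BT.leaf cJ1097) (BT.leaf cJ1098)) (BT.leaf cJ1099)) (BT.node 1100 (BT.leaf cJ1100) (BT.leaf cJ1101))) (BT.node 1104 (BT.node 1103 (BT.node 1102 (BT.leaf cJ1102) (BT.leaf cJ1103)) (BT.leaf cJ1104)) (BT.node 1105 (BT.leaf cJ1105) (BT.leaf cJ1106)))) (BT.node 1111 (BT.node 1109 (BT.node 1108 (BT.node 1107 (BT.leaf cJ1107) (BT.leaf cJ1108)) (BT.leaf cJ1109)) (BT.node 1110 (BT.leaf cJ1110) (BT.leaf cJ1111))) (BT.node 1114 (BT.node 1113 (BT.node 1112 (BT.leaf cJ1112) (BT.leaf cJ1113)) (BT.leaf cJ1114)) (BT.node 1115 (BT.leaf cJ1115) (BT.leaf cJ1116)))))) (BT.node 1137 (BT.node 1127 (BT.node 1122 (BT.node 1119 (BT.node 1118 (BT.node 1117 (BT.leaf cJ1117) (BT.leaf cJ1118)) (BT.leaf cJ1119)) (BT.node 1121 (BT.node 1120 (BT.leaf cJ1120) (BT.leaf cJ1121)) (BT.leaf cJ1122))) (BT.node 1125 (BT.node 1124 (BT.node 1123 (BT.leaf cJ1123) (BT.leaf cJ1124)) (BT.leaf cJ1125)) (BT.node 1126 (BT.leaf cJ1126) (BT.leaf cJ1127)))) (BT.node 1132 (BT.node 1130 (BT.node 1129 (BT.node 1128 (BT.leaf cJ1128) (BT.leaf cJ1129)) (BT.leaf cJ1130)) (BT.node 1131 (BT.leaf cJ1131) (BT.leaf cJ1132))) (BT.node 1135 (BT.node 1134 (BT.node 1133 (BT.leaf cJ1133) (BT.leaf cJ1134)) (BT.leaf cJ1135)) (BT.node 1136 (BT.leaf cJ1136) (BT.leaf cJ1137))))) (BT.node 1147 (BT.node 1142 (BT.node 1140 (BT.node 1139 (BT.node 1138 (BT.leaf cJ1138) (BT.leaf cJ1139)) (BT.leaf cJ1140)) (BT.node 1141 (BT.leaf cJ1141) (BT.leaf cJ1142))) (BT.node 1145 (BT.node 1144 (BT.node 1143 (BT.leaf cJ1143) (BT.leaf cJ1144)) (BT.leaf cJ1145)) (BT.node 1146 (BT.leaf cJ1146) (BT.leaf cJ1147)))) (BT.node 1152 (BT.node 1150 (BT.node 1149 (BT.node 1148 (BT.leaf cJ1148) (BT.leaf cJ1149)) (BT.leaf cJ1150)) (BT.node 1151 (BT.leaf cJ1151) (BT.leaf cJ1152))) (BT.node 1155 (BT.node 1154 (BT.node 1153 (BT.leaf cJ1153) (BT.leaf cJ1154)) (BT.leaf cJ1155)) (BT.node 1156 (BT.leaf cJ1156) (BT.leaf cJ1157)))))))) (BT.node 1240 (BT.node 1199 (BT.node 1178 (BT.node 1168 (BT.node 1163 (BT.node 1160 (BT.node 1159 (BT.node 1158 (BT.leaf cJ1158) (BT.leaf cJ1159)) (BT.leaf cJ1160)) (BT.node 1162 (BT.node 1161 (BT.leaf cJ1161) (BT.leaf cJ1162)) (BT.leaf cJ1163))) (BT.node 1166 (BT.node 1165 (BT.node 1164 (BT.leaf cJ1164) (BT.leaf cJ1165)) (BT.leaf cJ1166)) (BT.node 1167 (BT.leaf cJ1167) (BT.leaf cJ1168)))) (BT.node 1173 (BT.node 1171 (BT.node 1170 (BT.node 1169 (BT.leaf cJ1169) (BT.leaf cJ1170)) (BT.leaf cJ1171)) (BT.node 1172 (BT.leaf cJ1172) (BT.leaf cJ1173))) (BT.node 1176 (BT.node 1175 (BT.node 1174 (BT.leaf cJ1174) (BT.leaf cJ1175)) (BT.leaf cJ1176)) (BT.node 1177 (BT.leaf cJ1177) (BT.leaf cJ1178))))) (BT.node 1189 (BT.node 1184 (BT.node 1181 (BT.node 1180 (BT.node 1179 (BT.leaf cJ1179) (BT.leaf cJ1180)) (BT.leaf cJ1181)) (BT.node 1183 (BT.node 1182 (BT.leaf cJ1182) (BT.leaf cJ1183)) (BT.leaf cJ1184))) (BT.node 1187 (BT.node 1186 (BT.node 1185 (BT.leaf cJ1185) (BT.leaf cJ1186)) (BT.leaf cJ1187)) (BT.node 1188 (BT.leaf cJ1188) (BT.leaf cJ1189)))) (BT.node 1194 (BT.node 1192 (BT.node 1191 (BT.node 1190 (BT.leaf cJ1190) (BT.leaf cJ1191)) (BT.leaf cJ1192)) (BT.node 1193 (BT.leaf cJ1193) (BT.leaf cJ1194))) (BT.node 1197 (BT.node 1196 (BT.node 1195 (BT.leaf cJ1195) (BT.leaf cJ1196)) (BT.leaf cJ1197)) (BT.node 1198 (BT.leaf cJ1198) (BT.leaf cJ1199)))))) (BT.node 1220 (BT.node 1210 (BT.node 1205 (BT.node 1202 (BT.node 1201 (BT.node 1200 (BT.leaf cJ1200) (BT.leaf cJ1201)) (BT.leaf cJ1202)) (BT.node 1204 (BT.node 1203 (BT.leaf cJ1203) (BT.leaf cJ1204)) (BT.leaf cJ1205))) (BT.node 1208 (BT.node 1207 (BT.node 1206 (BT.leaf cJ1206) (BT.leaf cJ1207)) (BT.leaf cJ1208)) (BT.node 1209 (BT.leaf cJ1209) (BT.leaf cJ1210)))) (BT.node 1215 (BT.node 1213 (BT.node 1212 (BT.node 1211 (BT.leaf cJ1211) (BT.leaf cJ1212)) (BT.leaf cJ1213)) (BT.node 1214 (BT.leaf cJ1214) (BT.leaf cJ1215))) (BT.node 1218 (BT.node 1217 (BT.node 1216 (BT.leaf cJ1216) (BT.leaf cJ1217)) (BT.leaf cJ1218)) (BT.node 1219 (BT.leaf cJ1219) (BT.leaf cJ1220))))) (BT.node 1230 (BT.node 1225 (BT.node 1223 (BT.node 1222 (BT.node 1221 (BT.leaf cJ1221) (BT.leaf cJ1222)) (BT.leaf cJ1223)) (BT.node 1224 (BT.leaf cJ1224) (BT.leaf cJ1225))) (BT.node 1228 (BT.node 1227 (BT.node 1226 (BT.leaf cJ1226) (BT.leaf cJ1227)) (BT.leaf cJ1228)) (BT.node 1229 (BT.leaf cJ1229) (BT.leaf cJ1230)))) (BT.node 1235 (BT.node 1233 (BT.node 1232 (BT.node 1231 (BT.leaf cJ1231) (BT.leaf cJ1232)) (BT.leaf cJ1233)) (BT.node 1234 (BT.leaf cJ1234) (BT.leaf cJ1235))) (BT.node 1238 (BT.node 1237 (BT.node 1236 (BT.leaf cJ1236) (BT.leaf cJ1237)) (BT.leaf cJ1238)) (BT.node 1239 (BT.leaf cJ1239) (BT.leaf cJ1240))))))) (BT.node 1281 (BT.node 1261 (BT.node 1251 (BT.node 1246 (BT.node 1243 (BT.node 1242 (BT.node 1241 (BT.leaf cJ1241) (BT.leaf cJ1242)) (BT.leaf cJ1243)) (BT.node 1245 (BT.node 1244 (BT.leaf cJ1244) (BT.leaf cJ1245)) (BT.leaf cJ1246))) (BT.node 1249 (BT.node 1248 (BT.node 1247 (BT.leaf cJ1247) (BT.leaf cJ1248)) (BT.leaf cJ1249)) (BT.node 1250 (BT.leaf cJ1250) (BT.leaf cJ1251)))) (BT.node 1256 (BT.node 1254 (BT.node 1253 (BT.node 1252 (BT.leaf cJ1252) (BT.leaf cJ1253)) (BT.leaf cJ1254)) (BT.node 1255 (BT.leaf cJ1255) (BT.leaf cJ1256))) (BT.node 1259 (BT.node 1258 (BT.node 1257 (BT.leaf cJ1257) (BT.leaf cJ1258)) (BT.leaf cJ1259)) (BT.node 1260 (BT.leaf cJ1260) (BT.leaf cJ1261))))) (BT.node 1271 (BT.node 1266 (BT.node 1264 (BT.node 1263 (BT.node 1262 (BT.leaf cJ1262) (BT.leaf cJ1263)) (BT.leaf cJ1264)) (BT.node 1265 (BT.leaf cJ1265) (BT.leaf cJ1266))) (BT.node 1269 (BT.node 1268 (BT.node 1267 (BT.leaf cJ1267) (BT.leaf cJ1268)) (BT.leaf cJ1269)) (BT.node 1270 (BT.leaf cJ1270) (BT.leaf cJ1271)))) (BT.node 1276 (BT.node 1274 (BT.node 1273 (BT.node 1272 (BT.leaf cJ1272) (BT.leaf cJ1273)) (BT.leaf cJ1274)) (BT.node 1275 (BT.leaf cJ1275) (BT.leaf cJ1276))) (BT.node 1279 (BT.node 1278 (BT.node 1277 (BT.leaf cJ1277) (BT.leaf cJ1278)) (BT.leaf cJ1279)) (BT.node 1280 (BT.leaf cJ1280) (BT.leaf cJ1281)))))) (BT.node 1302 (BT.node 1292 (BT.node 1287 (BT.node 1284 (BT.node 1283 (BT.node 1282 (BT.leaf cJ1282) (BT.leaf cJ1283)) (BT.leaf cJ1284)) (BT.node 1286 (BT.node 1285 (BT.leaf cJ1285) (BT.leaf cJ1286)) (BT.leaf cJ1287))) (BT.node 1290 (BT.node 1289 (BT.node 1288 (BT.leaf cJ1288) (BT.leaf cJ1289)) (BT.leaf cJ1290)) (BT.node 1291 (BT.leaf cJ1291) (BT.leaf cJ1292)))) (BT.node 1297 (BT.node 1295 (BT.node 1294 (BT.node 1293 (BT.leaf cJ1293) (BT.leaf cJ1294)) (BT.leaf cJ1295)) (BT.node 1296 (BT.leaf cJ1296) (BT.leaf cJ1297))) (BT.node 1300 (BT.node 1299 (BT.node 1298 (BT.leaf cJ1298) (BT.leaf cJ1299)) (BT.leaf cJ1300)) (BT.node 1301 (BT.leaf cJ1301) (BT.leaf cJ1302))))) (BT.node 1312 (BT.node 1307 (BT.node 1305 (BT.node 1304 (BT.node 1303 (BT.leaf cJ1303) (BT.leaf cJ1304)) (BT.leaf cJ1305)) (BT.node 1306 (BT.leaf cJ1306) (BT.leaf cJ1307))) (BT.node 1310 (BT.node 1309 (BT.node 1308 (BT.leaf cJ1308) (BT.leaf cJ1309)) (BT.leaf cJ1310)) (BT.node 1311 (BT.leaf cJ1311) (BT.leaf cJ1312)))) (BT.node 1317 (BT.node 1315 (BT.node 1314 (BT.node 1313 (BT.leaf cJ1313) (BT.leaf cJ1314)) (BT.leaf cJ1315)) (BT.node 1316 (BT.leaf cJ1316) (BT.leaf cJ1317))) (BT.node 1320 (BT.node 1319 (BT.node 1318 (BT.leaf cJ1318) (BT.leaf cJ1319)) (BT.leaf cJ1320)) (BT.node 1321 (BT.leaf cJ1321) (BT.leaf cJ1322))))))))))) (BT.node 1983 (BT.node 1653 (BT.node 1488 (BT.node 1405 (BT.node 1364 (BT.node 1343 (BT.node 1333 (BT.node 1328 (BT.node 1325 (BT.node 1324 (BT.node 1323 (BT.leaf cJ1323) (BT.leaf cJ1324)) (BT.leaf cJ1325)) (BT.node 1327 (BT.node 1326 (BT.leaf cJ1326) (BT.leaf cJ1327)) (BT.leaf cJ1328))) (BT.node 1331 (BT.node 1330 (BT.node 1329 (BT.leaf cJ1329) (BT.leaf cJ1330)) (BT.leaf cJ1331)) (BT.node 1332 (BT.leaf cJ1332) (BT.leaf cJ1333)))) (BT.node 1338 (BT.node 1336 (BT.node 1335 (BT.node 1334 (BT.leaf cJ1334) (BT.leaf cJ1335)) (BT.leaf cJ1336)) (BT.node 1337 (BT.leaf cJ1337) (BT.leaf cJ1338))) (BT.node 1341 (BT.node 1340 (BT.node 1339 (BT.leaf cJ1339) (BT.leaf cJ1340)) (BT.leaf cJ1341)) (BT.node 1342 (BT.leaf cJ1342) (BT.leaf cJ1343))))) (BT.node 1354 (BT.node 1349 (BT.node 1346 (BT.node 1345 (BT.node 1344 (BT.leaf cJ1344) (BT.leaf cJ1345)) (BT.leaf cJ1346)) (BT.node 1348 (BT.node 1347 (BT.leaf cJ1347) (BT.leaf cJ1348)) (BT.leaf cJ1349))) (BT.node 1352 (BT.node 1351 (BT.node 1350 (BT.leaf cJ1350) (BT.leaf cJ1351)) (BT.leaf cJ1352)) (BT.node 1353 (BT.leaf cJ1353) (BT.leaf cJ1354)))) (BT.node 1359 (BT.node 1357 (BT.node 1356 (BT.node 1355 (BT.leaf cJ1355) (BT.leaf cJ1356)) (BT.leaf cJ1357)) (BT.node 1358 (BT.leaf cJ1358) (BT.leaf cJ1359))) (BT.node 1362 (BT.node 1361 (BT.node 1360 (BT.leaf cJ1360) (BT.leaf cJ1361)) (BT.leaf cJ1362)) (BT.node 1363 (BT.leaf cJ1363) (BT.leaf cJ1364)))))) (BT.node 1385 (BT.node 1375 (BT.node 1370 (BT.node 1367 (BT.node 1366 (BT.node 1365 (BT.leaf cJ1365) (BT.leaf cJ1366)) (BT.leaf cJ1367)) (BT.node 1369 (BT.node 1368 (BT.leaf cJ1368) (BT.leaf cJ1369)) (BT.leaf cJ1370))) (BT.node 1373 (BT.node 1372 (BT.node 1371 (BT.leaf cJ1371) (BT.leaf cJ1372)) (BT.leaf cJ1373)) (BT.node 1374 (BT.leaf cJ1374) (BT.leaf cJ1375)))) (BT.node 1380 (BT.node 1378 (BT.node 1377 (BT.node 1376 (BT.leaf cJ1376) (BT.leaf cJ1377)) (BT.leaf cJ1378)) (BT.node 1379 (BT.leaf cJ1379) (BT.leaf cJ1380))) (BT.node 1383 (BT.node 1382 (BT.node 1381 (BT.leaf cJ1381) (BT.leaf cJ1382)) (BT.leaf cJ1383)) (BT.node 1384 (BT.leaf cJ1384) (BT.leaf cJ1385))))) (BT.node 1395 (BT.node 1390 (BT.node 1388 (BT.node 1387 (BT.node 1386 (BT.leaf cJ1386) (BT.leaf cJ1387)) (BT.leaf cJ1388)) (BT.node 1389 (BT.leaf cJ1389) (BT.leaf cJ1390))) (BT.node 1393 (BT.node 1392 (BT.node 1391 (BT.leaf cJ1391) (BT.leaf cJ1392)) (BT.leaf cJ1393)) (BT.node 1394 (BT.leaf cJ1394) (BT.leaf cJ1395)))) (BT.node 1400 (BT.node 1398 (BT.node 1397 (BT.node 1396 (BT.leaf cJ1396) (BT.leaf cJ1397)) (BT.leaf cJ1398)) (BT.node 1399 (BT.leaf cJ1399) (BT.leaf cJ1400))) (BT.node 1403 (BT.node 1402 (BT.node 1401 (BT.leaf cJ1401) (BT.leaf cJ1402)) (BT.leaf cJ1403)) (BT.node 1404 (BT.leaf cJ1404) (BT.leaf cJ1405))))))) (BT.node 1447 (BT.node 1426 (BT.node 1416 (BT.node 1411 (BT.node 1408 (BT.node 1407 (BT.node 1406 (BT.leaf cJ1406) (BT.leaf cJ1407)) (BT.leaf cJ1408)) (BT.node 1410 (BT.node 1409 (BT.leaf cJ1409) (BT.leaf cJ1410)) (BT.leaf cJ1411))) (BT.node 1414 (BT.node 1413 (BT.node 1412 (BT.leaf cJ1412) (BT.leaf cJ1413)) (BT.leaf cJ1414)) (BT.node 1415 (BT.leaf cJ1415) (BT.leaf cJ1416)))) (BT.node 1421 (BT.node 1419 (BT.node 1418 (BT.node 1417 (BT.leaf cJ1417) (BT.leaf cJ1418)) (BT.leaf cJ1419)) (BT.node 1420 (BT.leaf cJ1420) (BT.leaf cJ1421))) (BT.node 1424 (BT.node 1423 (BT.node 1422 (BT.leaf cJ1422) (BT.leaf cJ1423)) (BT.leaf cJ1424)) (BT.node 1425 (BT.leaf cJ1425) (BT.leaf cJ1426))))) (BT.node 1437 (BT.node 1432 (BT.node 1429 (BT.node 1428 (BT.node 1427 (BT.leaf cJ1427) (BT.leaf cJ1428)) (BT.leaf cJ1429)) (BT.node 1431 (BT.node 1430 (BT.leaf cJ1430) (BT.leaf cJ1431)) (BT.leaf cJ1432))) (BT.node 1435 (BT.node 1434 (BT.node 1433 (BT.leaf cJ1433) (BT.leaf cJ1434)) (BT.leaf cJ1435)) (BT.node 1436 (BT.leaf cJ1436) (BT.leaf cJ1437)))) (BT.node 1442 (BT.node 1440 (BT.node 1439 (BT.node 1438 (BT.leaf cJ1438) (BT.leaf cJ1439)) (BT.leaf cJ1440)) (BT.node 1441 (BT.leaf cJ1441) (BT.leaf cJ1442))) (BT.node 1445 (BT.node 1444 (BT.node 1443 (BT.leaf cJ1443) (BT.leaf cJ1444)) (BT.leaf cJ1445)) (BT.node 1446 (BT.leaf cJ1446) (BT.leaf cJ1447)))))) (BT.node 1468 (BT.node 1458 (BT.node 1453 (BT.node 1450 (BT.node 1449 (BT.node 1448 (BT.leaf cJ1448) (BT.leaf cJ1449)) (BT.leaf cJ1450)) (BT.node 1452 (BT.node 1451 (BT.leaf cJ1451) (BT.leaf cJ1452)) (BT.leaf cJ1453))) (BT.node 1456 (BT.node 1455 (BT.node 1454 (BT.leaf cJ1454) (BT.leaf cJ1455)) (BT.leaf cJ1456)) (BT.node 1457 (BT.leaf cJ1457) (BT.leaf cJ1458)))) (BT.node 1463 (BT.node 1461 (BT.node 1460 (BT.node 1459 (BT.leaf cJ1459) (BT.leaf cJ1460)) (BT.leaf cJ1461)) (BT.node 1462 (BT.leaf cJ1462) (BT.leaf cJ1463))) (BT.node 1466 (BT.node 1465 (BT.node 1464 (BT.leaf cJ1464) (BT.leaf cJ1465)) (BT.leaf cJ1466)) (BT.node 1467 (BT.leaf cJ1467) (BT.leaf cJ1468))))) (BT.node 1478 (BT.node 1473 (BT.node 1471 (BT.node 1470 (BT.node 1469 (BT.leaf cJ1469) (BT.leaf cJ1470)) (BT.leaf cJ1471)) (BT.node 1472 (BT.leaf cJ1472) (BT.leaf cJ1473))) (BT.node 1476 (BT.node 1475 (BT.node 1474 (BT.leaf cJ1474) (BT.leaf cJ1475)) (BT.leaf cJ1476)) (BT.node 1477 (BT.leaf cJ1477) (BT.leaf cJ1478)))) (BT.node 1483 (BT.node 1481 (BT.node 1480 (BT.node 1479 (BT.leaf cJ1479) (BT.leaf cJ1480)) (BT.leaf cJ1481)) (BT.node 1482 (BT.leaf cJ1482) (BT.leaf cJ1483))) (BT.node 1486 (BT.node 1485 (BT.node 1484 (BT.leaf cJ1484) (BT.leaf cJ1485)) (BT.leaf cJ1486)) (BT.node 1487 (BT.leaf cJ1487) (BT.leaf cJ1488)))))))) (BT.node 1571 (BT.node 1530 (BT.node 1509 (BT.node 1499 (BT.node 1494 (BT.node 1491 (BT.node 1490 (BT.node 1489 (BT.leaf cJ1489) (BT.leaf cJ1490)) (BT.leaf cJ1491)) (BT.node 1493 (BT.node 1492 (BT.leaf cJ1492) (BT.leaf cJ1493)) (BT.leaf cJ1494))) (BT.node 1497 (BT.node 1496 (BT.node 1495 (BT.leaf cJ1495) (BT.leaf cJ1496)) (BT.leaf cJ1497)) (BT.node 1498 (BT.leaf cJ1498) (BT.leaf cJ1499)))) (BT.node 1504 (BT.node 1502 (BT.node 1501 (BT.node 1500 (BT.leaf cJ1500) (BT.leaf cJ1501)) (BT.leaf cJ1502)) (BT.node 1503 (BT.leaf cJ1503) (BT.leaf cJ1504))) (BT.node 1507 (BT.node 1506 (BT.node 1505 (BT.leaf cJ1505) (BT.leaf cJ1506)) (BT.leaf cJ1507)) (BT.node 1508 (BT.leaf cJ1508) (BT.leaf cJ1509))))) (BT.node 1520 (BT.node 1515 (BT.node 1512 (BT.node 1511 (BT.node 1510 (BT.leaf cJ1510) (BT.leaf cJ1511)) (BT.leaf cJ1512)) (BT.node 1514 (BT.node 1513 (BT.leaf cJ1513) (BT.leaf cJ1514)) (BT.leaf cJ1515))) (BT.node 1518 (BT.node 1517 (BT.node 1516 (BT.leaf cJ1516) (BT.leaf cJ1517)) (BT.leaf cJ1518)) (BT.node 1519 (BT.leaf cJ1519) (BT.leaf cJ1520)))) (BT.node 1525 (BT.node 1523 (BT.node 1522 (BT.node 1521 (BT.leaf cJ1521) (BT.leaf cJ1522)) (BT.leaf cJ1523)) (BT.node 1524 (BT.leaf cJ1524) (BT.leaf cJ1525))) (BT.node 1528 (BT.node 1527 (BT.node 1526 (BT.leaf cJ1526) (BT.leaf cJ1527)) (BT.leaf cJ1528)) (BT.node 1529 (BT.leaf cJ1529) (BT.leaf cJ1530)))))) (BT.node 1551 (BT.node 1541 (BT.node 1536 (BT.node 1533 (BT.node 1532 (BT.node 1531 (BT.leaf cJ1531) (BT.leaf cJ1532)) (BT.leaf cJ1533)) (BT.node 1535 (BT.node 1534 (BT.leaf cJ1534) (BT.leaf cJ1535)) (BT.leaf cJ1536))) (BT.node 1539 (BT.node 1538 (BT.node 1537 (BT.leaf cJ1537) (BT.leaf cJ1538)) (BT.leaf cJ1539)) (BT.node 1540 (BT.leaf cJ1540) (BT.leaf cJ1541)))) (BT.node 1546 (BT.node 1544 (BT.node 1543 (BT.node 1542 (BT.leaf cJ1542) (BT.leaf cJ1543)) (BT.leaf cJ1544)) (BT.node 1545 (BT.leaf cJ1545) (BT.leaf cJ1546))) (BT.node 1549 (BT.node 1548 (BT.node 1547 (BT.leaf cJ1547) (BT.leaf cJ1548)) (BT.leaf cJ1549)) (BT.node 1550 (BT.leaf cJ1550) (BT.leaf cJ1551))))) (BT.node 1561 (BT.node 1556 (BT.node 1554 (BT.node 1553 (BT.node 1552 (BT.leaf cJ1552) (BT.leaf cJ1553)) (BT.leaf cJ1554)) (BT.node 1555 (BT.leaf cJ1555) (BT.leaf cJ1556))) (BT.node 1559 (BT.node 1558 (BT.node 1557 (BT.leaf cJ1557) (BT.leaf cJ1558)) (BT.leaf cJ1559)) (BT.node 1560 (BT.leaf cJ1560) (BT.leaf cJ1561)))) (BT.node 1566 (BT.node 1564 (BT.node 1563 (BT.node 1562 (BT.leaf cJ1562) (BT.leaf cJ1563)) (BT.leaf cJ1564)) (BT.node 1565 (BT.leaf cJ1565) (BT.leaf cJ1566))) (BT.node 1569 (BT.node 1568 (BT.node 1567 (BT.leaf cJ1567) (BT.leaf cJ1568)) (BT.leaf cJ1569)) (BT.node 1570 (BT.leaf cJ1570) (BT.leaf cJ1571))))))) (BT.node 1612 (BT.node 1592 (BT.node 1582 (BT.node 1577 (BT.node 1574 (BT.node 1573 (BT.node 1572 (BT.leaf cJ1572) (BT.leaf cJ1573)) (BT.leaf cJ1574)) (BT.node 1576 (BT.node 1575 (BT.leaf cJ1575) (BT.leaf cJ1576)) (BT.leaf cJ1577))) (BT.node 1580 (BT.node 1579 (BT.node 1578 (BT.leaf cJ1578) (BT.leaf cJ1579)) (BT.leaf cJ1580)) (BT.node 1581 (BT.leaf cJ1581) (BT.leaf cJ1582)))) (BT.node 1587 (BT.node 1585 (BT.node 1584 (BT.node 1583 (BT.leaf cJ1583) (BT.leaf cJ1584)) (BT.leaf cJ1585)) (BT.node 1586 (BT.leaf cJ1586) (BT.leaf cJ1587))) (BT.node 1590 (BT.node 1589 (BT.node 1588 (BT.leaf cJ1588) (BT.leaf cJ1589)) (BT.leaf cJ1590)) (BT.node 1591 (BT.leaf cJ1591) (BT.leaf cJ1592))))) (BT.node 1602 (BT.node 1597 (BT.node 1595 (BT.node 1594 (BT.node 1593 (BT.leaf cJ1593) (BT.leaf cJ1594)) (BT.leaf cJ1595)) (BT.node 1596 (BT.leaf cJ1596) (BT.leaf cJ1597))) (BT.node 1600 (BT.node 1599 (BT.node 1598 (BT.leaf cJ1598) (BT.leaf cJ1599)) (BT.leaf cJ1600)) (BT.node 1601 (BT.leaf cJ1601) (BT.leaf cJ1602)))) (BT.node 1607 (BT.node 1605 (BT.node 1604 (BT.node 1603 (BT.leaf cJ1603) (BT.leaf cJ1604)) (BT.leaf cJ1605)) (BT.node 1606 (BT.leaf cJ1606) (BT.leaf cJ1607))) (BT.node 1610 (BT.node 1609 (BT.node 1608 (BT.leaf cJ1608) (BT.leaf cJ1609)) (BT.leaf cJ1610)) (BT.node 1611 (BT.leaf cJ1611) (BT.leaf cJ1612)))))) (BT.node 1633 (BT.node 1623 (BT.node 1618 (BT.node 1615 (BT.node 1614 (BT.node 1613 (BT.leaf cJ1613) (BT.leaf cJ1614)) (BT.leaf cJ1615)) (BT.node 1617 (BT.node 1616 (BT.leaf cJ1616) (BT.leaf cJ1617)) (BT.leaf cJ1618))) (BT.node 1621 (BT.node 1620 (BT.node 1619 (BT.leaf cJ1619) (BT.leaf cJ1620)) (BT.leaf cJ1621)) (BT.node 1622 (BT.leaf cJ1622) (BT.leaf cJ1623)))) (BT.node 1628 (BT.node 1626 (BT.node 1625 (BT.node 1624 (BT.leaf cJ1624) (BT.leaf cJ1625)) (BT.leaf cJ1626)) (BT.node 1627 (BT.leaf cJ1627) (BT.leaf cJ1628))) (BT.node 1631 (BT.node 1630 (BT.node 1629 (BT.leaf cJ1629) (BT.leaf cJ1630)) (BT.leaf cJ1631)) (BT.node 1632 (BT.leaf cJ1632) (BT.leaf cJ1633))))) (BT.node 1643 (BT.node 1638 (BT.node 1636 (BT.node 1635 (BT.node 1634 (BT.leaf cJ1634) (BT.leaf cJ1635)) (BT.leaf cJ1636)) (BT.node 1637 (BT.leaf cJ1637) (BT.leaf cJ1638))) (BT.node 1641 (BT.node 1640 (BT.node 1639 (BT.leaf cJ1639) (BT.leaf cJ1640)) (BT.leaf cJ1641)) (BT.node 1642 (BT.leaf cJ1642) (BT.leaf cJ1643)))) (BT.node 1648 (BT.node 1646 (BT.node 1645 (BT.node 1644 (BT.leaf cJ1644) (BT.leaf cJ1645)) (BT.leaf cJ1646)) (BT.node 1647 (BT.leaf cJ1647) (BT.leaf cJ1648))) (BT.node 1651 (BT.node 1650 (BT.node 1649 (BT.leaf cJ1649) (BT.leaf cJ1650)) (BT.leaf cJ1651)) (BT.node 1652 (BT.leaf cJ1652) (BT.leaf cJ1653))))))))) (BT.node 1818 (BT.node 1736 (BT.node 1695 (BT.node 1674 (BT.node 1664 (BT.node 1659 (BT.node 1656 (BT.node 1655 (BT.node 1654 (BT.leaf cJ1654) (BT.leaf cJ1655)) (BT.leaf cJ1656)) (BT.node 1658 (BT.node 1657 (BT.leaf cJ1657) (BT.leaf cJ1658)) (BT.leaf cJ1659))) (BT.node 1662 (BT.node 1661 (BT.node 1660 (BT.leaf cJ1660) (BT.leaf cJ1661)) (BT.leaf cJ1662)) (BT.node 1663 (BT.leaf cJ1663) (BT.leaf cJ1664)))) (BT.node 1669 (BT.node 1667 (BT.node 1666 (BT.node 1665 (BT.leaf cJ1665) (BT.leaf cJ1666)) (BT.leaf cJ1667)) (BT.node 1668 (BT.leaf cJ1668) (BT.leaf cJ1669))) (BT.node 1672 (BT.node 1671 (BT.node 1670 (BT.leaf cJ1670) (BT.leaf cJ1671)) (BT.leaf cJ1672)) (BT.node 1673 (BT.leaf cJ1673) (BT.leaf cJ1674))))) (BT.node 1685 (BT.node 1680 (BT.node 1677 (BT.node 1676 (BT.node 1675 (BT.leaf cJ1675) (BT.leaf cJ1676)) (BT.leaf cJ1677)) (BT.node 1679 (BT.node 1678 (BT.leaf cJ1678) (BT.leaf cJ1679)) (BT.leaf cJ1680))) (BT.node 1683 (BT.node 1682 (BT.node 1681 (BT.leaf cJ1681) (BT.leaf cJ1682)) (BT.leaf cJ1683)) (BT.node 1684 (BT.leaf cJ1684) (BT.leaf cJ1685)))) (BT.node 1690 (BT.node 1688 (BT.node 1687 (BT.node 1686 (BT.leaf cJ1686) (BT.leaf cJ1687)) (BT.leaf cJ1688)) (BT.node 1689 (BT.leaf cJ1689) (BT.leaf cJ1690))) (BT.node 1693 (BT.node 1692 (BT.node 1691 (BT.leaf cJ1691) (BT.leaf cJ1692)) (BT.leaf cJ1693)) (BT.node 1694 (BT.leaf cJ1694) (BT.leaf cJ1695)))))) (BT.node 1716 (BT.node 1706 (BT.node 1701 (BT.node 1698 (BT.node 1697 (BT.node 1696 (BT.leaf cJ1696) (BT.leaf cJ1697)) (BT.leaf cJ1698)) (BT.node 1700 (BT.node 1699 (BT.leaf cJ1699) (BT.leaf cJ1700)) (BT.leaf cJ1701))) (BT.node 1704 (BT.node 1703 (BT.node 1702 (BT.leaf cJ1702) (BT.leaf cJ1703)) (BT.leaf cJ1704)) (BT.node 1705 (BT.leaf cJ1705) (BT.leaf cJ1706)))) (BT.node 1711 (BT.node 1709 (BT.node 1708 (BT.node 1707 (BT.leaf cJ1707) (BT.leaf cJ1708)) (BT.leaf cJ1709)) (BT.node 1710 (BT.leaf cJ1710) (BT.leaf cJ1711))) (BT.node 1714 (BT.node 1713 (BT.node 1712 (BT.leaf cJ1712) (BT.leaf cJ1713)) (BT.leaf cJ1714)) (BT.node 1715 (BT.leaf cJ1715) (BT.leaf cJ1716))))) (BT.node 1726 (BT.node 1721 (BT.node 1719 (BT.node 1718 (BT.node 1717 (BT.leaf cJ1717) (BT.leaf cJ1718)) (BT.leaf cJ1719)) (BT.node 1720 (BT.leaf cJ1720) (BT.leaf cJ1721))) (BT.node 1724 (BT.node 1723 (BT.node 1722 (BT.leaf cJ1722) (BT.leaf cJ1723)) (BT.leaf cJ1724)) (BT.node 1725 (BT.leaf cJ1725) (BT.leaf cJ1726)))) (BT.node 1731 (BT.node 1729 (BT.node 1728 (BT.node 1727 (BT.leaf cJ1727) (BT.leaf cJ1728)) (BT.leaf cJ1729)) (BT.node 1730 (BT.leaf cJ1730) (BT.leaf cJ1731))) (BT.node 1734 (BT.node 1733 (BT.node 1732 (BT.leaf cJ1732) (BT.leaf cJ1733)) (BT.leaf cJ1734)) (BT.node 1735 (BT.leaf cJ1735) (BT.leaf cJ1736))))))) (BT.node 1777 (BT.node 1757 (BT.node 1747 (BT.node 1742 (BT.node 1739 (BT.node 1738 (BT.node 1737 (BT.leaf cJ1737) (BT.leaf cJ1738)) (BT.leaf cJ1739)) (BT.node 1741 (BT.node 1740 (BT.leaf cJ1740) (BT.leaf cJ1741)) (BT.leaf cJ1742))) (BT.node 1745 (BT.node 1744 (BT.node 1743 (BT.leaf cJ1743) (BT.leaf cJ1744)) (BT.leaf cJ1745)) (BT.node 1746 (BT.leaf cJ1746) (BT.leaf cJ1747)))) (BT.node 1752 (BT.node 1750 (BT.node 1749 (BT.node 1748 (BT.leaf cJ1748) (BT.leaf cJ1749)) (BT.leaf cJ1750)) (BT.node 1751 (BT.leaf cJ1751) (BT.leaf cJ1752))) (BT.node 1755 (BT.node 1754 (BT.node 1753 (BT.leaf cJ1753) (BT.leaf cJ1754)) (BT.leaf cJ1755)) (BT.node 1756 (BT.leaf cJ1756) (BT.leaf cJ1757))))) (BT.node 1767 (BT.node 1762 (BT.node 1760 (BT.node 1759 (BT.node 1758 (BT.leaf cJ1758) (BT.leaf cJ1759)) (BT.leaf cJ1760)) (BT.node 1761 (BT.leaf cJ1761) (BT.leaf cJ1762))) (BT.node 1765 (BT.node 1764 (BT.node 1763 (BT.leaf cJ1763) (BT.leaf cJ1764)) (BT.leaf cJ1765)) (BT.node 1766 (BT.leaf cJ1766) (BT.leaf cJ1767)))) (BT.node 1772 (BT.node 1770 (BT.node 1769 (BT.node 1768 (BT.leaf cJ1768) (BT.leaf cJ1769)) (BT.leaf cJ1770)) (BT.node 1771 (BT.leaf cJ1771) (BT.leaf cJ1772))) (BT.node 1775 (BT.node 1774 (BT.node 1773 (BT.leaf cJ1773) (BT.leaf cJ1774)) (BT.leaf cJ1775)) (BT.node 1776 (BT.leaf cJ1776) (BT.leaf cJ1777)))))) (BT.node 1798 (BT.node 1788 (BT.node 1783 (BT.node 1780 (BT.node 1779 (BT.node 1778 (BT.leaf cJ1778) (BT.leaf cJ1779)) (BT.leaf cJ1780)) (BT.node 1782 (BT.node 1781 (BT.leaf cJ1781) (BT.leaf cJ1782)) (BT.leaf cJ1783))) (BT.node 1786 (BT.node 1785 (BT.node 1784 (BT.leaf cJ1784) (BT.leaf cJ1785)) (BT.leaf cJ1786)) (BT.node 1787 (BT.leaf cJ1787) (BT.leaf cJ1788)))) (BT.node 1793 (BT.node 1791 (BT.node 1790 (BT.node 1789 (BT.leaf cJ1789) (BT.leaf cJ1790)) (BT.leaf cJ1791)) (BT.node 1792 (BT.leaf cJ1792) (BT.leaf cJ1793))) (BT.node 1796 (BT.node 1795 (BT.node 1794 (BT.leaf cJ1794) (BT.leaf cJ1795)) (BT.leaf cJ1796)) (BT.node 1797 (BT.leaf cJ1797) (BT.leaf cJ1798))))) (BT.node 1808 (BT.node 1803 (BT.node 1801 (BT.node 1800 (BT.node 1799 (BT.leaf cJ1799) (BT.leaf cJ1800)) (BT.leaf cJ1801)) (BT.node 1802 (BT.leaf cJ1802) (BT.leaf cJ1803))) (BT.node 1806 (BT.node 1805 (BT.node 1804 (BT.leaf cJ1804) (BT.leaf cJ1805)) (BT.leaf cJ1806)) (BT.node 1807 (BT.leaf cJ1807) (BT.leaf cJ1808)))) (BT.node 1813 (BT.node 1811 (BT.node 1810 (BT.node 1809 (BT.leaf cJ1809) (BT.leaf cJ1810)) (BT.leaf cJ1811)) (BT.node 1812 (BT.leaf cJ1812) (BT.leaf cJ1813))) (BT.node 1816 (BT.node 1815 (BT.node 1814 (BT.leaf cJ1814) (BT.leaf cJ1815)) (BT.leaf cJ1816)) (BT.node 1817 (BT.leaf cJ1817) (BT.leaf cJ1818)))))))) (BT.node 1901 (BT.node 1860 (BT.node 1839 (BT.node 1829 (BT.node 1824 (BT.node 1821 (BT.node 1820 (BT.node 1819 (BT.leaf cJ1819) (BT.leaf cJ1820)) (BT.leaf cJ1821)) (BT.node 1823 (BT.node 1822 (BT.leaf cJ1822) (BT.leaf cJ1823)) (BT.leaf cJ1824))) (BT.node 1827 (BT.node 1826 (BT.node 1825 (BT.leaf cJ1825) (BT.leaf cJ1826)) (BT.leaf cJ1827)) (BT.node 1828 (BT.leaf cJ1828) (BT.leaf cJ1829)))) (BT.node 1834 (BT.node 1832 (BT.node 1831 (BT.node 1830 (BT.leaf cJ1830) (BT.leaf cJ1831)) (BT.leaf cJ1832)) (BT.node 1833 (BT.leaf cJ1833) (BT.leaf cJ1834))) (BT.node 1837 (BT.node 1836 (BT.node 1835 (BT.leaf cJ1835) (BT.leaf cJ1836)) (BT.leaf cJ1837)) (BT.node 1838 (BT.leaf cJ1838) (BT.leaf cJ1839))))) (BT.node 1850 (BT.node 1845 (BT.node 1842 (BT.node 1841 (BT.node 1840 (BT.leaf cJ1840) (BT.leaf cJ1841)) (BT.leaf cJ1842)) (BT.node 1844 (BT.node 1843 (BT.leaf cJ1843) (BT.leaf cJ1844)) (BT.leaf cJ1845))) (BT.node 1848 (BT.node 1847 (BT.node 1846 (BT.leaf cJ1846) (BT.leaf cJ1847)) (BT.leaf cJ1848)) (BT.node 1849 (BT.leaf cJ1849) (BT.leaf cJ1850)))) (BT.node 1855 (BT.node 1853 (BT.node 1852 (BT.node 1851 (BT.leaf cJ1851) (BT.leaf cJ1852)) (BT.leaf cJ1853)) (BT.node 1854 (BT.leaf cJ1854) (BT.leaf cJ1855))) (BT.node 1858 (BT.node 1857 (BT.node 1856 (BT.leaf cJ1856) (BT.leaf cJ1857)) (BT.leaf cJ1858)) (BT.node 1859 (BT.leaf cJ1859) (BT.leaf cJ1860)))))) (BT.node 1881 (BT.node 1871 (BT.node 1866 (BT.node 1863 (BT.node 1862 (BT.node 1861 (BT.leaf cJ1861) (BT.leaf cJ1862)) (BT.leaf cJ1863)) (BT.node 1865 (BT.node 1864 (BT.leaf cJ1864) (BT.leaf cJ1865)) (BT.leaf cJ1866))) (BT.node 1869 (BT.node 1868 (BT.node 1867 (BT.leaf cJ1867) (BT.leaf cJ1868)) (BT.leaf cJ1869)) (BT.node 1870 (BT.leaf cJ1870) (BT.leaf cJ1871)))) (BT.node 1876 (BT.node 1874 (BT.node 1873 (BT.node 1872 (BT.leaf cJ1872) (BT.leaf cJ1873)) (BT.leaf cJ1874)) (BT.node 1875 (BT.leaf cJ1875) (BT.leaf cJ1876))) (BT.node 1879 (BT.node 1878 (BT.node 1877 (BT.leaf cJ1877) (BT.leaf cJ1878)) (BT.leaf cJ1879)) (BT.node 1880 (BT.leaf cJ1880) (BT.leaf cJ1881))))) (BT.node 1891 (BT.node 1886 (BT.node 1884 (BT.node 1883 (BT.node 1882 (BT.leaf cJ1882) (BT.leaf cJ1883)) (BT.leaf cJ1884)) (BT.node 1885 (BT.leaf cJ1885) (BT.leaf cJ1886))) (BT.node 1889 (BT.node 1888 (BT.node 1887 (BT.leaf cJ1887) (BT.leaf cJ1888)) (BT.leaf cJ1889)) (BT.node 1890 (BT.leaf cJ1890) (BT.leaf cJ1891)))) (BT.node 1896 (BT.node 1894 (BT.node 1893 (BT.node 1892 (BT.leaf cJ1892) (BT.leaf cJ1893)) (BT.leaf cJ1894)) (BT.node 1895 (BT.leaf cJ1895) (BT.leaf cJ1896))) (BT.node 1899 (BT.node 1898 (BT.node 1897 (BT.leaf cJ1897) (BT.leaf cJ1898)) (BT.leaf cJ1899)) (BT.node 1900 (BT.leaf cJ1900) (BT.leaf cJ1901))))))) (BT.node 1942 (BT.node 1922 (BT.node 1912 (BT.node 1907 (BT.node 1904 (BT.node 1903 (BT.node 1902 (BT.leaf cJ1902) (BT.leaf cJ1903)) (BT.leaf cJ1904)) (BT.node 1906 (BT.node 1905 (BT.leaf cJ1905) (BT.leaf cJ1906)) (BT.leaf cJ1907))) (BT.node 1910 (BT.node 1909 (BT.node 1908 (BT.leaf cJ1908) (BT.leaf cJ1909)) (BT.leaf cJ1910)) (BT.node 1911 (BT.leaf cJ1911) (BT.leaf cJ1912)))) (BT.node 1917 (BT.node 1915 (BT.node 1914 (BT.node 1913 (BT.leaf cJ1913) (BT.leaf cJ1914)) (BT.leaf cJ1915)) (BT.node 1916 (BT.leaf cJ1916) (BT.leaf cJ1917))) (BT.node 1920 (BT.node 1919 (BT.node 1918 (BT.leaf cJ1918) (BT.leaf cJ1919)) (BT.leaf cJ1920)) (BT.node 1921 (BT.leaf cJ1921) (BT.leaf cJ1922))))) (BT.node 1932 (BT.node 1927 (BT.node 1925 (BT.node 1924 (BT.node 1923 (BT.leaf cJ1923) (BT.leaf cJ1924)) (BT.leaf cJ1925)) (BT.node 1926 (BT.leaf cJ1926) (BT.leaf cJ1927))) (BT.node 1930 (BT.node 1929 (BT.node 1928 (BT.leaf cJ1928) (BT.leaf cJ1929)) (BT.leaf cJ1930)) (BT.node 1931 (BT.leaf cJ1931) (BT.leaf cJ1932)))) (BT.node 1937 (BT.node 1935 (BT.node 1934 (BT.node 1933 (BT.leaf cJ1933) (BT.leaf cJ1934)) (BT.leaf cJ1935)) (BT.node 1936 (BT.leaf cJ1936) (BT.leaf cJ1937))) (BT.node 1940 (BT.node 1939 (BT.node 1938 (BT.leaf cJ1938) (BT.leaf cJ1939)) (BT.leaf cJ1940)) (BT.node 1941 (BT.leaf cJ1941) (BT.leaf cJ1942)))))) (BT.node 1963 (BT.node 1953 (BT.node 1948 (BT.node 1945 (BT.node 1944 (BT.node 1943 (BT.leaf cJ1943) (BT.leaf cJ1944)) (BT.leaf cJ1945)) (BT.node 1947 (BT.node 1946 (BT.leaf cJ1946) (BT.leaf cJ1947)) (BT.leaf cJ1948))) (BT.node 1951 (BT.node 1950 (BT.node 1949 (BT.leaf cJ1949) (BT.leaf cJ1950)) (BT.leaf cJ1951)) (BT.node 1952 (BT.leaf cJ1952) (BT.leaf cJ1953)))) (BT.node 1958 (BT.node 1956 (BT.node 1955 (BT.node 1954 (BT.leaf cJ1954) (BT.leaf cJ1955)) (BT.leaf cJ1956)) (BT.node 1957 (BT.leaf cJ1957) (BT.leaf cJ1958))) (BT.node 1961 (BT.node 1960 (BT.node 1959 (BT.leaf cJ1959) (BT.leaf cJ1960)) (BT.leaf cJ1961)) (BT.node 1962 (BT.leaf cJ1962) (BT.leaf cJ1963))))) (BT.node 1973 (BT.node 1968 (BT.node 1966 (BT.node 1965 (BT.node 1964 (BT.leaf cJ1964) (BT.leaf cJ1965)) (BT.leaf cJ1966)) (BT.node 1967 (BT.leaf cJ1967) (BT.leaf cJ1968))) (BT.node 1971 (BT.node 1970 (BT.node 1969 (BT.leaf cJ1969) (BT.leaf cJ1970)) (BT.leaf cJ1971)) (BT.node 1972 (BT.leaf cJ1972) (BT.leaf cJ1973)))) (BT.node 1978 (BT.node 1976 (BT.node 1975 (BT.node 1974 (BT.leaf cJ1974) (BT.leaf cJ1975)) (BT.leaf cJ1976)) (BT.node 1977 (BT.leaf cJ1977) (BT.leaf cJ1978))) (BT.node 1981 (BT.node 1980 (BT.node 1979 (BT.leaf cJ1979) (BT.leaf cJ1980)) (BT.leaf cJ1981)) (BT.node 1982 (BT.leaf cJ1982) (BT.leaf cJ1983)))))))))) (BT.node 2314 (BT.node 2149 (BT.node 2066 (BT.node 2025 (BT.node 2004 (BT.node 1994 (BT.node 1989 (BT.node 1986 (BT.node 1985 (BT.node 1984 (BT.leaf cJ1984) (BT.leaf cJ1985)) (BT.leaf cJ1986)) (BT.node 1988 (BT.node 1987 (BT.leaf cJ1987) (BT.leaf cJ1988)) (BT.leaf cJ1989))) (BT.node 1992 (BT.node 1991 (BT.node 1990 (BT.leaf cJ1990) (BT.leaf cJ1991)) (BT.leaf cJ1992)) (BT.node 1993 (BT.leaf cJ1993) (BT.leaf cJ1994)))) (BT.node 1999 (BT.node 1997 (BT.node 1996 (BT.node 1995 (BT.leaf cJ1995) (BT.leaf cJ1996)) (BT.leaf cJ1997)) (BT.node 1998 (BT.leaf cJ1998) (BT.leaf cJ1999))) (BT.node 2002 (BT.node 2001 (BT.node 2000 (BT.leaf cJ2000) (BT.leaf cJ2001)) (BT.leaf cJ2002)) (BT.node 2003 (BT.leaf cJ2003) (BT.leaf cJ2004))))) (BT.node 2015 (BT.node 2010 (BT.node 2007 (BT.node 2006 (BT.node 2005 (BT.leaf cJ2005) (BT.leaf cJ2006)) (BT.leaf cJ2007)) (BT.node 2009 (BT.node 2008 (BT.leaf cJ2008) (BT.leaf cJ2009)) (BT.leaf cJ2010))) (BT.node 2013 (BT.node 2012 (BT.node 2011 (BT.leaf cJ2011) (BT.leaf cJ2012)) (BT.leaf cJ2013)) (BT.node 2014 (BT.leaf cJ2014) (BT.leaf cJ2015)))) (BT.node 2020 (BT.node 2018 (BT.node 2017 (BT.node 2016 (BT.leaf cJ2016) (BT.leaf cJ2017)) (BT.leaf cJ2018)) (BT.node 2019 (BT.leaf cJ2019) (BT.leaf cJ2020))) (BT.node 2023 (BT.node 2022 (BT.node 2021 (BT.leaf cJ2021) (BT.leaf cJ2022)) (BT.leaf cJ2023)) (BT.node 2024 (BT.leaf cJ2024) (BT.leaf cJ2025)))))) (BT.node 2046 (BT.node 2036 (BT.node 2031 (BT.node 2028 (BT.node 2027 (BT.node 2026 (BT.leaf cJ2026) (BT.leaf cJ2027)) (BT.leaf cJ2028)) (BT.node 2030 (BT.node 2029 (BT.leaf cJ2029) (BT.leaf cJ2030)) (BT.leaf cJ2031))) (BT.node 2034 (BT.node 2033 (BT.node 2032 (BT.leaf cJ2032) (BT.leaf cJ2033)) (BT.leaf cJ2034)) (BT.node 2035 (BT.leaf cJ2035) (BT.leaf cJ2036)))) (BT.node 2041 (BT.node 2039 (BT.node 2038 (BT.node 2037 (BT.leaf cJ2037) (BT.leaf cJ2038)) (BT.leaf cJ2039)) (BT.node 2040 (BT.leaf cJ2040) (BT.leaf cJ2041))) (BT.node 2044 (BT.node 2043 (BT.node 2042 (BT.leaf cJ2042) (BT.leaf cJ2043)) (BT.leaf cJ2044)) (BT.node 2045 (BT.leaf cJ2045) (BT.leaf cJ2046))))) (BT.node 2056 (BT.node 2051 (BT.node 2049 (BT.node 2048 (BT.node 2047 (BT.leaf cJ2047) (BT.leaf cJ2048)) (BT.leaf cJ2049)) (BT.node 2050 (BT.leaf cJ2050) (BT.leaf cJ2051))) (BT.node 2054 (BT.node 2053 (BT.node 2052 (BT.leaf cJ2052) (BT.leaf cJ2053)) (BT.leaf cJ2054)) (BT.node 2055 (BT.leaf cJ2055) (BT.leaf cJ2056)))) (BT.node 2061 (BT.node 2059 (BT.node 2058 (BT.node 2057 (BT.leaf cJ2057) (BT.leaf cJ2058)) (BT.leaf cJ2059)) (BT.node 2060 (BT.leaf cJ2060) (BT.leaf cJ2061))) (BT.node 2064 (BT.node 2063 (BT.node 2062 (BT.leaf cJ2062) (BT.leaf cJ2063)) (BT.leaf cJ2064)) (BT.node 2065 (BT.leaf cJ2065) (BT.leaf cJ2066))))))) (BT.node 2108 (BT.node 2087 (BT.node 2077 (BT.node 2072 (BT.node 2069 (BT.node 2068 (BT.node 2067 (BT.leaf cJ2067) (BT.leaf cJ2068)) (BT.leaf cJ2069)) (BT.node 2071 (BT.node 2070 (BT.leaf cJ2070) (BT.leaf cJ2071)) (BT.leaf cJ2072))) (BT.node 2075 (BT.node 2074 (BT.node 2073 (BT.leaf cJ2073) (BT.leaf cJ2074)) (BT.leaf cJ2075)) (BT.node 2076 (BT.leaf cJ2076) (BT.leaf cJ2077)))) (BT.node 2082 (BT.node 2080 (BT.node 2079 (BT.node 2078 (BT.leaf cJ2078) (BT.leaf cJ2079)) (BT.leaf cJ2080)) (BT.node 2081 (BT.leaf cJ2081) (BT.leaf cJ2082))) (BT.node 2085 (BT.node 2084 (BT.node 2083 (BT.leaf cJ2083) (BT.leaf cJ2084)) (BT.leaf cJ2085)) (BT.node 2086 (BT.leaf cJ2086) (BT.leaf cJ2087))))) (BT.node 2098 (BT.node 2093 (BT.node 2090 (BT.node 2089 (BT.node 2088 (BT.leaf cJ2088) (BT.leaf cJ2089)) (BT.leaf cJ2090)) (BT.node 2092 (BT.node 2091 (BT.leaf cJ2091) (BT.leaf cJ2092)) (BT.leaf cJ2093))) (BT.node 2096 (BT.node 2095 (BT.node 2094 (BT.leaf cJ2094) (BT.leaf cJ2095)) (BT.leaf cJ2096)) (BT.node 2097 (BT.leaf cJ2097) (BT.leaf cJ2098)))) (BT.node 2103 (BT.node 2101 (BT.node 2100 (BT.node 2099 (BT.leaf cJ2099) (BT.leaf cJ2100)) (BT.leaf cJ2101)) (BT.node 2102 (BT.leaf cJ2102) (BT.leaf cJ2103))) (BT.node 2106 (BT.node 2105 (BT.node 2104 (BT.leaf cJ2104) (BT.leaf cJ2105)) (BT.leaf cJ2106)) (BT.node 2107 (BT.leaf cJ2107) (BT.leaf cJ2108)))))) (BT.node 2129 (BT.node 2119 (BT.node 2114 (BT.node 2111 (BT.node 2110 (BT.node 2109 (BT.leaf cJ2109) (BT.leaf cJ2110)) (BT.leaf cJ2111)) (BT.node 2113 (BT.node 2112 (BT.leaf cJ2112) (BT.leaf cJ2113)) (BT.leaf cJ2114))) (BT.node 2117 (BT.node 2116 (BT.node 2115 (BT.leaf cJ2115) (BT.leaf cJ2116)) (BT.leaf cJ2117)) (BT.node 2118 (BT.leaf cJ2118) (BT.leaf cJ2119)))) (BT.node 2124 (BT.node 2122 (BT.node 2121 (BT.node 2120 (BT.leaf cJ2120) (BT.leaf cJ2121)) (BT.leaf cJ2122)) (BT.node 2123 (BT.leaf cJ2123) (BT.leaf cJ2124))) (BT.node 2127 (BT.node 2126 (BT.node 2125 (BT.leaf cJ2125) (BT.leaf cJ2126)) (BT.leaf cJ2127)) (BT.node 2128 (BT.leaf cJ2128) (BT.leaf cJ2129))))) (BT.node 2139 (BT.node 2134 (BT.node 2132 (BT.node 2131 (BT.node 2130 (BT.leaf cJ2130) (BT.leaf cJ2131)) (BT.leaf cJ2132)) (BT.node 2133 (BT.leaf cJ2133) (BT.leaf cJ2134))) (BT.node 2137 (BT.node 2136 (BT.node 2135 (BT.leaf cJ2135) (BT.leaf cJ2136)) (BT.leaf cJ2137)) (BT.node 2138 (BT.leaf cJ2138) (BT.leaf cJ2139)))) (BT.node 2144 (BT.node 2142 (BT.node 2141 (BT.node 2140 (BT.leaf cJ2140) (BT.leaf cJ2141)) (BT.leaf cJ2142)) (BT.node 2143 (BT.leaf cJ2143) (BT.leaf cJ2144))) (BT.node 2147 (BT.node 2146 (BT.node 2145 (BT.leaf cJ2145) (BT.leaf cJ2146)) (BT.leaf cJ2147)) (BT.node 2148 (BT.leaf cJ2148) (BT.leaf cJ2149)))))))) (BT.node 2232 (BT.node 2191 (BT.node 2170 (BT.node 2160 (BT.node 2155 (BT.node 2152 (BT.node 2151 (BT.node 2150 (BT.leaf cJ2150) (BT.leaf cJ2151)) (BT.leaf cJ2152)) (BT.node 2154 (BT.node 2153 (BT.leaf cJ2153) (BT.leaf cJ2154)) (BT.leaf cJ2155))) (BT.node 2158 (BT.node 2157 (BT.node 2156 (BT.leaf cJ2156) (BT.leaf cJ2157)) (BT.leaf cJ2158)) (BT.node 2159 (BT.leaf cJ2159) (BT.leaf cJ2160)))) (BT.node 2165 (BT.node 2163 (BT.node 2162 (BT.node 2161 (BT.leaf cJ2161) (BT.leaf cJ2162)) (BT.leaf cJ2163)) (BT.node 2164 (BT.leaf cJ2164) (BT.leaf cJ2165))) (BT.node 2168 (BT.node 2167 (BT.node 2166 (BT.leaf cJ2166) (BT.leaf cJ2167)) (BT.leaf cJ2168)) (BT.node 2169 (BT.leaf cJ2169) (BT.leaf cJ2170))))) (BT.node 2181 (BT.node 2176 (BT.node 2173 (BT.node 2172 (BT.node 2171 (BT.leaf cJ2171) (BT.leaf cJ2172)) (BT.leaf cJ2173)) (BT.node 2175 (BT.node 2174 (BT.leaf cJ2174) (BT.leaf cJ2175)) (BT.leaf cJ2176))) (BT.node 2179 (BT.node 2178 (BT.node 2177 (BT.leaf cJ2177) (BT.leaf cJ2178)) (BT.leaf cJ2179)) (BT.node 2180 (BT.leaf cJ2180) (BT.leaf cJ2181)))) (BT.node 2186 (BT.node 2184 (BT.node 2183 (BT.node 2182 (BT.leaf cJ2182) (BT.leaf cJ2183)) (BT.leaf cJ2184)) (BT.node 2185 (BT.leaf cJ2185) (BT.leaf cJ2186))) (BT.node 2189 (BT.node 2188 (BT.node 2187 (BT.leaf cJ2187) (BT.leaf cJ2188)) (BT.leaf cJ2189)) (BT.node 2190 (BT.leaf cJ2190) (BT.leaf cJ2191)))))) (BT.node 2212 (BT.node 2202 (BT.node 2197 (BT.node 2194 (BT.node 2193 (BT.node 2192 (BT.leaf cJ2192) (BT.leaf cJ2193)) (BT.leaf cJ2194)) (BT.node 2196 (BT.node 2195 (BT.leaf cJ2195) (BT.leaf cJ2196)) (BT.leaf cJ2197))) (BT.node 2200 (BT.node 2199 (BT.node 2198 (BT.leaf cJ2198) (BT.leaf cJ2199)) (BT.leaf cJ2200)) (BT.node 2201 (BT.leaf cJ2201) (BT.leaf cJ2202)))) (BT.node 2207 (BT.node 2205 (BT.node 2204 (BT.node 2203 (BT.leaf cJ2203) (BT.leaf cJ2204)) (BT.leaf cJ2205)) (BT.node 2206 (BT.leaf cJ2206) (BT.leaf cJ2207))) (BT.node 2210 (BT.node 2209 (BT.node 2208 (BT.leaf cJ2208) (BT.leaf cJ2209)) (BT.leaf cJ2210)) (BT.node 2211 (BT.leaf cJ2211) (BT.leaf cJ2212))))) (BT.node 2222 (BT.node 2217 (BT.node 2215 (BT.node 2214 (BT.node 2213 (BT.leaf cJ2213) (BT.leaf cJ2214)) (BT.leaf cJ2215)) (BT.node 2216 (BT.leaf cJ2216) (BT.leaf cJ2217))) (BT.node 2220 (BT.node 2219 (BT.node 2218 (BT.leaf cJ2218) (BT.leaf cJ2219)) (BT.leaf cJ2220)) (BT.node 2221 (BT.leaf cJ2221) (BT.leaf cJ2222)))) (BT.node 2227 (BT.node 2225 (BT.node 2224 (BT.node 2223 (BT.leaf cJ2223) (BT.leaf cJ2224)) (BT.leaf cJ2225)) (BT.node 2226 (BT.leaf cJ2226) (BT.leaf cJ2227))) (BT.node 2230 (BT.node 2229 (BT.node 2228 (BT.leaf cJ2228) (BT.leaf cJ2229)) (BT.leaf cJ2230)) (BT.node 2231 (BT.leaf cJ2231) (BT.leaf cJ2232))))))) (BT.node 2273 (BT.node 2253 (BT.node 2243 (BT.node 2238 (BT.node 2235 (BT.node 2234 (BT.node 2233 (BT.leaf cJ2233) (BT.leaf cJ2234)) (BT.leaf cJ2235)) (BT.node 2237 (BT.node 2236 (BT.leaf cJ2236) (BT.leaf cJ2237)) (BT.leaf cJ2238))) (BT.node 2241 (BT.node 2240 (BT.node 2239 (BT.leaf cJ2239) (BT.leaf cJ2240)) (BT.leaf cJ2241)) (BT.node 2242 (BT.leaf cJ2242) (BT.leaf cJ2243)))) (BT.node 2248 (BT.node 2246 (BT.node 2245 (BT.node 2244 (BT.leaf cJ2244) (BT.leaf cJ2245)) (BT.leaf cJ2246)) (BT.node 2247 (BT.leaf cJ2247) (BT.leaf cJ2248))) (BT.node 2251 (BT.node 2250 (BT.node 2249 (BT.leaf cJ2249) (BT.leaf cJ2250)) (BT.leaf cJ2251)) (BT.node 2252 (BT.leaf cJ2252) (BT.leaf cJ2253))))) (BT.node 2263 (BT.node 2258 (BT.node 2256 (BT.node 2255 (BT.node 2254 (BT.leaf cJ2254) (BT.leaf cJ2255)) (BT.leaf cJ2256)) (BT.node 2257 (BT.leaf cJ2257) (BT.leaf cJ2258))) (BT.node 2261 (BT.node 2260 (BT.node 2259 (BT.leaf cJ2259) (BT.leaf cJ2260)) (BT.leaf cJ2261)) (BT.node 2262 (BT.leaf cJ2262) (BT.leaf cJ2263)))) (BT.node 2268 (BT.node 2266 (BT.node 2265 (BT.node 2264 (BT.leaf cJ2264) (BT.leaf cJ2265)) (BT.leaf cJ2266)) (BT.node 2267 (BT.leaf cJ2267) (BT.leaf cJ2268))) (BT.node 2271 (BT.node 2270 (BT.node 2269 (BT.leaf cJ2269) (BT.leaf cJ2270)) (BT.leaf cJ2271)) (BT.node 2272 (BT.leaf cJ2272) (BT.leaf cJ2273)))))) (BT.node 2294 (BT.node 2284 (BT.node 2279 (BT.node 2276 (BT.node 2275 (BT.node 2274 (BT.leaf cJ2274) (BT.leaf cJ2275)) (BT.leaf cJ2276)) (BT.node 2278 (BT.node 2277 (BT.leaf cJ2277) (BT.leaf cJ2278)) (BT.leaf cJ2279))) (BT.node 2282 (BT.node 2281 (BT.node 2280 (BT.leaf cJ2280) (BT.leaf cJ2281)) (BT.leaf cJ2282)) (BT.node 2283 (BT.leaf cJ2283) (BT.leaf cJ2284)))) (BT.node 2289 (BT.node 2287 (BT.node 2286 (BT.node 2285 (BT.leaf cJ2285) (BT.leaf cJ2286)) (BT.leaf cJ2287)) (BT.node 2288 (BT.leaf cJ2288) (BT.leaf cJ2289))) (BT.node 2292 (BT.node 2291 (BT.node 2290 (BT.leaf cJ2290) (BT.leaf cJ2291)) (BT.leaf cJ2292)) (BT.node 2293 (BT.leaf cJ2293) (BT.leaf cJ2294))))) (BT.node 2304 (BT.node 2299 (BT.node 2297 (BT.node 2296 (BT.node 2295 (BT.leaf cJ2295) (BT.leaf cJ2296)) (BT.leaf cJ2297)) (BT.node 2298 (BT.leaf cJ2298) (BT.leaf cJ2299))) (BT.node 2302 (BT.node 2301 (BT.node 2300 (BT.leaf cJ2300) (BT.leaf cJ2301)) (BT.leaf cJ2302)) (BT.node 2303 (BT.leaf cJ2303) (BT.leaf cJ2304)))) (BT.node 2309 (BT.node 2307 (BT.node 2306 (BT.node 2305 (BT.leaf cJ2305) (BT.leaf cJ2306)) (BT.leaf cJ2307)) (BT.node 2308 (BT.leaf cJ2308) (BT.leaf cJ2309))) (BT.node 2312 (BT.node 2311 (BT.node 2310 (BT.leaf cJ2310) (BT.leaf cJ2311)) (BT.leaf cJ2312)) (BT.node 2313 (BT.leaf cJ2313) (BT.leaf cJ2314))))))))) (BT.node 2479 (BT.node 2397 (BT.node 2356 (BT.node 2335 (BT.node 2325 (BT.node 2320 (BT.node 2317 (BT.node 2316 (BT.node 2315 (BT.leaf cJ2315) (BT.leaf cJ2316)) (BT.leaf cJ2317)) (BT.node 2319 (BT.node 2318 (BT.leaf cJ2318) (BT.leaf cJ2319)) (BT.leaf cJ2320))) (BT.node 2323 (BT.node 2322 (BT.node 2321 (BT.leaf cJ2321) (BT.leaf cJ2322)) (BT.leaf cJ2323)) (BT.node 2324 (BT.leaf cJ2324) (BT.leaf cJ2325)))) (BT.node 2330 (BT.node 2328 (BT.node 2327 (BT.node 2326 (BT.leaf cJ2326) (BT.leaf cJ2327)) (BT.leaf cJ2328)) (BT.node 2329 (BT.leaf cJ2329) (BT.leaf cJ2330))) (BT.node 2333 (BT.node 2332 (BT.node 2331 (BT.leaf cJ2331) (BT.leaf cJ2332)) (BT.leaf cJ2333)) (BT.node 2334 (BT.leaf cJ2334) (BT.leaf cJ2335))))) (BT.node 2346 (BT.node 2341 (BT.node 2338 (BT.node 2337 (BT.node 2336 (BT.leaf cJ2336) (BT.leaf cJ2337)) (BT.leaf cJ2338)) (BT.node 2340 (BT.node 2339 (BT.leaf cJ2339) (BT.leaf cJ2340)) (BT.leaf cJ2341))) (BT.node 2344 (BT.node 2343 (BT.node 2342 (BT.leaf cJ2342) (BT.leaf cJ2343)) (BT.leaf cJ2344)) (BT.node 2345 (BT.leaf cJ2345) (BT.leaf cJ2346)))) (BT.node 2351 (BT.node 2349 (BT.node 2348 (BT.node 2347 (BT.leaf cJ2347) (BT.leaf cJ2348)) (BT.leaf cJ2349)) (BT.node 2350 (BT.leaf cJ2350) (BT.leaf cJ2351))) (BT.node 2354 (BT.node 2353 (BT.node 2352 (BT.leaf cJ2352) (BT.leaf cJ2353)) (BT.leaf cJ2354)) (BT.node 2355 (BT.leaf cJ2355) (BT.leaf cJ2356)))))) (BT.node 2377 (BT.node 2367 (BT.node 2362 (BT.node 2359 (BT.node 2358 (BT.node 2357 (BT.leaf cJ2357) (BT.leaf cJ2358)) (BT.leaf cJ2359)) (BT.node 2361 (BT.node 2360 (BT.leaf cJ2360) (BT.leaf cJ2361)) (BT.leaf cJ2362))) (BT.node 2365 (BT.node 2364 (BT.node 2363 (BT.leaf cJ2363) (BT.leaf cJ2364)) (BT.leaf cJ2365)) (BT.node 2366 (BT.leaf cJ2366) (BT.leaf cJ2367)))) (BT.node 2372 (BT.node 2370 (BT.node 2369 (BT.node 2368 (BT.leaf cJ2368) (BT.leaf cJ2369)) (BT.leaf cJ2370)) (BT.node 2371 (BT.leaf cJ2371) (BT.leaf cJ2372))) (BT.node 2375 (BT.node 2374 (BT.node 2373 (BT.leaf cJ2373) (BT.leaf cJ2374)) (BT.leaf cJ2375)) (BT.node 2376 (BT.leaf cJ2376) (BT.leaf cJ2377))))) (BT.node 2387 (BT.node 2382 (BT.node 2380 (BT.node 2379 (BT.node 2378 (BT.leaf cJ2378) (BT.leaf cJ2379)) (BT.leaf cJ2380)) (BT.node 2381 (BT.leaf cJ2381) (BT.leaf cJ2382))) (BT.node 2385 (BT.node 2384 (BT.node 2383 (BT.leaf cJ2383) (BT.leaf cJ2384)) (BT.leaf cJ2385)) (BT.node 2386 (BT.leaf cJ2386) (BT.leaf cJ2387)))) (BT.node 2392 (BT.node 2390 (BT.node 2389 (BT.node 2388 (BT.leaf cJ2388) (BT.leaf cJ2389)) (BT.leaf cJ2390)) (BT.node 2391 (BT.leaf cJ2391) (BT.leaf cJ2392))) (BT.node 2395 (BT.node 2394 (BT.node 2393 (BT.leaf cJ2393) (BT.leaf cJ2394)) (BT.leaf cJ2395)) (BT.node 2396 (BT.leaf cJ2396) (BT.leaf cJ2397))))))) (BT.node 2438 (BT.node 2418 (BT.node 2408 (BT.node 2403 (BT.node 2400 (BT.node 2399 (BT.node 2398 (BT.leaf cJ2398) (BT.leaf cJ2399)) (BT.leaf cJ2400)) (BT.node 2402 (BT.node 2401 (BT.leaf cJ2401) (BT.leaf cJ2402)) (BT.leaf cJ2403))) (BT.node 2406 (BT.node 2405 (BT.node 2404 (BT.leaf cJ2404) (BT.leaf cJ2405)) (BT.leaf cJ2406)) (BT.node 2407 (BT.leaf cJ2407) (BT.leaf cJ2408)))) (BT.node 2413 (BT.node 2411 (BT.node 2410 (BT.node 2409 (BT.leaf cJ2409) (BT.leaf cJ2410)) (BT.leaf cJ2411)) (BT.node 2412 (BT.leaf cJ2412) (BT.leaf cJ2413))) (BT.node 2416 (BT.node 2415 (BT.node 2414 (BT.leaf cJ2414) (BT.leaf cJ2415)) (BT.leaf cJ2416)) (BT.node 2417 (BT.leaf cJ2417) (BT.leaf cJ2418))))) (BT.node 2428 (BT.node 2423 (BT.node 2421 (BT.node 2420 (BT.node 2419 (BT.leaf cJ2419) (BT.leaf cJ2420)) (BT.leaf cJ2421)) (BT.node 2422 (BT.leaf cJ2422) (BT.leaf cJ2423))) (BT.node 2426 (BT.node 2425 (BT.node 2424 (BT.leaf cJ2424) (BT.leaf cJ2425)) (BT.leaf cJ2426)) (BT.node 2427 (BT.leaf cJ2427) (BT.leaf cJ2428)))) (BT.node 2433 (BT.node 2431 (BT.node 2430 (BT.node 2429 (BT.leaf cJ2429) (BT.leaf cJ2430)) (BT.leaf cJ2431)) (BT.node 2432 (BT.leaf cJ2432) (BT.leaf cJ2433))) (BT.node 2436 (BT.node 2435 (BT.node 2434 (BT.leaf cJ2434) (BT.leaf cJ2435)) (BT.leaf cJ2436)) (BT.node 2437 (BT.leaf cJ2437) (BT.leaf cJ2438)))))) (BT.node 2459 (BT.node 2449 (BT.node 2444 (BT.node 2441 (BT.node 2440 (BT.node 2439 (BT.leaf cJ2439) (BT.leaf cJ2440)) (BT.leaf cJ2441)) (BT.node 2443 (BT.node 2442 (BT.leaf cJ2442) (BT.leaf cJ2443)) (BT.leaf cJ2444))) (BT.node 2447 (BT.node 2446 (BT.node 2445 (BT.leaf cJ2445) (BT.leaf cJ2446)) (BT.leaf cJ2447)) (BT.node 2448 (BT.leaf cJ2448) (BT.leaf cJ2449)))) (BT.node 2454 (BT.node 2452 (BT.node 2451 (BT.node 2450 (BT.leaf cJ2450) (BT.leaf cJ2451)) (BT.leaf cJ2452)) (BT.node 2453 (BT.leaf cJ2453) (BT.leaf cJ2454))) (BT.node 2457 (BT.node 2456 (BT.node 2455 (BT.leaf cJ2455) (BT.leaf cJ2456)) (BT.leaf cJ2457)) (BT.node 2458 (BT.leaf cJ2458) (BT.leaf cJ2459))))) (BT.node 2469 (BT.node 2464 (BT.node 2462 (BT.node 2461 (BT.node 2460 (BT.leaf cJ2460) (BT.leaf cJ2461)) (BT.leaf cJ2462)) (BT.node 2463 (BT.leaf cJ2463) (BT.leaf cJ2464))) (BT.node 2467 (BT.node 2466 (BT.node 2465 (BT.leaf cJ2465) (BT.leaf cJ2466)) (BT.leaf cJ2467)) (BT.node 2468 (BT.leaf cJ2468) (BT.leaf cJ2469)))) (BT.node 2474 (BT.node 2472 (BT.node 2471 (BT.node 2470 (BT.leaf cJ2470) (BT.leaf cJ2471)) (BT.leaf cJ2472)) (BT.node 2473 (BT.leaf cJ2473) (BT.leaf cJ2474))) (BT.node 2477 (BT.node 2476 (BT.node 2475 (BT.leaf cJ2475) (BT.leaf cJ2476)) (BT.leaf cJ2477)) (BT.node 2478 (BT.leaf cJ2478) (BT.leaf cJ2479)))))))) (BT.node 2562 (BT.node 2521 (BT.node 2500 (BT.node 2490 (BT.node 2485 (BT.node 2482 (BT.node 2481 (BT.node 2480 (BT.leaf cJ2480) (BT.leaf cJ2481)) (BT.leaf cJ2482)) (BT.node 2484 (BT.node 2483 (BT.leaf cJ2483) (BT.leaf cJ2484)) (BT.leaf cJ2485))) (BT.node 2488 (BT.node 2487 (BT.node 2486 (BT.leaf cJ2486) (BT.leaf cJ2487)) (BT.leaf cJ2488)) (BT.node 2489 (BT.leaf cJ2489) (BT.leaf cJ2490)))) (BT.node 2495 (BT.node 2493 (BT.node 2492 (BT.node 2491 (BT.leaf cJ2491) (BT.leaf cJ2492)) (BT.leaf cJ2493)) (BT.node 2494 (BT.leaf cJ2494) (BT.leaf cJ2495))) (BT.node 2498 (BT.node 2497 (BT.node 2496 (BT.leaf cJ2496) (BT.leaf cJ2497)) (BT.leaf cJ2498)) (BT.node 2499 (BT.leaf cJ2499) (BT.leaf cJ2500))))) (BT.node 2511 (BT.node 2506 (BT.node 2503 (BT.node 2502 (BT.node 2501 (BT.leaf cJ2501) (BT.leaf cJ2502)) (BT.leaf cJ2503)) (BT.node 2505 (BT.node 2504 (BT.leaf cJ2504) (BT.leaf cJ2505)) (BT.leaf cJ2506))) (BT.node 2509 (BT.node 2508 (BT.node 2507 (BT.leaf cJ2507) (BT.leaf cJ2508)) (BT.leaf cJ2509)) (BT.node 2510 (BT.leaf cJ2510) (BT.leaf cJ2511)))) (BT.node 2516 (BT.node 2514 (BT.node 2513 (BT.node 2512 (BT.leaf cJ2512) (BT.leaf cJ2513)) (BT.leaf cJ2514)) (BT.node 2515 (BT.leaf cJ2515) (BT.leaf cJ2516))) (BT.node 2519 (BT.node 2518 (BT.node 2517 (BT.leaf cJ2517) (BT.leaf cJ2518)) (BT.leaf cJ2519)) (BT.node 2520 (BT.leaf cJ2520) (BT.leaf cJ2521)))))) (BT.node 2542 (BT.node 2532 (BT.node 2527 (BT.node 2524 (BT.node 2523 (BT.node 2522 (BT.leaf cJ2522) (BT.leaf cJ2523)) (BT.leaf cJ2524)) (BT.node 2526 (BT.node 2525 (BT.leaf cJ2525) (BT.leaf cJ2526)) (BT.leaf cJ2527))) (BT.node 2530 (BT.node 2529 (BT.node 2528 (BT.leaf cJ2528) (BT.leaf cJ2529)) (BT.leaf cJ2530)) (BT.node 2531 (BT.leaf cJ2531) (BT.leaf cJ2532)))) (BT.node 2537 (BT.node 2535 (BT.node 2534 (BT.node 2533 (BT.leaf cJ2533) (BT.leaf cJ2534)) (BT.leaf cJ2535)) (BT.node 2536 (BT.leaf cJ2536) (BT.leaf cJ2537))) (BT.node 2540 (BT.node 2539 (BT.node 2538 (BT.leaf cJ2538) (BT.leaf cJ2539)) (BT.leaf cJ2540)) (BT.node 2541 (BT.leaf cJ2541) (BT.leaf cJ2542))))) (BT.node 2552 (BT.node 2547 (BT.node 2545 (BT.node 2544 (BT.node 2543 (BT.leaf cJ2543) (BT.leaf cJ2544)) (BT.leaf cJ2545)) (BT.node 2546 (BT.leaf cJ2546) (BT.leaf cJ2547))) (BT.node 2550 (BT.node 2549 (BT.node 2548 (BT.leaf cJ2548) (BT.leaf cJ2549)) (BT.leaf cJ2550)) (BT.node 2551 (BT.leaf cJ2551) (BT.leaf cJ2552)))) (BT.node 2557 (BT.node 2555 (BT.node 2554 (BT.node 2553 (BT.leaf cJ2553) (BT.leaf cJ2554)) (BT.leaf cJ2555)) (BT.node 2556 (BT.leaf cJ2556) (BT.leaf cJ2557))) (BT.node 2560 (BT.node 2559 (BT.node 2558 (BT.leaf cJ2558) (BT.leaf cJ2559)) (BT.leaf cJ2560)) (BT.node 2561 (BT.leaf cJ2561) (BT.leaf cJ2562))))))) (BT.node 2603 (BT.node 2583 (BT.node 2573 (BT.node 2568 (BT.node 2565 (BT.node 2564 (BT.node 2563 (BT.leaf cJ2563) (BT.leaf cJ2564)) (BT.leaf cJ2565)) (BT.node 2567 (BT.node 2566 (BT.leaf cJ2566) (BT.leaf cJ2567)) (BT.leaf cJ2568))) (BT.node 2571 (BT.node 2570 (BT.node 2569 (BT.leaf cJ2569) (BT.leaf cJ2570)) (BT.leaf cJ2571)) (BT.node 2572 (BT.leaf cJ2572) (BT.leaf cJ2573)))) (BT.node 2578 (BT.node 2576 (BT.node 2575 (BT.node 2574 (BT.leaf cJ2574) (BT.leaf cJ2575)) (BT.leaf cJ2576)) (BT.node 2577 (BT.leaf cJ2577) (BT.leaf cJ2578))) (BT.node 2581 (BT.node 2580 (BT.node 2579 (BT.leaf cJ2579) (BT.leaf cJ2580)) (BT.leaf cJ2581)) (BT.node 2582 (BT.leaf cJ2582) (BT.leaf cJ2583))))) (BT.node 2593 (BT.node 2588 (BT.node 2586 (BT.node 2585 (BT.node 2584 (BT.leaf cJ2584) (BT.leaf cJ2585)) (BT.leaf cJ2586)) (BT.node 2587 (BT.leaf cJ2587) (BT.leaf cJ2588))) (BT.node 2591 (BT.node 2590 (BT.node 2589 (BT.leaf cJ2589) (BT.leaf cJ2590)) (BT.leaf cJ2591)) (BT.node 2592 (BT.leaf cJ2592) (BT.leaf cJ2593)))) (BT.node 2598 (BT.node 2596 (BT.node 2595 (BT.node 2594 (BT.leaf cJ2594) (BT.leaf cJ2595)) (BT.leaf cJ2596)) (BT.node 2597 (BT.leaf cJ2597) (BT.leaf cJ2598))) (BT.node 2601 (BT.node 2600 (BT.node 2599 (BT.leaf cJ2599) (BT.leaf cJ2600)) (BT.leaf cJ2601)) (BT.node 2602 (BT.leaf cJ2602) (BT.leaf cJ2603)))))) (BT.node 2624 (BT.node 2614 (BT.node 2609 (BT.node 2606 (BT.node 2605 (BT.node 2604 (BT.leaf cJ2604) (BT.leaf cJ2605)) (BT.leaf cJ2606)) (BT.node 2608 (BT.node 2607 (BT.leaf cJ2607) (BT.leaf cJ2608)) (BT.leaf cJ2609))) (BT.node 2612 (BT.node 2611 (BT.node 2610 (BT.leaf cJ2610) (BT.leaf cJ2611)) (BT.leaf cJ2612)) (BT.node 2613 (BT.leaf cJ2613) (BT.leaf cJ2614)))) (BT.node 2619 (BT.node 2617 (BT.node 2616 (BT.node 2615 (BT.leaf cJ2615) (BT.leaf cJ2616)) (BT.leaf cJ2617)) (BT.node 2618 (BT.leaf cJ2618) (BT.leaf cJ2619))) (BT.node 2622 (BT.node 2621 (BT.node 2620 (BT.leaf cJ2620) (BT.leaf cJ2621)) (BT.leaf cJ2622)) (BT.node 2623 (BT.leaf cJ2623) (BT.leaf cJ2624))))) (BT.node 2634 (BT.node 2629 (BT.node 2627 (BT.node 2626 (BT.node 2625 (BT.leaf cJ2625) (BT.leaf cJ2626)) (BT.leaf cJ2627)) (BT.node 2628 (BT.leaf cJ2628) (BT.leaf cJ2629))) (BT.node 2632 (BT.node 2631 (BT.node 2630 (BT.leaf cJ2630) (BT.leaf cJ2631)) (BT.leaf cJ2632)) (BT.node 2633 (BT.leaf cJ2633) (BT.leaf cJ2634)))) (BT.node 2639 (BT.node 2637 (BT.node 2636 (BT.node 2635 (BT.leaf cJ2635) (BT.leaf cJ2636)) (BT.leaf cJ2637)) (BT.node 2638 (BT.leaf cJ2638) (BT.leaf cJ2639))) (BT.node 2642 (BT.node 2641 (BT.node 2640 (BT.leaf cJ2640) (BT.leaf cJ2641)) (BT.leaf cJ2642)) (BT.node 2643 (BT.leaf cJ2643) (BT.leaf cJ2644)))))))))))) (BT.node 3967 (BT.node 3306 (BT.node 2975 (BT.node 2810 (BT.node 2727 (BT.node 2686 (BT.node 2665 (BT.node 2655 (BT.node 2650 (BT.node 2647 (BT.node 2646 (BT.node 2645 (BT.leaf cJ2645) (BT.leaf cJ2646)) (BT.leaf cJ2647)) (BT.node 2649 (BT.node 2648 (BT.leaf cJ2648) (BT.leaf cJ2649)) (BT.leaf cJ2650))) (BT.node 2653 (BT.node 2652 (BT.node 2651 (BT.leaf cJ2651) (BT.leaf cJ2652)) (BT.leaf cJ2653)) (BT.node 2654 (BT.leaf cJ2654) (BT.leaf cJ2655)))) (BT.node 2660 (BT.node 2658 (BT.node 2657 (BT.node 2656 (BT.leaf cJ2656) (BT.leaf cJ2657)) (BT.leaf cJ2658)) (BT.node 2659 (BT.leaf cJ2659) (BT.leaf cJ2660))) (BT.node 2663 (BT.node 2662 (BT.node 2661 (BT.leaf cJ2661) (BT.leaf cJ2662)) (BT.leaf cJ2663)) (BT.node 2664 (BT.leaf cJ2664) (BT.leaf cJ2665))))) (BT.node 2676 (BT.node 2671 (BT.node 2668 (BT.node 2667 (BT.node 2666 (BT.leaf cJ2666) (BT.leaf cJ2667)) (BT.leaf cJ2668)) (BT.node 2670 (BT.node 2669 (BT.leaf cJ2669) (BT.leaf cJ2670)) (BT.leaf cJ2671))) (BT.node 2674 (BT.node 2673 (BT.node 2672 (BT.leaf cJ2672) (BT.leaf cJ2673)) (BT.leaf cJ2674)) (BT.node 2675 (BT.leaf cJ2675) (BT.leaf cJ2676)))) (BT.node 2681 (BT.node 2679 (BT.node 2678 (BT.node 2677 (BT.leaf cJ2677) (BT.leaf cJ2678)) (BT.leaf cJ2679)) (BT.node 2680 (BT.leaf cJ2680) (BT.leaf cJ2681))) (BT.node 2684 (BT.node 2683 (BT.node 2682 (BT.leaf cJ2682) (BT.leaf cJ2683)) (BT.leaf cJ2684)) (BT.node 2685 (BT.leaf cJ2685) (BT.leaf cJ2686)))))) (BT.node 2707 (BT.node 2697 (BT.node 2692 (BT.node 2689 (BT.node 2688 (BT.node 2687 (BT.leaf cJ2687) (BT.leaf cJ2688)) (BT.leaf cJ2689)) (BT.node 2691 (BT.node 2690 (BT.leaf cJ2690) (BT.leaf cJ2691)) (BT.leaf cJ2692))) (BT.node 2695 (BT.node 2694 (BT.node 2693 (BT.leaf cJ2693) (BT.leaf cJ2694)) (BT.leaf cJ2695)) (BT.node 2696 (BT.leaf cJ2696) (BT.leaf cJ2697)))) (BT.node 2702 (BT.node 2700 (BT.node 2699 (BT.node 2698 (BT.leaf cJ2698) (BT.leaf cJ2699)) (BT.leaf cJ2700)) (BT.node 2701 (BT.leaf cJ2701) (BT.leaf cJ2702))) (BT.node 2705 (BT.node 2704 (BT.node 2703 (BT.leaf cJ2703) (BT.leaf cJ2704)) (BT.leaf cJ2705)) (BT.node 2706 (BT.leaf cJ2706) (BT.leaf cJ2707))))) (BT.node 2717 (BT.node 2712 (BT.node 2710 (BT.node 2709 (BT.node 2708 (BT.leaf cJ2708) (BT.leaf cJ2709)) (BT.leaf cJ2710)) (BT.node 2711 (BT.leaf cJ2711) (BT.leaf cJ2712))) (BT.node 2715 (BT.node 2714 (BT.node 2713 (BT.leaf cJ2713) (BT.leaf cJ2714)) (BT.leaf cJ2715)) (BT.node 2716 (BT.leaf cJ2716) (BT.leaf cJ2717)))) (BT.node 2722 (BT.node 2720 (BT.node 2719 (BT.node 2718 (BT.leaf cJ2718) (BT.leaf cJ2719)) (BT.leaf cJ2720)) (BT.node 2721 (BT.leaf cJ2721) (BT.leaf cJ2722))) (BT.node 2725 (BT.node 2724 (BT.node 2723 (BT.leaf cJ2723) (BT.leaf cJ2724)) (BT.leaf cJ2725)) (BT.node 2726 (BT.leaf cJ2726) (BT.leaf cJ2727))))))) (BT.node 2769 (BT.node 2748 (BT.node 2738 (BT.node 2733 (BT.node 2730 (BT.node 2729 (BT.node 2728 (BT.leaf cJ2728) (BT.leaf cJ2729)) (BT.leaf cJ2730)) (BT.node 2732 (BT.node 2731 (BT.leaf cJ2731) (BT.leaf cJ2732)) (BT.leaf cJ2733))) (BT.node 2736 (BT.node 2735 (BT.node 2734 (BT.leaf cJ2734) (BT.leaf cJ2735)) (BT.leaf cJ2736)) (BT.node 2737 (BT.leaf cJ2737) (BT.leaf cJ2738)))) (BT.node 2743 (BT.node 2741 (BT.node 2740 (BT.node 2739 (BT.leaf cJ2739) (BT.leaf cJ2740)) (BT.leaf cJ2741)) (BT.node 2742 (BT.leaf cJ2742) (BT.leaf cJ2743))) (BT.node 2746 (BT.node 2745 (BT.node 2744 (BT.leaf cJ2744) (BT.leaf cJ2745)) (BT.leaf cJ2746)) (BT.node 2747 (BT.leaf cJ2747) (BT.leaf cJ2748))))) (BT.node 2759 (BT.node 2754 (BT.node 2751 (BT.node 2750 (BT.node 2749 (BT.leaf cJ2749) (BT.leaf cJ2750)) (BT.leaf cJ2751)) (BT.node 2753 (BT.node 2752 (BT.leaf cJ2752) (BT.leaf cJ2753)) (BT.leaf cJ2754))) (BT.node 2757 (BT.node 2756 (BT.node 2755 (BT.leaf cJ2755) (BT.leaf cJ2756)) (BT.leaf cJ2757)) (BT.node 2758 (BT.leaf cJ2758) (BT.leaf cJ2759)))) (BT.node 2764 (BT.node 2762 (BT.node 2761 (BT.node 2760 (BT.leaf cJ2760) (BT.leaf cJ2761)) (BT.leaf cJ2762)) (BT.node 2763 (BT.leaf cJ2763) (BT.leaf cJ2764))) (BT.node 2767 (BT.node 2766 (BT.node 2765 (BT.leaf cJ2765) (BT.leaf cJ2766)) (BT.leaf cJ2767)) (BT.node 2768 (BT.leaf cJ2768) (BT.leaf cJ2769)))))) (BT.node 2790 (BT.node 2780 (BT.node 2775 (BT.node 2772 (BT.node 2771 (BT.node 2770 (BT.leaf cJ2770) (BT.leaf cJ2771)) (BT.leaf cJ2772)) (BT.node 2774 (BT.node 2773 (BT.leaf cJ2773) (BT.leaf cJ2774)) (BT.leaf cJ2775))) (BT.node 2778 (BT.node 2777 (BT.node 2776 (BT.leaf cJ2776) (BT.leaf cJ2777)) (BT.leaf cJ2778)) (BT.node 2779 (BT.leaf cJ2779) (BT.leaf cJ2780)))) (BT.node 2785 (BT.node 2783 (BT.node 2782 (BT.node 2781 (BT.leaf cJ2781) (BT.leaf cJ2782)) (BT.leaf cJ2783)) (BT.node 2784 (BT.leaf cJ2784) (BT.leaf cJ2785))) (BT.node 2788 (BT.node 2787 (BT.node 2786 (BT.leaf cJ2786) (BT.leaf cJ2787)) (BT.leaf cJ2788)) (BT.node 2789 (BT.leaf cJ2789) (BT.leaf cJ2790))))) (BT.node 2800 (BT.node 2795 (BT.node 2793 (BT.node 2792 (BT.node 2791 (BT.leaf cJ2791) (BT.leaf cJ2792)) (BT.leaf cJ2793)) (BT.node 2794 (BT.leaf cJ2794) (BT.leaf cJ2795))) (BT.node 2798 (BT.node 2797 (BT.node 2796 (BT.leaf cJ2796) (BT.leaf cJ2797)) (BT.leaf cJ2798)) (BT.node 2799 (BT.leaf cJ2799) (BT.leaf cJ2800)))) (BT.node 2805 (BT.node 2803 (BT.node 2802 (BT.node 2801 (BT.leaf cJ2801) (BT.leaf cJ2802)) (BT.leaf cJ2803)) (BT.node 2804 (BT.leaf cJ2804) (BT.leaf cJ2805))) (BT.node 2808 (BT.node 2807 (BT.node 2806 (BT.leaf cJ2806) (BT.leaf cJ2807)) (BT.leaf cJ2808)) (BT.node 2809 (BT.leaf cJ2809) (BT.leaf cJ2810)))))))) (BT.node 2893 (BT.node 2852 (BT.node 2831 (BT.node 2821 (BT.node 2816 (BT.node 2813 (BT.node 2812 (BT.node 2811 (BT.leaf cJ2811) (BT.leaf cJ2812)) (BT.leaf cJ2813)) (BT.node 2815 (BT.node 2814 (BT.leaf cJ2814) (BT.leaf cJ2815)) (BT.leaf cJ2816))) (BT.node 2819 (BT.node 2818 (BT.node 2817 (BT.leaf cJ2817) (BT.leaf cJ2818)) (BT.leaf cJ2819)) (BT.node 2820 (BT.leaf cJ2820) (BT.leaf cJ2821)))) (BT.node 2826 (BT.node 2824 (BT.node 2823 (BT.node 2822 (BT.leaf cJ2822) (BT.leaf cJ2823)) (BT.leaf cJ2824)) (BT.node 2825 (BT.leaf cJ2825) (BT.leaf cJ2826))) (BT.node 2829 (BT.node 2828 (BT.node 2827 (BT.leaf cJ2827) (BT.leaf cJ2828)) (BT.leaf cJ2829)) (BT.node 2830 (BT.leaf cJ2830) (BT.leaf cJ2831))))) (BT.node 2842 (BT.node 2837 (BT.node 2834 (BT.node 2833 (BT.node 2832 (BT.leaf cJ2832) (BT.leaf cJ2833)) (BT.leaf cJ2834)) (BT.node 2836 (BT.node 2835 (BT.leaf cJ2835) (BT.leaf cJ2836)) (BT.leaf cJ2837))) (BT.node 2840 (BT.node 2839 (BT.node 2838 (BT.leaf cJ2838) (BT.leaf cJ2839)) (BT.leaf cJ2840)) (BT.node 2841 (BT.leaf cJ2841) (BT.leaf cJ2842)))) (BT.node 2847 (BT.node 2845 (BT.node 2844 (BT.node 2843 (BT.leaf cJ2843) (BT.leaf cJ2844)) (BT.leaf cJ2845)) (BT.node 2846 (BT.leaf cJ2846) (BT.leaf cJ2847))) (BT.node 2850 (BT.node 2849 (BT.node 2848 (BT.leaf cJ2848) (BT.leaf cJ2849)) (BT.leaf cJ2850)) (BT.node 2851 (BT.leaf cJ2851) (BT.leaf cJ2852)))))) (BT.node 2873 (BT.node 2863 (BT.node 2858 (BT.node 2855 (BT.node 2854 (BT.node 2853 (BT.leaf cJ2853) (BT.leaf cJ2854)) (BT.leaf cJ2855)) (BT.node 2857 (BT.node 2856 (BT.leaf cJ2856) (BT.leaf cJ2857)) (BT.leaf cJ2858))) (BT.node 2861 (BT.node 2860 (BT.node 2859 (BT.leaf cJ2859) (BT.leaf cJ2860)) (BT.leaf cJ2861)) (BT.node 2862 (BT.leaf cJ2862) (BT.leaf cJ2863)))) (BT.node 2868 (BT.node 2866 (BT.node 2865 (BT.node 2864 (BT.leaf cJ2864) (BT.leaf cJ2865)) (BT.leaf cJ2866)) (BT.node 2867 (BT.leaf cJ2867) (BT.leaf cJ2868))) (BT.node 2871 (BT.node 2870 (BT.node 2869 (BT.leaf cJ2869) (BT.leaf cJ2870)) (BT.leaf cJ2871)) (BT.node 2872 (BT.leaf cJ2872) (BT.leaf cJ2873))))) (BT.node 2883 (BT.node 2878 (BT.node 2876 (BT.node 2875 (BT.node 2874 (BT.leaf cJ2874) (BT.leaf cJ2875)) (BT.leaf cJ2876)) (BT.node 2877 (BT.leaf cJ2877) (BT.leaf cJ2878))) (BT.node 2881 (BT.node 2880 (BT.node 2879 (BT.leaf cJ2879) (BT.leaf cJ2880)) (BT.leaf cJ2881)) (BT.node 2882 (BT.leaf cJ2882) (BT.leaf cJ2883)))) (BT.node 2888 (BT.node 2886 (BT.node 2885 (BT.node 2884 (BT.leaf cJ2884) (BT.leaf cJ2885)) (BT.leaf cJ2886)) (BT.node 2887 (BT.leaf cJ2887) (BT.leaf cJ2888))) (BT.node 2891 (BT.node 2890 (BT.node 2889 (BT.leaf cJ2889) (BT.leaf cJ2890)) (BT.leaf cJ2891)) (BT.node 2892 (BT.leaf cJ2892) (BT.leaf cJ2893))))))) (BT.node 2934 (BT.node 2914 (BT.node 2904 (BT.node 2899 (BT.node 2896 (BT.node 2895 (BT.node 2894 (BT.leaf cJ2894) (BT.leaf cJ2895)) (BT.leaf cJ2896)) (BT.node 2898 (BT.node 2897 (BT.leaf cJ2897) (BT.leaf cJ2898)) (BT.leaf cJ2899))) (BT.node 2902 (BT.node 2901 (BT.node 2900 (BT.leaf cJ2900) (BT.leaf cJ2901)) (BT.leaf cJ2902)) (BT.node 2903 (BT.leaf cJ2903) (BT.leaf cJ2904)))) (BT.node 2909 (BT.node 2907 (BT.node 2906 (BT.node 2905 (BT.leaf cJ2905) (BT.leaf cJ2906)) (BT.leaf cJ2907)) (BT.node 2908 (BT.leaf cJ2908) (BT.leaf cJ2909))) (BT.node 2912 (BT.node 2911 (BT.node 2910 (BT.leaf cJ2910) (BT.leaf cJ2911)) (BT.leaf cJ2912)) (BT.node 2913 (BT.leaf cJ2913) (BT.leaf cJ2914))))) (BT.node 2924 (BT.node 2919 (BT.node 2917 (BT.node 2916 (BT.node 2915 (BT.leaf cJ2915) (BT.leaf cJ2916)) (BT.leaf cJ2917)) (BT.node 2918 (BT.leaf cJ2918) (BT.leaf cJ2919))) (BT.node 2922 (BT.node 2921 (BT.node 2920 (BT.leaf cJ2920) (BT.leaf cJ2921)) (BT.leaf cJ2922)) (BT.node 2923 (BT.leaf cJ2923) (BT.leaf cJ2924)))) (BT.node 2929 (BT.node 2927 (BT.node 2926 (BT.node 2925 (BT.leaf cJ2925) (BT.leaf cJ2926)) (BT.leaf cJ2927)) (BT.node 2928 (BT.leaf cJ2928) (BT.leaf cJ2929))) (BT.node 2932 (BT.node 2931 (BT.node 2930 (BT.leaf cJ2930) (BT.leaf cJ2931)) (BT.leaf cJ2932)) (BT.node 2933 (BT.leaf cJ2933) (BT.leaf cJ2934)))))) (BT.node 2955 (BT.node 2945 (BT.node 2940 (BT.node 2937 (BT.node 2936 (BT.node 2935 (BT.leaf cJ2935) (BT.leaf cJ2936)) (BT.leaf cJ2937)) (BT.node 2939 (BT.node 2938 (BT.leaf cJ2938) (BT.leaf cJ2939)) (BT.leaf cJ2940))) (BT.node 2943 (BT.node 2942 (BT.node 2941 (BT.leaf cJ2941) (BT.leaf cJ2942)) (BT.leaf cJ2943)) (BT.node 2944 (BT.leaf cJ2944) (BT.leaf cJ2945)))) (BT.node 2950 (BT.node 2948 (BT.node 2947 (BT.node 2946 (BT.leaf cJ2946) (BT.leaf cJ2947)) (BT.leaf cJ2948)) (BT.node 2949 (BT.leaf cJ2949) (BT.leaf cJ2950))) (BT.node 2953 (BT.node 2952 (BT.node 2951 (BT.leaf cJ2951) (BT.leaf cJ2952)) (BT.leaf cJ2953)) (BT.node 2954 (BT.leaf cJ2954) (BT.leaf cJ2955))))) (BT.node 2965 (BT.node 2960 (BT.node 2958 (BT.node 2957 (BT.node 2956 (BT.leaf cJ2956) (BT.leaf cJ2957)) (BT.leaf cJ2958)) (BT.node 2959 (BT.leaf cJ2959) (BT.leaf cJ2960))) (BT.node 2963 (BT.node 2962 (BT.node 2961 (BT.leaf cJ2961) (BT.leaf cJ2962)) (BT.leaf cJ2963)) (BT.node 2964 (BT.leaf cJ2964) (BT.leaf cJ2965)))) (BT.node 2970 (BT.node 2968 (BT.node 2967 (BT.node 2966 (BT.leaf cJ2966) (BT.leaf cJ2967)) (BT.leaf cJ2968)) (BT.node 2969 (BT.leaf cJ2969) (BT.leaf cJ2970))) (BT.node 2973 (BT.node 2972 (BT.node 2971 (BT.leaf cJ2971) (BT.leaf cJ2972)) (BT.leaf cJ2973)) (BT.node 2974 (BT.leaf cJ2974) (BT.leaf cJ2975))))))))) (BT.node 3141 (BT.node 3058 (BT.node 3017 (BT.node 2996 (BT.node 2986 (BT.node 2981 (BT.node 2978 (BT.node 2977 (BT.node 2976 (BT.leaf cJ2976) (BT.leaf cJ2977)) (BT.leaf cJ2978)) (BT.node 2980 (BT.node 2979 (BT.leaf cJ2979) (BT.leaf cJ2980)) (BT.leaf cJ2981))) (BT.node 2984 (BT.node 2983 (BT.node 2982 (BT.leaf cJ2982) (BT.leaf cJ2983)) (BT.leaf cJ2984)) (BT.node 2985 (BT.leaf cJ2985) (BT.leaf cJ2986)))) (BT.node 2991 (BT.node 2989 (BT.node 2988 (BT.node 2987 (BT.leaf cJ2987) (BT.leaf cJ2988)) (BT.leaf cJ2989)) (BT.node 2990 (BT.leaf cJ2990) (BT.leaf cJ2991))) (BT.node 2994 (BT.node 2993 (BT.node 2992 (BT.leaf cJ2992) (BT.leaf cJ2993)) (BT.leaf cJ2994)) (BT.node 2995 (BT.leaf cJ2995) (BT.leaf cJ2996))))) (BT.node 3007 (BT.node 3002 (BT.node 2999 (BT.node 2998 (BT.node 2997 (BT.leaf cJ2997) (BT.leaf cJ2998)) (BT.leaf cJ2999)) (BT.node 3001 (BT.node 3000 (BT.leaf cJ3000) (BT.leaf cJ3001)) (BT.leaf cJ3002))) (BT.node 3005 (BT.node 3004 (BT.node 3003 (BT.leaf cJ3003) (BT.leaf cJ3004)) (BT.leaf cJ3005)) (BT.node 3006 (BT.leaf cJ3006) (BT.leaf cJ3007)))) (BT.node 3012 (BT.node 3010 (BT.node 3009 (BT.node 3008 (BT.leaf cJ3008) (BT.leaf cJ3009)) (BT.leaf cJ3010)) (BT.node 3011 (BT.leaf cJ3011) (BT.leaf cJ3012))) (BT.node 3015 (BT.node 3014 (BT.node 3013 (BT.leaf cJ3013) (BT.leaf cJ3014)) (BT.leaf cJ3015)) (BT.node 3016 (BT.leaf cJ3016) (BT.leaf cJ3017)))))) (BT.node 3038 (BT.node 3028 (BT.node 3023 (BT.node 3020 (BT.node 3019 (BT.node 3018 (BT.leaf cJ3018) (BT.leaf cJ3019)) (BT.leaf cJ3020)) (BT.node 3022 (BT.node 3021 (BT.leaf cJ3021) (BT.leaf cJ3022)) (BT.leaf cJ3023))) (BT.node 3026 (BT.node 3025 (BT.node 3024 (BT.leaf cJ3024) (BT.leaf cJ3025)) (BT.leaf cJ3026)) (BT.node 3027 (BT.leaf cJ3027) (BT.leaf cJ3028)))) (BT.node 3033 (BT.node 3031 (BT.node 3030 (BT.node 3029 (BT.leaf cJ3029) (BT.leaf cJ3030)) (BT.leaf cJ3031)) (BT.node 3032 (BT.leaf cJ3032) (BT.leaf cJ3033))) (BT.node 3036 (BT.node 3035 (BT.node 3034 (BT.leaf cJ3034) (BT.leaf cJ3035)) (BT.leaf cJ3036)) (BT.node 3037 (BT.leaf cJ3037) (BT.leaf cJ3038))))) (BT.node 3048 (BT.node 3043 (BT.node 3041 (BT.node 3040 (BT.node 3039 (BT.leaf cJ3039) (BT.leaf cJ3040)) (BT.leaf cJ3041)) (BT.node 3042 (BT.leaf cJ3042) (BT.leaf cJ3043))) (BT.node 3046 (BT.node 3045 (BT.node 3044 (BT.leaf cJ3044) (BT.leaf cJ3045)) (BT.leaf cJ3046)) (BT.node 3047 (BT.leaf cJ3047) (BT.leaf cJ3048)))) (BT.node 3053 (BT.node 3051 (BT.node 3050 (BT.node 3049 (BT.leaf cJ3049) (BT.leaf cJ3050)) (BT.leaf cJ3051)) (BT.node 3052 (BT.leaf cJ3052) (BT.leaf cJ3053))) (BT.node 3056 (BT.node 3055 (BT.node 3054 (BT.leaf cJ3054) (BT.leaf cJ3055)) (BT.leaf cJ3056)) (BT.node 3057 (BT.leaf cJ3057) (BT.leaf cJ3058))))))) (BT.node 3100 (BT.node 3079 (BT.node 3069 (BT.node 3064 (BT.node 3061 (BT.node 3060 (BT.node 3059 (BT.leaf cJ3059) (BT.leaf cJ3060)) (BT.leaf cJ3061)) (BT.node 3063 (BT.node 3062 (BT.leaf cJ3062) (BT.leaf cJ3063)) (BT.leaf cJ3064))) (BT.node 3067 (BT.node 3066 (BT.node 3065 (BT.leaf cJ3065) (BT.leaf cJ3066)) (BT.leaf cJ3067)) (BT.node 3068 (BT.leaf cJ3068) (BT.leaf cJ3069)))) (BT.node 3074 (BT.node 3072 (BT.node 3071 (BT.node 3070 (BT.leaf cJ3070) (BT.leaf cJ3071)) (BT.leaf cJ3072)) (BT.node 3073 (BT.leaf cJ3073) (BT.leaf cJ3074))) (BT.node 3077 (BT.node 3076 (BT.node 3075 (BT.leaf cJ3075) (BT.leaf cJ3076)) (BT.leaf cJ3077)) (BT.node 3078 (BT.leaf cJ3078) (BT.leaf cJ3079))))) (BT.node 3090 (BT.node 3085 (BT.node 3082 (BT.node 3081 (BT.node 3080 (BT.leaf cJ3080) (BT.leaf cJ3081)) (BT.leaf cJ3082)) (BT.node 3084 (BT.node 3083 (BT.leaf cJ3083) (BT.leaf cJ3084)) (BT.leaf cJ3085))) (BT.node 3088 (BT.node 3087 (BT.node 3086 (BT.leaf cJ3086) (BT.leaf cJ3087)) (BT.leaf cJ3088)) (BT.node 3089 (BT.leaf cJ3089) (BT.leaf cJ3090)))) (BT.node 3095 (BT.node 3093 (BT.node 3092 (BT.node 3091 (BT.leaf cJ3091) (BT.leaf cJ3092)) (BT.leaf cJ3093)) (BT.node 3094 (BT.leaf cJ3094) (BT.leaf cJ3095))) (BT.node 3098 (BT.node 3097 (BT.node 3096 (BT.leaf cJ3096) (BT.leaf cJ3097)) (BT.leaf cJ3098)) (BT.node 3099 (BT.leaf cJ3099) (BT.leaf cJ3100)))))) (BT.node 3121 (BT.node 3111 (BT.node 3106 (BT.node 3103 (BT.node 3102 (BT.node 3101 (BT.leaf cJ3101) (BT.leaf cJ3102)) (BT.leaf cJ3103)) (BT.node 3105 (BT.node 3104 (BT.leaf cJ3104) (BT.leaf cJ3105)) (BT.leaf cJ3106))) (BT.node 3109 (BT.node 3108 (BT.node 3107 (BT.leaf cJ3107) (BT.leaf cJ3108)) (BT.leaf cJ3109)) (BT.node 3110 (BT.leaf cJ3110) (BT.leaf cJ3111)))) (BT.node 3116 (BT.node 3114 (BT.node 3113 (BT.node 3112 (BT.leaf cJ3112) (BT.leaf cJ3113)) (BT.leaf cJ3114)) (BT.node 3115 (BT.leaf cJ3115) (BT.leaf cJ3116))) (BT.node 3119 (BT.node 3118 (BT.node 3117 (BT.leaf cJ3117) (BT.leaf cJ3118)) (BT.leaf cJ3119)) (BT.node 3120 (BT.leaf cJ3120) (BT.leaf cJ3121))))) (BT.node 3131 (BT.node 3126 (BT.node 3124 (BT.node 3123 (BT.node 3122 (BT.leaf cJ3122) (BT.leaf cJ3123)) (BT.leaf cJ3124)) (BT.node 3125 (BT.leaf cJ3125) (BT.leaf cJ3126))) (BT.node 3129 (BT.node 3128 (BT.node 3127 (BT.leaf cJ3127) (BT.leaf cJ3128)) (BT.leaf cJ3129)) (BT.node 3130 (BT.leaf cJ3130) (BT.leaf cJ3131)))) (BT.node 3136 (BT.node 3134 (BT.node 3133 (BT.node 3132 (BT.leaf cJ3132) (BT.leaf cJ3133)) (BT.leaf cJ3134)) (BT.node 3135 (BT.leaf cJ3135) (BT.leaf cJ3136))) (BT.node 3139 (BT.node 3138 (BT.node 3137 (BT.leaf cJ3137) (BT.leaf cJ3138)) (BT.leaf cJ3139)) (BT.node 3140 (BT.leaf cJ3140) (BT.leaf cJ3141)))))))) (BT.node 3224 (BT.node 3183 (BT.node 3162 (BT.node 3152 (BT.node 3147 (BT.node 3144 (BT.node 3143 (BT.node 3142 (BT.leaf cJ3142) (BT.leaf cJ3143)) (BT.leaf cJ3144)) (BT.node 3146 (BT.node 3145 (BT.leaf cJ3145) (BT.leaf cJ3146)) (BT.leaf cJ3147))) (BT.node 3150 (BT.node 3149 (BT.node 3148 (BT.leaf cJ3148) (BT.leaf cJ3149)) (BT.leaf cJ3150)) (BT.node 3151 (BT.leaf cJ3151) (BT.leaf cJ3152)))) (BT.node 3157 (BT.node 3155 (BT.node 3154 (BT.node 3153 (BT.leaf cJ3153) (BT.leaf cJ3154)) (BT.leaf cJ3155)) (BT.node 3156 (BT.leaf cJ3156) (BT.leaf cJ3157))) (BT.node 3160 (BT.node 3159 (BT.node 3158 (BT.leaf cJ3158) (BT.leaf cJ3159)) (BT.leaf cJ3160)) (BT.node 3161 (BT.leaf cJ3161) (BT.leaf cJ3162))))) (BT.node 3173 (BT.node 3168 (BT.node 3165 (BT.node 3164 (BT.node 3163 (BT.leaf cJ3163) (BT.leaf cJ3164)) (BT.leaf cJ3165)) (BT.node 3167 (BT.node 3166 (BT.leaf cJ3166) (BT.leaf cJ3167)) (BT.leaf cJ3168))) (BT.node 3171 (BT.node 3170 (BT.node 3169 (BT.leaf cJ3169) (BT.leaf cJ3170)) (BT.leaf cJ3171)) (BT.node 3172 (BT.leaf cJ3172) (BT.leaf cJ3173)))) (BT.node 3178 (BT.node 3176 (BT.node 3175 (BT.node 3174 (BT.leaf cJ3174) (BT.leaf cJ3175)) (BT.leaf cJ3176)) (BT.node 3177 (BT.leaf cJ3177) (BT.leaf cJ3178))) (BT.node 3181 (BT.node 3180 (BT.node 3179 (BT.leaf cJ3179) (BT.leaf cJ3180)) (BT.leaf cJ3181)) (BT.node 3182 (BT.leaf cJ3182) (BT.leaf cJ3183)))))) (BT.node 3204 (BT.node 3194 (BT.node 3189 (BT.node 3186 (BT.node 3185 (BT.node 3184 (BT.leaf cJ3184) (BT.leaf cJ3185)) (BT.leaf cJ3186)) (BT.node 3188 (BT.node 3187 (BT.leaf cJ3187) (BT.leaf cJ3188)) (BT.leaf cJ3189))) (BT.node 3192 (BT.node 3191 (BT.node 3190 (BT.leaf cJ3190) (BT.leaf cJ3191)) (BT.leaf cJ3192)) (BT.node 3193 (BT.leaf cJ3193) (BT.leaf cJ3194)))) (BT.node 3199 (BT.node 3197 (BT.node 3196 (BT.node 3195 (BT.leaf cJ3195) (BT.leaf cJ3196)) (BT.leaf cJ3197)) (BT.node 3198 (BT.leaf cJ3198) (BT.leaf cJ3199))) (BT.node 3202 (BT.node 3201 (BT.node 3200 (BT.leaf cJ3200) (BT.leaf cJ3201)) (BT.leaf cJ3202)) (BT.node 3203 (BT.leaf cJ3203) (BT.leaf cJ3204))))) (BT.node 3214 (BT.node 3209 (BT.node 3207 (BT.node 3206 (BT.node 3205 (BT.leaf cJ3205) (BT.leaf cJ3206)) (BT.leaf cJ3207)) (BT.node 3208 (BT.leaf cJ3208) (BT.leaf cJ3209))) (BT.node 3212 (BT.node 3211 (BT.node 3210 (BT.leaf cJ3210) (BT.leaf cJ3211)) (BT.leaf cJ3212)) (BT.node 3213 (BT.leaf cJ3213) (BT.leaf cJ3214)))) (BT.node 3219 (BT.node 3217 (BT.node 3216 (BT.node 3215 (BT.leaf cJ3215) (BT.leaf cJ3216)) (BT.leaf cJ3217)) (BT.node 3218 (BT.leaf cJ3218) (BT.leaf cJ3219))) (BT.node 3222 (BT.node 3221 (BT.node 3220 (BT.leaf cJ3220) (BT.leaf cJ3221)) (BT.leaf cJ3222)) (BT.node 3223 (BT.leaf cJ3223) (BT.leaf cJ3224))))))) (BT.node 3265 (BT.node 3245 (BT.node 3235 (BT.node 3230 (BT.node 3227 (BT.node 3226 (BT.node 3225 (BT.leaf cJ3225) (BT.leaf cJ3226)) (BT.leaf cJ3227)) (BT.node 3229 (BT.node 3228 (BT.leaf cJ3228) (BT.leaf cJ3229)) (BT.leaf cJ3230))) (BT.node 3233 (BT.node 3232 (BT.node 3231 (BT.leaf cJ3231) (BT.leaf cJ3232)) (BT.leaf cJ3233)) (BT.node 3234 (BT.leaf cJ3234) (BT.leaf cJ3235)))) (BT.node 3240 (BT.node 3238 (BT.node 3237 (BT.node 3236 (BT.leaf cJ3236) (BT.leaf cJ3237)) (BT.leaf cJ3238)) (BT.node 3239 (BT.leaf cJ3239) (BT.leaf cJ3240))) (BT.node 3243 (BT.node 3242 (BT.node 3241 (BT.leaf cJ3241) (BT.leaf cJ3242)) (BT.leaf cJ3243)) (BT.node 3244 (BT.leaf cJ3244) (BT.leaf cJ3245))))) (BT.node 3255 (BT.node 3250 (BT.node 3248 (BT.node 3247 (BT.node 3246 (BT.leaf cJ3246) (BT.leaf cJ3247)) (BT.leaf cJ3248)) (BT.node 3249 (BT.leaf cJ3249) (BT.leaf cJ3250))) (BT.node 3253 (BT.node 3252 (BT.node 3251 (BT.leaf cJ3251) (BT.leaf cJ3252)) (BT.leaf cJ3253)) (BT.node 3254 (BT.leaf cJ3254) (BT.leaf cJ3255)))) (BT.node 3260 (BT.node 3258 (BT.node 3257 (BT.node 3256 (BT.leaf cJ3256) (BT.leaf cJ3257)) (BT.leaf cJ3258)) (BT.node 3259 (BT.leaf cJ3259) (BT.leaf cJ3260))) (BT.node 3263 (BT.node 3262 (BT.node 3261 (BT.leaf cJ3261) (BT.leaf cJ3262)) (BT.leaf cJ3263)) (BT.node 3264 (BT.leaf cJ3264) (BT.leaf cJ3265)))))) (BT.node 3286 (BT.node 3276 (BT.node 3271 (BT.node 3268 (BT.node 3267 (BT.node 3266 (BT.leaf cJ3266) (BT.leaf cJ3267)) (BT.leaf cJ3268)) (BT.node 3270 (BT.node 3269 (BT.leaf cJ3269) (BT.leaf cJ3270)) (BT.leaf cJ3271))) (BT.node 3274 (BT.node 3273 (BT.node 3272 (BT.leaf cJ3272) (BT.leaf cJ3273)) (BT.leaf cJ3274)) (BT.node 3275 (BT.leaf cJ3275) (BT.leaf cJ3276)))) (BT.node 3281 (BT.node 3279 (BT.node 3278 (BT.node 3277 (BT.leaf cJ3277) (BT.leaf cJ3278)) (BT.leaf cJ3279)) (BT.node 3280 (BT.leaf cJ3280) (BT.leaf cJ3281))) (BT.node 3284 (BT.node 3283 (BT.node 3282 (BT.leaf cJ3282) (BT.leaf cJ3283)) (BT.leaf cJ3284)) (BT.node 3285 (BT.leaf cJ3285) (BT.leaf cJ3286))))) (BT.node 3296 (BT.node 3291 (BT.node 3289 (BT.node 3288 (BT.node 3287 (BT.leaf cJ3287) (BT.leaf cJ3288)) (BT.leaf cJ3289)) (BT.node 3290 (BT.leaf cJ3290) (BT.leaf cJ3291))) (BT.node 3294 (BT.node 3293 (BT.node 3292 (BT.leaf cJ3292) (BT.leaf cJ3293)) (BT.leaf cJ3294)) (BT.node 3295 (BT.leaf cJ3295) (BT.leaf cJ3296)))) (BT.node 3301 (BT.node 3299 (BT.node 3298 (BT.node 3297 (BT.leaf cJ3297) (BT.leaf cJ3298)) (BT.leaf cJ3299)) (BT.node 3300 (BT.leaf cJ3300) (BT.leaf cJ3301))) (BT.node 3304 (BT.node 3303 (BT.node 3302 (BT.leaf cJ3302) (BT.leaf cJ3303)) (BT.leaf cJ3304)) (BT.node 3305 (BT.leaf cJ3305) (BT.leaf cJ3306)))))))))) (BT.node 3637 (BT.node 3472 (BT.node 3389 (BT.node 3348 (BT.node 3327 (BT.node 3317 (BT.node 3312 (BT.node 3309 (BT.node 3308 (BT.node 3307 (BT.leaf cJ3307) (BT.leaf cJ3308)) (BT.leaf cJ3309)) (BT.node 3311 (BT.node 3310 (BT.leaf cJ3310) (BT.leaf cJ3311)) (BT.leaf cJ3312))) (BT.node 3315 (BT.node 3314 (BT.node 3313 (BT.leaf cJ3313) (BT.leaf cJ3314)) (BT.leaf cJ3315)) (BT.node 3316 (BT.leaf cJ3316) (BT.leaf cJ3317)))) (BT.node 3322 (BT.node 3320 (BT.node 3319 (BT.node 3318 (BT.leaf cJ3318) (BT.leaf cJ3319)) (BT.leaf cJ3320)) (BT.node 3321 (BT.leaf cJ3321) (BT.leaf cJ3322))) (BT.node 3325 (BT.node 3324 (BT.node 3323 (BT.leaf cJ3323) (BT.leaf cJ3324)) (BT.leaf cJ3325)) (BT.node 3326 (BT.leaf cJ3326) (BT.leaf cJ3327))))) (BT.node 3338 (BT.node 3333 (BT.node 3330 (BT.node 3329 (BT.node 3328 (BT.leaf cJ3328) (BT.leaf cJ3329)) (BT.leaf cJ3330)) (BT.node 3332 (BT.node 3331 (BT.leaf cJ3331) (BT.leaf cJ3332)) (BT.leaf cJ3333))) (BT.node 3336 (BT.node 3335 (BT.node 3334 (BT.leaf cJ3334) (BT.leaf cJ3335)) (BT.leaf cJ3336)) (BT.node 3337 (BT.leaf cJ3337) (BT.leaf cJ3338)))) (BT.node 3343 (BT.node 3341 (BT.node 3340 (BT.node 3339 (BT.leaf cJ3339) (BT.leaf cJ3340)) (BT.leaf cJ3341)) (BT.node 3342 (BT.leaf cJ3342) (BT.leaf cJ3343))) (BT.node 3346 (BT.node 3345 (BT.node 3344 (BT.leaf cJ3344) (BT.leaf cJ3345)) (BT.leaf cJ3346)) (BT.node 3347 (BT.leaf cJ3347) (BT.leaf cJ3348)))))) (BT.node 3369 (BT.node 3359 (BT.node 3354 (BT.node 3351 (BT.node 3350 (BT.node 3349 (BT.leaf cJ3349) (BT.leaf cJ3350)) (BT.leaf cJ3351)) (BT.node 3353 (BT.node 3352 (BT.leaf cJ3352) (BT.leaf cJ3353)) (BT.leaf cJ3354))) (BT.node 3357 (BT.node 3356 (BT.node 3355 (BT.leaf cJ3355) (BT.leaf cJ3356)) (BT.leaf cJ3357)) (BT.node 3358 (BT.leaf cJ3358) (BT.leaf cJ3359)))) (BT.node 3364 (BT.node 3362 (BT.node 3361 (BT.node 3360 (BT.leaf cJ3360) (BT.leaf cJ3361)) (BT.leaf cJ3362)) (BT.node 3363 (BT.leaf cJ3363) (BT.leaf cJ3364))) (BT.node 3367 (BT.node 3366 (BT.node 3365 (BT.leaf cJ3365) (BT.leaf cJ3366)) (BT.leaf cJ3367)) (BT.node 3368 (BT.leaf cJ3368) (BT.leaf cJ3369))))) (BT.node 3379 (BT.node 3374 (BT.node 3372 (BT.node 3371 (BT.node 3370 (BT.leaf cJ3370) (BT.leaf cJ3371)) (BT.leaf cJ3372)) (BT.node 3373 (BT.leaf cJ3373) (BT.leaf cJ3374))) (BT.node 3377 (BT.node 3376 (BT.node 3375 (BT.leaf cJ3375) (BT.leaf cJ3376)) (BT.leaf cJ3377)) (BT.node 3378 (BT.leaf cJ3378) (BT.leaf cJ3379)))) (BT.node 3384 (BT.node 3382 (BT.node 3381 (BT.node 3380 (BT.leaf cJ3380) (BT.leaf cJ3381)) (BT.leaf cJ3382)) (BT.node 3383 (BT.leaf cJ3383) (BT.leaf cJ3384))) (BT.node 3387 (BT.node 3386 (BT.node 3385 (BT.leaf cJ3385) (BT.leaf cJ3386)) (BT.leaf cJ3387)) (BT.node 3388 (BT.leaf cJ3388) (BT.leaf cJ3389))))))) (BT.node 3431 (BT.node 3410 (BT.node 3400 (BT.node 3395 (BT.node 3392 (BT.node 3391 (BT.node 3390 (BT.leaf cJ3390) (BT.leaf cJ3391)) (BT.leaf cJ3392)) (BT.node 3394 (BT.node 3393 (BT.leaf cJ3393) (BT.leaf cJ3394)) (BT.leaf cJ3395))) (BT.node 3398 (BT.node 3397 (BT.node 3396 (BT.leaf cJ3396) (BT.leaf cJ3397)) (BT.leaf cJ3398)) (BT.node 3399 (BT.leaf cJ3399) (BT.leaf cJ3400)))) (BT.node 3405 (BT.node 3403 (BT.node 3402 (BT.node 3401 (BT.leaf cJ3401) (BT.leaf cJ3402)) (BT.leaf cJ3403)) (BT.node 3404 (BT.leaf cJ3404) (BT.leaf cJ3405))) (BT.node 3408 (BT.node 3407 (BT.node 3406 (BT.leaf cJ3406) (BT.leaf cJ3407)) (BT.leaf cJ3408)) (BT.node 3409 (BT.leaf cJ3409) (BT.leaf cJ3410))))) (BT.node 3421 (BT.node 3416 (BT.node 3413 (BT.node 3412 (BT.node 3411 (BT.leaf cJ3411) (BT.leaf cJ3412)) (BT.leaf cJ3413)) (BT.node 3415 (BT.node 3414 (BT.leaf cJ3414) (BT.leaf cJ3415)) (BT.leaf cJ3416))) (BT.node 3419 (BT.node 3418 (BT.node 3417 (BT.leaf cJ3417) (BT.leaf cJ3418)) (BT.leaf cJ3419)) (BT.node 3420 (BT.leaf cJ3420) (BT.leaf cJ3421)))) (BT.node 3426 (BT.node 3424 (BT.node 3423 (BT.node 3422 (BT.leaf cJ3422) (BT.leaf cJ3423)) (BT.leaf cJ3424)) (BT.node 3425 (BT.leaf cJ3425) (BT.leaf cJ3426))) (BT.node 3429 (BT.node 3428 (BT.node 3427 (BT.leaf cJ3427) (BT.leaf cJ3428)) (BT.leaf cJ3429)) (BT.node 3430 (BT.leaf cJ3430) (BT.leaf cJ3431)))))) (BT.node 3452 (BT.node 3442 (BT.node 3437 (BT.node 3434 (BT.node 3433 (BT.node 3432 (BT.leaf cJ3432) (BT.leaf cJ3433)) (BT.leaf cJ3434)) (BT.node 3436 (BT.node 3435 (BT.leaf cJ3435) (BT.leaf cJ3436)) (BT.leaf cJ3437))) (BT.node 3440 (BT.node 3439 (BT.node 3438 (BT.leaf cJ3438) (BT.leaf cJ3439)) (BT.leaf cJ3440)) (BT.node 3441 (BT.leaf cJ3441) (BT.leaf cJ3442)))) (BT.node 3447 (BT.node 3445 (BT.node 3444 (BT.node 3443 (BT.leaf cJ3443) (BT.leaf cJ3444)) (BT.leaf cJ3445)) (BT.node 3446 (BT.leaf cJ3446) (BT.leaf cJ3447))) (BT.node 3450 (BT.node 3449 (BT.node 3448 (BT.leaf cJ3448) (BT.leaf cJ3449)) (BT.leaf cJ3450)) (BT.node 3451 (BT.leaf cJ3451) (BT.leaf cJ3452))))) (BT.node 3462 (BT.node 3457 (BT.node 3455 (BT.node 3454 (BT.node 3453 (BT.leaf cJ3453) (BT.leaf cJ3454)) (BT.leaf cJ3455)) (BT.node 3456 (BT.leaf cJ3456) (BT.leaf cJ3457))) (BT.node 3460 (BT.node 3459 (BT.node 3458 (BT.leaf cJ3458) (BT.leaf cJ3459)) (BT.leaf cJ3460)) (BT.node 3461 (BT.leaf cJ3461) (BT.leaf cJ3462)))) (BT.node 3467 (BT.node 3465 (BT.node 3464 (BT.node 3463 (BT.leaf cJ3463) (BT.leaf cJ3464)) (BT.leaf cJ3465)) (BT.node 3466 (BT.leaf cJ3466) (BT.leaf cJ3467))) (BT.node 3470 (BT.node 3469 (BT.node 3468 (BT.leaf cJ3468) (BT.leaf cJ3469)) (BT.leaf cJ3470)) (BT.node 3471 (BT.leaf cJ3471) (BT.leaf cJ3472)))))))) (BT.node 3555 (BT.node 3514 (BT.node 3493 (BT.node 3483 (BT.node 3478 (BT.node 3475 (BT.node 3474 (BT.node 3473 (BT.leaf cJ3473) (BT.leaf cJ3474)) (BT.leaf cJ3475)) (BT.node 3477 (BT.node 3476 (BT.leaf cJ3476) (BT.leaf cJ3477)) (BT.leaf cJ3478))) (BT.node 3481 (BT.node 3480 (BT.node 3479 (BT.leaf cJ3479) (BT.leaf cJ3480)) (BT.leaf cJ3481)) (BT.node 3482 (BT.leaf cJ3482) (BT.leaf cJ3483)))) (BT.node 3488 (BT.node 3486 (BT.node 3485 (BT.node 3484 (BT.leaf cJ3484) (BT.leaf cJ3485)) (BT.leaf cJ3486)) (BT.node 3487 (BT.leaf cJ3487) (BT.leaf cJ3488))) (BT.node 3491 (BT.node 3490 (BT.node 3489 (BT.leaf cJ3489) (BT.leaf cJ3490)) (BT.leaf cJ3491)) (BT.node 3492 (BT.leaf cJ3492) (BT.leaf cJ3493))))) (BT.node 3504 (BT.node 3499 (BT.node 3496 (BT.node 3495 (BT.node 3494 (BT.leaf cJ3494) (BT.leaf cJ3495)) (BT.leaf cJ3496)) (BT.node 3498 (BT.node 3497 (BT.leaf cJ3497) (BT.leaf cJ3498)) (BT.leaf cJ3499))) (BT.node 3502 (BT.node 3501 (BT.node 3500 (BT.leaf cJ3500) (BT.leaf cJ3501)) (BT.leaf cJ3502)) (BT.node 3503 (BT.leaf cJ3503) (BT.leaf cJ3504)))) (BT.node 3509 (BT.node 3507 (BT.node 3506 (BT.node 3505 (BT.leaf cJ3505) (BT.leaf cJ3506)) (BT.leaf cJ3507)) (BT.node 3508 (BT.leaf cJ3508) (BT.leaf cJ3509))) (BT.node 3512 (BT.node 3511 (BT.node 3510 (BT.leaf cJ3510) (BT.leaf cJ3511)) (BT.leaf cJ3512)) (BT.node 3513 (BT.leaf cJ3513) (BT.leaf cJ3514)))))) (BT.node 3535 (BT.node 3525 (BT.node 3520 (BT.node 3517 (BT.node 3516 (BT.node 3515 (BT.leaf cJ3515) (BT.leaf cJ3516)) (BT.leaf cJ3517)) (BT.node 3519 (BT.node 3518 (BT.leaf cJ3518) (BT.leaf cJ3519)) (BT.leaf cJ3520))) (BT.node 3523 (BT.node 3522 (BT.node 3521 (BT.leaf cJ3521) (BT.leaf cJ3522)) (BT.leaf cJ3523)) (BT.node 3524 (BT.leaf cJ3524) (BT.leaf cJ3525)))) (BT.node 3530 (BT.node 3528 (BT.node 3527 (BT.node 3526 (BT.leaf cJ3526) (BT.leaf cJ3527)) (BT.leaf cJ3528)) (BT.node 3529 (BT.leaf cJ3529) (BT.leaf cJ3530))) (BT.node 3533 (BT.node 3532 (BT.node 3531 (BT.leaf cJ3531) (BT.leaf cJ3532)) (BT.leaf cJ3533)) (BT.node 3534 (BT.leaf cJ3534) (BT.leaf cJ3535))))) (BT.node 3545 (BT.node 3540 (BT.node 3538 (BT.node 3537 (BT.node 3536 (BT.leaf cJ3536) (BT.leaf cJ3537)) (BT.leaf cJ3538)) (BT.node 3539 (BT.leaf cJ3539) (BT.leaf cJ3540))) (BT.node 3543 (BT.node 3542 (BT.node 3541 (BT.leaf cJ3541) (BT.leaf cJ3542)) (BT.leaf cJ3543)) (BT.node 3544 (BT.leaf cJ3544) (BT.leaf cJ3545)))) (BT.node 3550 (BT.node 3548 (BT.node 3547 (BT.node 3546 (BT.leaf cJ3546) (BT.leaf cJ3547)) (BT.leaf cJ3548)) (BT.node 3549 (BT.leaf cJ3549) (BT.leaf cJ3550))) (BT.node 3553 (BT.node 3552 (BT.node 3551 (BT.leaf cJ3551) (BT.leaf cJ3552)) (BT.leaf cJ3553)) (BT.node 3554 (BT.leaf cJ3554) (BT.leaf cJ3555))))))) (BT.node 3596 (BT.node 3576 (BT.node 3566 (BT.node 3561 (BT.node 3558 (BT.node 3557 (BT.node 3556 (BT.leaf cJ3556) (BT.leaf cJ3557)) (BT.leaf cJ3558)) (BT.node 3560 (BT.node 3559 (BT.leaf cJ3559) (BT.leaf cJ3560)) (BT.leaf cJ3561))) (BT.node 3564 (BT.node 3563 (BT.node 3562 (BT.leaf cJ3562) (BT.leaf cJ3563)) (BT.leaf cJ3564)) (BT.node 3565 (BT.leaf cJ3565) (BT.leaf cJ3566)))) (BT.node 3571 (BT.node 3569 (BT.node 3568 (BT.node 3567 (BT.leaf cJ3567) (BT.leaf cJ3568)) (BT.leaf cJ3569)) (BT.node 3570 (BT.leaf cJ3570) (BT.leaf cJ3571))) (BT.node 3574 (BT.node 3573 (BT.node 3572 (BT.leaf cJ3572) (BT.leaf cJ3573)) (BT.leaf cJ3574)) (BT.node 3575 (BT.leaf cJ3575) (BT.leaf cJ3576))))) (BT.node 3586 (BT.node 3581 (BT.node 3579 (BT.node 3578 (BT.node 3577 (BT.leaf cJ3577) (BT.leaf cJ3578)) (BT.leaf cJ3579)) (BT.node 3580 (BT.leaf cJ3580) (BT.leaf cJ3581))) (BT.node 3584 (BT.node 3583 (BT.node 3582 (BT.leaf cJ3582) (BT.leaf cJ3583)) (BT.leaf cJ3584)) (BT.node 3585 (BT.leaf cJ3585) (BT.leaf cJ3586)))) (BT.node 3591 (BT.node 3589 (BT.node 3588 (BT.node 3587 (BT.leaf cJ3587) (BT.leaf cJ3588)) (BT.leaf cJ3589)) (BT.node 3590 (BT.leaf cJ3590) (BT.leaf cJ3591))) (BT.node 3594 (BT.node 3593 (BT.node 3592 (BT.leaf cJ3592) (BT.leaf cJ3593)) (BT.leaf cJ3594)) (BT.node 3595 (BT.leaf cJ3595) (BT.leaf cJ3596)))))) (BT.node 3617 (BT.node 3607 (BT.node 3602 (BT.node 3599 (BT.node 3598 (BT.node 3597 (BT.leaf cJ3597) (BT.leaf cJ3598)) (BT.leaf cJ3599)) (BT.node 3601 (BT.node 3600 (BT.leaf cJ3600) (BT.leaf cJ3601)) (BT.leaf cJ3602))) (BT.node 3605 (BT.node 3604 (BT.node 3603 (BT.leaf cJ3603) (BT.leaf cJ3604)) (BT.leaf cJ3605)) (BT.node 3606 (BT.leaf cJ3606) (BT.leaf cJ3607)))) (BT.node 3612 (BT.node 3610 (BT.node 3609 (BT.node 3608 (BT.leaf cJ3608) (BT.leaf cJ3609)) (BT.leaf cJ3610)) (BT.node 3611 (BT.leaf cJ3611) (BT.leaf cJ3612))) (BT.node 3615 (BT.node 3614 (BT.node 3613 (BT.leaf cJ3613) (BT.leaf cJ3614)) (BT.leaf cJ3615)) (BT.node 3616 (BT.leaf cJ3616) (BT.leaf cJ3617))))) (BT.node 3627 (BT.node 3622 (BT.node 3620 (BT.node 3619 (BT.node 3618 (BT.leaf cJ3618) (BT.leaf cJ3619)) (BT.leaf cJ3620)) (BT.node 3621 (BT.leaf cJ3621) (BT.leaf cJ3622))) (BT.node 3625 (BT.node 3624 (BT.node 3623 (BT.leaf cJ3623) (BT.leaf cJ3624)) (BT.leaf cJ3625)) (BT.node 3626 (BT.leaf cJ3626) (BT.leaf cJ3627)))) (BT.node 3632 (BT.node 3630 (BT.node 3629 (BT.node 3628 (BT.leaf cJ3628) (BT.leaf cJ3629)) (BT.leaf cJ3630)) (BT.node 3631 (BT.leaf cJ3631) (BT.leaf cJ3632))) (BT.node 3635 (BT.node 3634 (BT.node 3633 (BT.leaf cJ3633) (BT.leaf cJ3634)) (BT.leaf cJ3635)) (BT.node 3636 (BT.leaf cJ3636) (BT.leaf cJ3637))))))))) (BT.node 3802 (BT.node 3720 (BT.node 3679 (BT.node 3658 (BT.node 3648 (BT.node 3643 (BT.node 3640 (BT.node 3639 (BT.node 3638 (BT.leaf cJ3638) (BT.leaf cJ3639)) (BT.leaf cJ3640)) (BT.node 3642 (BT.node 3641 (BT.leaf cJ3641) (BT.leaf cJ3642)) (BT.leaf cJ3643))) (BT.node 3646 (BT.node 3645 (BT.node 3644 (BT.leaf cJ3644) (BT.leaf cJ3645)) (BT.leaf cJ3646)) (BT.node 3647 (BT.leaf cJ3647) (BT.leaf cJ3648)))) (BT.node 3653 (BT.node 3651 (BT.node 3650 (BT.node 3649 (BT.leaf cJ3649) (BT.leaf cJ3650)) (BT.leaf cJ3651)) (BT.node 3652 (BT.leaf cJ3652) (BT.leaf cJ3653))) (BT.node 3656 (BT.node 3655 (BT.node 3654 (BT.leaf cJ3654) (BT.leaf cJ3655)) (BT.leaf cJ3656)) (BT.node 3657 (BT.leaf cJ3657) (BT.leaf cJ3658))))) (BT.node 3669 (BT.node 3664 (BT.node 3661 (BT.node 3660 (BT.node 3659 (BT.leaf cJ3659) (BT.leaf cJ3660)) (BT.leaf cJ3661)) (BT.node 3663 (BT.node 3662 (BT.leaf cJ3662) (BT.leaf cJ3663)) (BT.leaf cJ3664))) (BT.node 3667 (BT.node 3666 (BT.node 3665 (BT.leaf cJ3665) (BT.leaf cJ3666)) (BT.leaf cJ3667)) (BT.node 3668 (BT.leaf cJ3668) (BT.leaf cJ3669)))) (BT.node 3674 (BT.node 3672 (BT.node 3671 (BT.node 3670 (BT.leaf cJ3670) (BT.leaf cJ3671)) (BT.leaf cJ3672)) (BT.node 3673 (BT.leaf cJ3673) (BT.leaf cJ3674))) (BT.node 3677 (BT.node 3676 (BT.node 3675 (BT.leaf cJ3675) (BT.leaf cJ3676)) (BT.leaf cJ3677)) (BT.node 3678 (BT.leaf cJ3678) (BT.leaf cJ3679)))))) (BT.node 3700 (BT.node 3690 (BT.node 3685 (BT.node 3682 (BT.node 3681 (BT.node 3680 (BT.leaf cJ3680) (BT.leaf cJ3681)) (BT.leaf cJ3682)) (BT.node 3684 (BT.node 3683 (BT.leaf cJ3683) (BT.leaf cJ3684)) (BT.leaf cJ3685))) (BT.node 3688 (BT.node 3687 (BT.node 3686 (BT.leaf cJ3686) (BT.leaf cJ3687)) (BT.leaf cJ3688)) (BT.node 3689 (BT.leaf cJ3689) (BT.leaf cJ3690)))) (BT.node 3695 (BT.node 3693 (BT.node 3692 (BT.node 3691 (BT.leaf cJ3691) (BT.leaf cJ3692)) (BT.leaf cJ3693)) (BT.node 3694 (BT.leaf cJ3694) (BT.leaf cJ3695))) (BT.node 3698 (BT.node 3697 (BT.node 3696 (BT.leaf cJ3696) (BT.leaf cJ3697)) (BT.leaf cJ3698)) (BT.node 3699 (BT.leaf cJ3699) (BT.leaf cJ3700))))) (BT.node 3710 (BT.node 3705 (BT.node 3703 (BT.node 3702 (BT.node 3701 (BT.leaf cJ3701) (BT.leaf cJ3702)) (BT.leaf cJ3703)) (BT.node 3704 (BT.leaf cJ3704) (BT.leaf cJ3705))) (BT.node 3708 (BT.node 3707 (BT.node 3706 (BT.leaf cJ3706) (BT.leaf cJ3707)) (BT.leaf cJ3708)) (BT.node 3709 (BT.leaf cJ3709) (BT.leaf cJ3710)))) (BT.node 3715 (BT.node 3713 (BT.node 3712 (BT.node 3711 (BT.leaf cJ3711) (BT.leaf cJ3712)) (BT.leaf cJ3713)) (BT.node 3714 (BT.leaf cJ3714) (BT.leaf cJ3715))) (BT.node 3718 (BT.node 3717 (BT.node 3716 (BT.leaf cJ3716) (BT.leaf cJ3717)) (BT.leaf cJ3718)) (BT.node 3719 (BT.leaf cJ3719) (BT.leaf cJ3720))))))) (BT.node 3761 (BT.node 3741 (BT.node 3731 (BT.node 3726 (BT.node 3723 (BT.node 3722 (BT.node 3721 (BT.leaf cJ3721) (BT.leaf cJ3722)) (BT.leaf cJ3723)) (BT.node 3725 (BT.node 3724 (BT.leaf cJ3724) (BT.leaf cJ3725)) (BT.leaf cJ3726))) (BT.node 3729 (BT.node 3728 (BT.node 3727 (BT.leaf cJ3727) (BT.leaf cJ3728)) (BT.leaf cJ3729)) (BT.node 3730 (BT.leaf cJ3730) (BT.leaf cJ3731)))) (BT.node 3736 (BT.node 3734 (BT.node 3733 (BT.node 3732 (BT.leaf cJ3732) (BT.leaf cJ3733)) (BT.leaf cJ3734)) (BT.node 3735 (BT.leaf cJ3735) (BT.leaf cJ3736))) (BT.node 3739 (BT.node 3738 (BT.node 3737 (BT.leaf cJ3737) (BT.leaf cJ3738)) (BT.leaf cJ3739)) (BT.node 3740 (BT.leaf cJ3740) (BT.leaf cJ3741))))) (BT.node 3751 (BT.node 3746 (BT.node 3744 (BT.node 3743 (BT.node 3742 (BT.leaf cJ3742) (BT.leaf cJ3743)) (BT.leaf cJ3744)) (BT.node 3745 (BT.leaf cJ3745) (BT.leaf cJ3746))) (BT.node 3749 (BT.node 3748 (BT.node 3747 (BT.leaf cJ3747) (BT.leaf cJ3748)) (BT.leaf cJ3749)) (BT.node 3750 (BT.leaf cJ3750) (BT.leaf cJ3751)))) (BT.node 3756 (BT.node 3754 (BT.node 3753 (BT.node 3752 (BT.leaf cJ3752) (BT.leaf cJ3753)) (BT.leaf cJ3754)) (BT.node 3755 (BT.leaf cJ3755) (BT.leaf cJ3756))) (BT.node 3759 (BT.node 3758 (BT.node 3757 (BT.leaf cJ3757) (BT.leaf cJ3758)) (BT.leaf cJ3759)) (BT.node 3760 (BT.leaf cJ3760) (BT.leaf cJ3761)))))) (BT.node 3782 (BT.node 3772 (BT.node 3767 (BT.node 3764 (BT.node 3763 (BT.node 3762 (BT.leaf cJ3762) (BT.leaf cJ3763)) (BT.leaf cJ3764)) (BT.node 3766 (BT.node 3765 (BT.leaf cJ3765) (BT.leaf cJ3766)) (BT.leaf cJ3767))) (BT.node 3770 (BT.node 3769 (BT.node 3768 (BT.leaf cJ3768) (BT.leaf cJ3769)) (BT.leaf cJ3770)) (BT.node 3771 (BT.leaf cJ3771) (BT.leaf cJ3772)))) (BT.node 3777 (BT.node 3775 (BT.node 3774 (BT.node 3773 (BT.leaf cJ3773) (BT.leaf cJ3774)) (BT.leaf cJ3775)) (BT.node 3776 (BT.leaf cJ3776) (BT.leaf cJ3777))) (BT.node 3780 (BT.node 3779 (BT.node 3778 (BT.leaf cJ3778) (BT.leaf cJ3779)) (BT.leaf cJ3780)) (BT.node 3781 (BT.leaf cJ3781) (BT.leaf cJ3782))))) (BT.node 3792 (BT.node 3787 (BT.node 3785 (BT.node 3784 (BT.node 3783 (BT.leaf cJ3783) (BT.leaf cJ3784)) (BT.leaf cJ3785)) (BT.node 3786 (BT.leaf cJ3786) (BT.leaf cJ3787))) (BT.node 3790 (BT.node 3789 (BT.node 3788 (BT.leaf cJ3788) (BT.leaf cJ3789)) (BT.leaf cJ3790)) (BT.node 3791 (BT.leaf cJ3791) (BT.leaf cJ3792)))) (BT.node 3797 (BT.node 3795 (BT.node 3794 (BT.node 3793 (BT.leaf cJ3793) (BT.leaf cJ3794)) (BT.leaf cJ3795)) (BT.node 3796 (BT.leaf cJ3796) (BT.leaf cJ3797))) (BT.node 3800 (BT.node 3799 (BT.node 3798 (BT.leaf cJ3798) (BT.leaf cJ3799)) (BT.leaf cJ3800)) (BT.node 3801 (BT.leaf cJ3801) (BT.leaf cJ3802)))))))) (BT.node 3885 (BT.node 3844 (BT.node 3823 (BT.node 3813 (BT.node 3808 (BT.node 3805 (BT.node 3804 (BT.node 3803 (BT.leaf cJ3803) (BT.leaf cJ3804)) (BT.leaf cJ3805)) (BT.node 3807 (BT.node 3806 (BT.leaf cJ3806) (BT.leaf cJ3807)) (BT.leaf cJ3808))) (BT.node 3811 (BT.node 3810 (BT.node 3809 (BT.leaf cJ3809) (BT.leaf cJ3810)) (BT.leaf cJ3811)) (BT.node 3812 (BT.leaf cJ3812) (BT.leaf cJ3813)))) (BT.node 3818 (BT.node 3816 (BT.node 3815 (BT.node 3814 (BT.leaf cJ3814) (BT.leaf cJ3815)) (BT.leaf cJ3816)) (BT.node 3817 (BT.leaf cJ3817) (BT.leaf cJ3818))) (BT.node 3821 (BT.node 3820 (BT.node 3819 (BT.leaf cJ3819) (BT.leaf cJ3820)) (BT.leaf cJ3821)) (BT.node 3822 (BT.leaf cJ3822) (BT.leaf cJ3823))))) (BT.node 3834 (BT.node 3829 (BT.node 3826 (BT.node 3825 (BT.node 3824 (BT.leaf cJ3824) (BT.leaf cJ3825)) (BT.leaf cJ3826)) (BT.node 3828 (BT.node 3827 (BT.leaf cJ3827) (BT.leaf cJ3828)) (BT.leaf cJ3829))) (BT.node 3832 (BT.node 3831 (BT.node 3830 (BT.leaf cJ3830) (BT.leaf cJ3831)) (BT.leaf cJ3832)) (BT.node 3833 (BT.leaf cJ3833) (BT.leaf cJ3834)))) (BT.node 3839 (BT.node 3837 (BT.node 3836 (BT.node 3835 (BT.leaf cJ3835) (BT.leaf cJ3836)) (BT.leaf cJ3837)) (BT.node 3838 (BT.leaf cJ3838) (BT.leaf cJ3839))) (BT.node 3842 (BT.node 3841 (BT.node 3840 (BT.leaf cJ3840) (BT.leaf cJ3841)) (BT.leaf cJ3842)) (BT.node 3843 (BT.leaf cJ3843) (BT.leaf cJ3844)))))) (BT.node 3865 (BT.node 3855 (BT.node 3850 (BT.node 3847 (BT.node 3846 (BT.node 3845 (BT.leaf cJ3845) (BT.leaf cJ3846)) (BT.leaf cJ3847)) (BT.node 3849 (BT.node 3848 (BT.leaf cJ3848) (BT.leaf cJ3849)) (BT.leaf cJ3850))) (BT.node 3853 (BT.node 3852 (BT.node 3851 (BT.leaf cJ3851) (BT.leaf cJ3852)) (BT.leaf cJ3853)) (BT.node 3854 (BT.leaf cJ3854) (BT.leaf cJ3855)))) (BT.node 3860 (BT.node 3858 (BT.node 3857 (BT.node 3856 (BT.leaf cJ3856) (BT.leaf cJ3857)) (BT.leaf cJ3858)) (BT.node 3859 (BT.leaf cJ3859) (BT.leaf cJ3860))) (BT.node 3863 (BT.node 3862 (BT.node 3861 (BT.leaf cJ3861) (BT.leaf cJ3862)) (BT.leaf cJ3863)) (BT.node 3864 (BT.leaf cJ3864) (BT.leaf cJ3865))))) (BT.node 3875 (BT.node 3870 (BT.node 3868 (BT.node 3867 (BT.node 3866 (BT.leaf cJ3866) (BT.leaf cJ3867)) (BT.leaf cJ3868)) (BT.node 3869 (BT.leaf cJ3869) (BT.leaf cJ3870))) (BT.node 3873 (BT.node 3872 (BT.node 3871 (BT.leaf cJ3871) (BT.leaf cJ3872)) (BT.leaf cJ3873)) (BT.node 3874 (BT.leaf cJ3874) (BT.leaf cJ3875)))) (BT.node 3880 (BT.node 3878 (BT.node 3877 (BT.node 3876 (BT.leaf cJ3876) (BT.leaf cJ3877)) (BT.leaf cJ3878)) (BT.node 3879 (BT.leaf cJ3879) (BT.leaf cJ3880))) (BT.node 3883 (BT.node 3882 (BT.node 3881 (BT.leaf cJ3881) (BT.leaf cJ3882)) (BT.leaf cJ3883)) (BT.node 3884 (BT.leaf cJ3884) (BT.leaf cJ3885))))))) (BT.node 3926 (BT.node 3906 (BT.node 3896 (BT.node 3891 (BT.node 3888 (BT.node 3887 (BT.node 3886 (BT.leaf cJ3886) (BT.leaf cJ3887)) (BT.leaf cJ3888)) (BT.node 3890 (BT.node 3889 (BT.leaf cJ3889) (BT.leaf cJ3890)) (BT.leaf cJ3891))) (BT.node 3894 (BT.node 3893 (BT.node 3892 (BT.leaf cJ3892) (BT.leaf cJ3893)) (BT.leaf cJ3894)) (BT.node 3895 (BT.leaf cJ3895) (BT.leaf cJ3896)))) (BT.node 3901 (BT.node 3899 (BT.node 3898 (BT.node 3897 (BT.leaf cJ3897) (BT.leaf cJ3898)) (BT.leaf cJ3899)) (BT.node 3900 (BT.leaf cJ3900) (BT.leaf cJ3901))) (BT.node 3904 (BT.node 3903 (BT.node 3902 (BT.leaf cJ3902) (BT.leaf cJ3903)) (BT.leaf cJ3904)) (BT.node 3905 (BT.leaf cJ3905) (BT.leaf cJ3906))))) (BT.node 3916 (BT.node 3911 (BT.node 3909 (BT.node 3908 (BT.node 3907 (BT.leaf cJ3907) (BT.leaf cJ3908)) (BT.leaf cJ3909)) (BT.node 3910 (BT.leaf cJ3910) (BT.leaf cJ3911))) (BT.node 3914 (BT.node 3913 (BT.node 3912 (BT.leaf cJ3912) (BT.leaf cJ3913)) (BT.leaf cJ3914)) (BT.node 3915 (BT.leaf cJ3915) (BT.leaf cJ3916)))) (BT.node 3921 (BT.node 3919 (BT.node 3918 (BT.node 3917 (BT.leaf cJ3917) (BT.leaf cJ3918)) (BT.leaf cJ3919)) (BT.node 3920 (BT.leaf cJ3920) (BT.leaf cJ3921))) (BT.node 3924 (BT.node 3923 (BT.node 3922 (BT.leaf cJ3922) (BT.leaf cJ3923)) (BT.leaf cJ3924)) (BT.node 3925 (BT.leaf cJ3925) (BT.leaf cJ3926)))))) (BT.node 3947 (BT.node 3937 (BT.node 3932 (BT.node 3929 (BT.node 3928 (BT.node 3927 (BT.leaf cJ3927) (BT.leaf cJ3928)) (BT.leaf cJ3929)) (BT.node 3931 (BT.node 3930 (BT.leaf cJ3930) (BT.leaf cJ3931)) (BT.leaf cJ3932))) (BT.node 3935 (BT.node 3934 (BT.node 3933 (BT.leaf cJ3933) (BT.leaf cJ3934)) (BT.leaf cJ3935)) (BT.node 3936 (BT.leaf cJ3936) (BT.leaf cJ3937)))) (BT.node 3942 (BT.node 3940 (BT.node 3939 (BT.node 3938 (BT.leaf cJ3938) (BT.leaf cJ3939)) (BT.leaf cJ3940)) (BT.node 3941 (BT.leaf cJ3941) (BT.leaf cJ3942))) (BT.node 3945 (BT.node 3944 (BT.node 3943 (BT.leaf cJ3943) (BT.leaf cJ3944)) (BT.leaf cJ3945)) (BT.node 3946 (BT.leaf cJ3946) (BT.leaf cJ3947))))) (BT.node 3957 (BT.node 3952 (BT.node 3950 (BT.node 3949 (BT.node 3948 (BT.leaf cJ3948) (BT.leaf cJ3949)) (BT.leaf cJ3950)) (BT.node 3951 (BT.leaf cJ3951) (BT.leaf cJ3952))) (BT.node 3955 (BT.node 3954 (BT.node 3953 (BT.leaf cJ3953) (BT.leaf cJ3954)) (BT.leaf cJ3955)) (BT.node 3956 (BT.leaf cJ3956) (BT.leaf cJ3957)))) (BT.node 3962 (BT.node 3960 (BT.node 3959 (BT.node 3958 (BT.leaf cJ3958) (BT.leaf cJ3959)) (BT.leaf cJ3960)) (BT.node 3961 (BT.leaf cJ3961) (BT.leaf cJ3962))) (BT.node 3965 (BT.node 3964 (BT.node 3963 (BT.leaf cJ3963) (BT.leaf cJ3964)) (BT.leaf cJ3965)) (BT.node 3966 (BT.leaf cJ3966) (BT.leaf cJ3967))))))))))) (BT.node 4628 (BT.node 4298 (BT.node 4133 (BT.node 4050 (BT.node 4009 (BT.node 3988 (BT.node 3978 (BT.node 3973 (BT.node 3970 (BT.node 3969 (BT.node 3968 (BT.leaf cJ3968) (BT.leaf cJ3969)) (BT.leaf cJ3970)) (BT.node 3972 (BT.node 3971 (BT.leaf cJ3971) (BT.leaf cJ3972)) (BT.leaf cJ3973))) (BT.node 3976 (BT.node 3975 (BT.node 3974 (BT.leaf cJ3974) (BT.leaf cJ3975)) (BT.leaf cJ3976)) (BT.node 3977 (BT.leaf cJ3977) (BT.leaf cJ3978)))) (BT.node 3983 (BT.node 3981 (BT.node 3980 (BT.node 3979 (BT.leaf cJ3979) (BT.leaf cJ3980)) (BT.leaf cJ3981)) (BT.node 3982 (BT.leaf cJ3982) (BT.leaf cJ3983))) (BT.node 3986 (BT.node 3985 (BT.node 3984 (BT.leaf cJ3984) (BT.leaf cJ3985)) (BT.leaf cJ3986)) (BT.node 3987 (BT.leaf cJ3987) (BT.leaf cJ3988))))) (BT.node 3999 (BT.node 3994 (BT.node 3991 (BT.node 3990 (BT.node 3989 (BT.leaf cJ3989) (BT.leaf cJ3990)) (BT.leaf cJ3991)) (BT.node 3993 (BT.node 3992 (BT.leaf cJ3992) (BT.leaf cJ3993)) (BT.leaf cJ3994))) (BT.node 3997 (BT.node 3996 (BT.node 3995 (BT.leaf cJ3995) (BT.leaf cJ3996)) (BT.leaf cJ3997)) (BT.node 3998 (BT.leaf cJ3998) (BT.leaf cJ3999)))) (BT.node 4004 (BT.node 4002 (BT.node 4001 (BT.node 4000 (BT.leaf cJ4000) (BT.leaf cJ4001)) (BT.leaf cJ4002)) (BT.node 4003 (BT.leaf cJ4003) (BT.leaf cJ4004))) (BT.node 4007 (BT.node 4006 (BT.node 4005 (BT.leaf cJ4005) (BT.leaf cJ4006)) (BT.leaf cJ4007)) (BT.node 4008 (BT.leaf cJ4008) (BT.leaf cJ4009)))))) (BT.node 4030 (BT.node 4020 (BT.node 4015 (BT.node 4012 (BT.node 4011 (BT.node 4010 (BT.leaf cJ4010) (BT.leaf cJ4011)) (BT.leaf cJ4012)) (BT.node 4014 (BT.node 4013 (BT.leaf cJ4013) (BT.leaf cJ4014)) (BT.leaf cJ4015))) (BT.node 4018 (BT.node 4017 (BT.node 4016 (BT.leaf cJ4016) (BT.leaf cJ4017)) (BT.leaf cJ4018)) (BT.node 4019 (BT.leaf cJ4019) (BT.leaf cJ4020)))) (BT.node 4025 (BT.node 4023 (BT.node 4022 (BT.node 4021 (BT.leaf cJ4021) (BT.leaf cJ4022)) (BT.leaf cJ4023)) (BT.node 4024 (BT.leaf cJ4024) (BT.leaf cJ4025))) (BT.node 4028 (BT.node 4027 (BT.node 4026 (BT.leaf cJ4026) (BT.leaf cJ4027)) (BT.leaf cJ4028)) (BT.node 4029 (BT.leaf cJ4029) (BT.leaf cJ4030))))) (BT.node 4040 (BT.node 4035 (BT.node 4033 (BT.node 4032 (BT.node 4031 (BT.leaf cJ4031) (BT.leaf cJ4032)) (BT.leaf cJ4033)) (BT.node 4034 (BT.leaf cJ4034) (BT.leaf cJ4035))) (BT.node 4038 (BT.node 4037 (BT.node 4036 (BT.leaf cJ4036) (BT.leaf cJ4037)) (BT.leaf cJ4038)) (BT.node 4039 (BT.leaf cJ4039) (BT.leaf cJ4040)))) (BT.node 4045 (BT.node 4043 (BT.node 4042 (BT.node 4041 (BT.leaf cJ4041) (BT.leaf cJ4042)) (BT.leaf cJ4043)) (BT.node 4044 (BT.leaf cJ4044) (BT.leaf cJ4045))) (BT.node 4048 (BT.node 4047 (BT.node 4046 (BT.leaf cJ4046) (BT.leaf cJ4047)) (BT.leaf cJ4048)) (BT.node 4049 (BT.leaf cJ4049) (BT.leaf cJ4050))))))) (BT.node 4092 (BT.node 4071 (BT.node 4061 (BT.node 4056 (BT.node 4053 (BT.node 4052 (BT.node 4051 (BT.leaf cJ4051) (BT.leaf cJ4052)) (BT.leaf cJ4053)) (BT.node 4055 (BT.node 4054 (BT.leaf cJ4054) (BT.leaf cJ4055)) (BT.leaf cJ4056))) (BT.node 4059 (BT.node 4058 (BT.node 4057 (BT.leaf cJ4057) (BT.leaf cJ4058)) (BT.leaf cJ4059)) (BT.node 4060 (BT.leaf cJ4060) (BT.leaf cJ4061)))) (BT.node 4066 (BT.node 4064 (BT.node 4063 (BT.node 4062 (BT.leaf cJ4062) (BT.leaf cJ4063)) (BT.leaf cJ4064)) (BT.node 4065 (BT.leaf cJ4065) (BT.leaf cJ4066))) (BT.node 4069 (BT.node 4068 (BT.node 4067 (BT.leaf cJ4067) (BT.leaf cJ4068)) (BT.leaf cJ4069)) (BT.node 4070 (BT.leaf cJ4070) (BT.leaf cJ4071))))) (BT.node 4082 (BT.node 4077 (BT.node 4074 (BT.node 4073 (BT.node 4072 (BT.leaf cJ4072) (BT.leaf cJ4073)) (BT.leaf cJ4074)) (BT.node 4076 (BT.node 4075 (BT.leaf cJ4075) (BT.leaf cJ4076)) (BT.leaf cJ4077))) (BT.node 4080 (BT.node 4079 (BT.node 4078 (BT.leaf cJ4078) (BT.leaf cJ4079)) (BT.leaf cJ4080)) (BT.node 4081 (BT.leaf cJ4081) (BT.leaf cJ4082)))) (BT.node 4087 (BT.node 4085 (BT.node 4084 (BT.node 4083 (BT.leaf cJ4083) (BT.leaf cJ4084)) (BT.leaf cJ4085)) (BT.node 4086 (BT.leaf cJ4086) (BT.leaf cJ4087))) (BT.node 4090 (BT.node 4089 (BT.node 4088 (BT.leaf cJ4088) (BT.leaf cJ4089)) (BT.leaf cJ4090)) (BT.node 4091 (BT.leaf cJ4091) (BT.leaf cJ4092)))))) (BT.node 4113 (BT.node 4103 (BT.node 4098 (BT.node 4095 (BT.node 4094 (BT.node 4093 (BT.leaf cJ4093) (BT.leaf cJ4094)) (BT.leaf cJ4095)) (BT.node 4097 (BT.node 4096 (BT.leaf cJ4096) (BT.leaf cJ4097)) (BT.leaf cJ4098))) (BT.node 4101 (BT.node 4100 (BT.node 4099 (BT.leaf cJ4099) (BT.leaf cJ4100)) (BT.leaf cJ4101)) (BT.node 4102 (BT.leaf cJ4102) (BT.leaf cJ4103)))) (BT.node 4108 (BT.node 4106 (BT.node 4105 (BT.node 4104 (BT.leaf cJ4104) (BT.leaf cJ4105)) (BT.leaf cJ4106)) (BT.node 4107 (BT.leaf cJ4107) (BT.leaf cJ4108))) (BT.node 4111 (BT.node 4110 (BT.node 4109 (BT.leaf cJ4109) (BT.leaf cJ4110)) (BT.leaf cJ4111)) (BT.node 4112 (BT.leaf cJ4112) (BT.leaf cJ4113))))) (BT.node 4123 (BT.node 4118 (BT.node 4116 (BT.node 4115 (BT.node 4114 (BT.leaf cJ4114) (BT.leaf cJ4115)) (BT.leaf cJ4116)) (BT.node 4117 (BT.leaf cJ4117) (BT.leaf cJ4118))) (BT.node 4121 (BT.node 4120 (BT.node 4119 (BT.leaf cJ4119) (BT.leaf cJ4120)) (BT.leaf cJ4121)) (BT.node 4122 (BT.leaf cJ4122) (BT.leaf cJ4123)))) (BT.node 4128 (BT.node 4126 (BT.node 4125 (BT.node 4124 (BT.leaf cJ4124) (BT.leaf cJ4125)) (BT.leaf cJ4126)) (BT.node 4127 (BT.leaf cJ4127) (BT.leaf cJ4128))) (BT.node 4131 (BT.node 4130 (BT.node 4129 (BT.leaf cJ4129) (BT.leaf cJ4130)) (BT.leaf cJ4131)) (BT.node 4132 (BT.leaf cJ4132) (BT.leaf cJ4133)))))))) (BT.node 4216 (BT.node 4175 (BT.node 4154 (BT.node 4144 (BT.node 4139 (BT.node 4136 (BT.node 4135 (BT.node 4134 (BT.leaf cJ4134) (BT.leaf cJ4135)) (BT.leaf cJ4136)) (BT.node 4138 (BT.node 4137 (BT.leaf cJ4137) (BT.leaf cJ4138)) (BT.leaf cJ4139))) (BT.node 4142 (BT.node 4141 (BT.node 4140 (BT.leaf cJ4140) (BT.leaf cJ4141)) (BT.leaf cJ4142)) (BT.node 4143 (BT.leaf cJ4143) (BT.leaf cJ4144)))) (BT.node 4149 (BT.node 4147 (BT.node 4146 (BT.node 4145 (BT.leaf cJ4145) (BT.leaf cJ4146)) (BT.leaf cJ4147)) (BT.node 4148 (BT.leaf cJ4148) (BT.leaf cJ4149))) (BT.node 4152 (BT.node 4151 (BT.node 4150 (BT.leaf cJ4150) (BT.leaf cJ4151)) (BT.leaf cJ4152)) (BT.node 4153 (BT.leaf cJ4153) (BT.leaf cJ4154))))) (BT.node 4165 (BT.node 4160 (BT.node 4157 (BT.node 4156 (BT.node 4155 (BT.leaf cJ4155) (BT.leaf cJ4156)) (BT.leaf cJ4157)) (BT.node 4159 (BT.node 4158 (BT.leaf cJ4158) (BT.leaf cJ4159)) (BT.leaf cJ4160))) (BT.node 4163 (BT.node 4162 (BT.node 4161 (BT.leaf cJ4161) (BT.leaf cJ4162)) (BT.leaf cJ4163)) (BT.node 4164 (BT.leaf cJ4164) (BT.leaf cJ4165)))) (BT.node 4170 (BT.node 4168 (BT.node 4167 (BT.node 4166 (BT.leaf cJ4166) (BT.leaf cJ4167)) (BT.leaf cJ4168)) (BT.node 4169 (BT.leaf cJ4169) (BT.leaf cJ4170))) (BT.node 4173 (BT.node 4172 (BT.node 4171 (BT.leaf cJ4171) (BT.leaf cJ4172)) (BT.leaf cJ4173)) (BT.node 4174 (BT.leaf cJ4174) (BT.leaf cJ4175)))))) (BT.node 4196 (BT.node 4186 (BT.node 4181 (BT.node 4178 (BT.node 4177 (BT.node 4176 (BT.leaf cJ4176) (BT.leaf cJ4177)) (BT.leaf cJ4178)) (BT.node 4180 (BT.node 4179 (BT.leaf cJ4179) (BT.leaf cJ4180)) (BT.leaf cJ4181))) (BT.node 4184 (BT.node 4183 (BT.node 4182 (BT.leaf cJ4182) (BT.leaf cJ4183)) (BT.leaf cJ4184)) (BT.node 4185 (BT.leaf cJ4185) (BT.leaf cJ4186)))) (BT.node 4191 (BT.node 4189 (BT.node 4188 (BT.node 4187 (BT.leaf cJ4187) (BT.leaf cJ4188)) (BT.leaf cJ4189)) (BT.node 4190 (BT.leaf cJ4190) (BT.leaf cJ4191))) (BT.node 4194 (BT.node 4193 (BT.node 4192 (BT.leaf cJ4192) (BT.leaf cJ4193)) (BT.leaf cJ4194)) (BT.node 4195 (BT.leaf cJ4195) (BT.leaf cJ4196))))) (BT.node 4206 (BT.node 4201 (BT.node 4199 (BT.node 4198 (BT.node 4197 (BT.leaf cJ4197) (BT.leaf cJ4198)) (BT.leaf cJ4199)) (BT.node 4200 (BT.leaf cJ4200) (BT.leaf cJ4201))) (BT.node 4204 (BT.node 4203 (BT.node 4202 (BT.leaf cJ4202) (BT.leaf cJ4203)) (BT.leaf cJ4204)) (BT.node 4205 (BT.leaf cJ4205) (BT.leaf cJ4206)))) (BT.node 4211 (BT.node 4209 (BT.node 4208 (BT.node 4207 (BT.leaf cJ4207) (BT.leaf cJ4208)) (BT.leaf cJ4209)) (BT.node 4210 (BT.leaf cJ4210) (BT.leaf cJ4211))) (BT.node 4214 (BT.node 4213 (BT.node 4212 (BT.leaf cJ4212) (BT.leaf cJ4213)) (BT.leaf cJ4214)) (BT.node 4215 (BT.leaf cJ4215) (BT.leaf cJ4216))))))) (BT.node 4257 (BT.node 4237 (BT.node 4227 (BT.node 4222 (BT.node 4219 (BT.node 4218 (BT.node 4217 (BT.leaf cJ4217) (BT.leaf cJ4218)) (BT.leaf cJ4219)) (BT.node 4221 (BT.node 4220 (BT.leaf cJ4220) (BT.leaf cJ4221)) (BT.leaf cJ4222))) (BT.node 4225 (BT.node 4224 (BT.node 4223 (BT.leaf cJ4223) (BT.leaf cJ4224)) (BT.leaf cJ4225)) (BT.node 4226 (BT.leaf cJ4226) (BT.leaf cJ4227)))) (BT.node 4232 (BT.node 4230 (BT.node 4229 (BT.node 4228 (BT.leaf cJ4228) (BT.leaf cJ4229)) (BT.leaf cJ4230)) (BT.node 4231 (BT.leaf cJ4231) (BT.leaf cJ4232))) (BT.node 4235 (BT.node 4234 (BT.node 4233 (BT.leaf cJ4233) (BT.leaf cJ4234)) (BT.leaf cJ4235)) (BT.node 4236 (BT.leaf cJ4236) (BT.leaf cJ4237))))) (BT.node 4247 (BT.node 4242 (BT.node 4240 (BT.node 4239 (BT.node 4238 (BT.leaf cJ4238) (BT.leaf cJ4239)) (BT.leaf cJ4240)) (BT.node 4241 (BT.leaf cJ4241) (BT.leaf cJ4242))) (BT.node 4245 (BT.node 4244 (BT.node 4243 (BT.leaf cJ4243) (BT.leaf cJ4244)) (BT.leaf cJ4245)) (BT.node 4246 (BT.leaf cJ4246) (BT.leaf cJ4247)))) (BT.node 4252 (BT.node 4250 (BT.node 4249 (BT.node 4248 (BT.leaf cJ4248) (BT.leaf cJ4249)) (BT.leaf cJ4250)) (BT.node 4251 (BT.leaf cJ4251) (BT.leaf cJ4252))) (BT.node 4255 (BT.node 4254 (BT.node 4253 (BT.leaf cJ4253) (BT.leaf cJ4254)) (BT.leaf cJ4255)) (BT.node 4256 (BT.leaf cJ4256) (BT.leaf cJ4257)))))) (BT.node 4278 (BT.node 4268 (BT.node 4263 (BT.node 4260 (BT.node 4259 (BT.node 4258 (BT.leaf cJ4258) (BT.leaf cJ4259)) (BT.leaf cJ4260)) (BT.node 4262 (BT.node 4261 (BT.leaf cJ4261) (BT.leaf cJ4262)) (BT.leaf cJ4263))) (BT.node 4266 (BT.node 4265 (BT.node 4264 (BT.leaf cJ4264) (BT.leaf cJ4265)) (BT.leaf cJ4266)) (BT.node 4267 (BT.leaf cJ4267) (BT.leaf cJ4268)))) (BT.node 4273 (BT.node 4271 (BT.node 4270 (BT.node 4269 (BT.leaf cJ4269) (BT.leaf cJ4270)) (BT.leaf cJ4271)) (BT.node 4272 (BT.leaf cJ4272) (BT.leaf cJ4273))) (BT.node 4276 (BT.node 4275 (BT.node 4274 (BT.leaf cJ4274) (BT.leaf cJ4275)) (BT.leaf cJ4276)) (BT.node 4277 (BT.leaf cJ4277) (BT.leaf cJ4278))))) (BT.node 4288 (BT.node 4283 (BT.node 4281 (BT.node 4280 (BT.node 4279 (BT.leaf cJ4279) (BT.leaf cJ4280)) (BT.leaf cJ4281)) (BT.node 4282 (BT.leaf cJ4282) (BT.leaf cJ4283))) (BT.node 4286 (BT.node 4285 (BT.node 4284 (BT.leaf cJ4284) (BT.leaf cJ4285)) (BT.leaf cJ4286)) (BT.node 4287 (BT.leaf cJ4287) (BT.leaf cJ4288)))) (BT.node 4293 (BT.node 4291 (BT.node 4290 (BT.node 4289 (BT.leaf cJ4289) (BT.leaf cJ4290)) (BT.leaf cJ4291)) (BT.node 4292 (BT.leaf cJ4292) (BT.leaf cJ4293))) (BT.node 4296 (BT.node 4295 (BT.node 4294 (BT.leaf cJ4294) (BT.leaf cJ4295)) (BT.leaf cJ4296)) (BT.node 4297 (BT.leaf cJ4297) (BT.leaf cJ4298))))))))) (BT.node 4463 (BT.node 4381 (BT.node 4340 (BT.node 4319 (BT.node 4309 (BT.node 4304 (BT.node 4301 (BT.node 4300 (BT.node 4299 (BT.leaf cJ4299) (BT.leaf cJ4300)) (BT.leaf cJ4301)) (BT.node 4303 (BT.node 4302 (BT.leaf cJ4302) (BT.leaf cJ4303)) (BT.leaf cJ4304))) (BT.node 4307 (BT.node 4306 (BT.node 4305 (BT.leaf cJ4305) (BT.leaf cJ4306)) (BT.leaf cJ4307)) (BT.node 4308 (BT.leaf cJ4308) (BT.leaf cJ4309)))) (BT.node 4314 (BT.node 4312 (BT.node 4311 (BT.node 4310 (BT.leaf cJ4310) (BT.leaf cJ4311)) (BT.leaf cJ4312)) (BT.node 4313 (BT.leaf cJ4313) (BT.leaf cJ4314))) (BT.node 4317 (BT.node 4316 (BT.node 4315 (BT.leaf cJ4315) (BT.leaf cJ4316)) (BT.leaf cJ4317)) (BT.node 4318 (BT.leaf cJ4318) (BT.leaf cJ4319))))) (BT.node 4330 (BT.node 4325 (BT.node 4322 (BT.node 4321 (BT.node 4320 (BT.leaf cJ4320) (BT.leaf cJ4321)) (BT.leaf cJ4322)) (BT.node 4324 (BT.node 4323 (BT.leaf cJ4323) (BT.leaf cJ4324)) (BT.leaf cJ4325))) (BT.node 4328 (BT.node 4327 (BT.node 4326 (BT.leaf cJ4326) (BT.leaf cJ4327)) (BT.leaf cJ4328)) (BT.node 4329 (BT.leaf cJ4329) (BT.leaf cJ4330)))) (BT.node 4335 (BT.node 4333 (BT.node 4332 (BT.node 4331 (BT.leaf cJ4331) (BT.leaf cJ4332)) (BT.leaf cJ4333)) (BT.node 4334 (BT.leaf cJ4334) (BT.leaf cJ4335))) (BT.node 4338 (BT.node 4337 (BT.node 4336 (BT.leaf cJ4336) (BT.leaf cJ4337)) (BT.leaf cJ4338)) (BT.node 4339 (BT.leaf cJ4339) (BT.leaf cJ4340)))))) (BT.node 4361 (BT.node 4351 (BT.node 4346 (BT.node 4343 (BT.node 4342 (BT.node 4341 (BT.leaf cJ4341) (BT.leaf cJ4342)) (BT.leaf cJ4343)) (BT.node 4345 (BT.node 4344 (BT.leaf cJ4344) (BT.leaf cJ4345)) (BT.leaf cJ4346))) (BT.node 4349 (BT.node 4348 (BT.node 4347 (BT.leaf cJ4347) (BT.leaf cJ4348)) (BT.leaf cJ4349)) (BT.node 4350 (BT.leaf cJ4350) (BT.leaf cJ4351)))) (BT.node 4356 (BT.node 4354 (BT.node 4353 (BT.node 4352 (BT.leaf cJ4352) (BT.leaf cJ4353)) (BT.leaf cJ4354)) (BT.node 4355 (BT.leaf cJ4355) (BT.leaf cJ4356))) (BT.node 4359 (BT.node 4358 (BT.node 4357 (BT.leaf cJ4357) (BT.leaf cJ4358)) (BT.leaf cJ4359)) (BT.node 4360 (BT.leaf cJ4360) (BT.leaf cJ4361))))) (BT.node 4371 (BT.node 4366 (BT.node 4364 (BT.node 4363 (BT.node 4362 (BT.leaf cJ4362) (BT.leaf cJ4363)) (BT.leaf cJ4364)) (BT.node 4365 (BT.leaf cJ4365) (BT.leaf cJ4366))) (BT.node 4369 (BT.node 4368 (BT.node 4367 (BT.leaf cJ4367) (BT.leaf cJ4368)) (BT.leaf cJ4369)) (BT.node 4370 (BT.leaf cJ4370) (BT.leaf cJ4371)))) (BT.node 4376 (BT.node 4374 (BT.node 4373 (BT.node 4372 (BT.leaf cJ4372) (BT.leaf cJ4373)) (BT.leaf cJ4374)) (BT.node 4375 (BT.leaf cJ4375) (BT.leaf cJ4376))) (BT.node 4379 (BT.node 4378 (BT.node 4377 (BT.leaf cJ4377) (BT.leaf cJ4378)) (BT.leaf cJ4379)) (BT.node 4380 (BT.leaf cJ4380) (BT.leaf cJ4381))))))) (BT.node 4422 (BT.node 4402 (BT.node 4392 (BT.node 4387 (BT.node 4384 (BT.node 4383 (BT.node 4382 (BT.leaf cJ4382) (BT.leaf cJ4383)) (BT.leaf cJ4384)) (BT.node 4386 (BT.node 4385 (BT.leaf cJ4385) (BT.leaf cJ4386)) (BT.leaf cJ4387))) (BT.node 4390 (BT.node 4389 (BT.node 4388 (BT.leaf cJ4388) (BT.leaf cJ4389)) (BT.leaf cJ4390)) (BT.node 4391 (BT.leaf cJ4391) (BT.leaf cJ4392)))) (BT.node 4397 (BT.node 4395 (BT.node 4394 (BT.node 4393 (BT.leaf cJ4393) (BT.leaf cJ4394)) (BT.leaf cJ4395)) (BT.node 4396 (BT.leaf cJ4396) (BT.leaf cJ4397))) (BT.node 4400 (BT.node 4399 (BT.node 4398 (BT.leaf cJ4398) (BT.leaf cJ4399)) (BT.leaf cJ4400)) (BT.node 4401 (BT.leaf cJ4401) (BT.leaf cJ4402))))) (BT.node 4412 (BT.node 4407 (BT.node 4405 (BT.node 4404 (BT.node 4403 (BT.leaf cJ4403) (BT.leaf cJ4404)) (BT.leaf cJ4405)) (BT.node 4406 (BT.leaf cJ4406) (BT.leaf cJ4407))) (BT.node 4410 (BT.node 4409 (BT.node 4408 (BT.leaf cJ4408) (BT.leaf cJ4409)) (BT.leaf cJ4410)) (BT.node 4411 (BT.leaf cJ4411) (BT.leaf cJ4412)))) (BT.node 4417 (BT.node 4415 (BT.node 4414 (BT.node 4413 (BT.leaf cJ4413) (BT.leaf cJ4414)) (BT.leaf cJ4415)) (BT.node 4416 (BT.leaf cJ4416) (BT.leaf cJ4417))) (BT.node 4420 (BT.node 4419 (BT.node 4418 (BT.leaf cJ4418) (BT.leaf cJ4419)) (BT.leaf cJ4420)) (BT.node 4421 (BT.leaf cJ4421) (BT.leaf cJ4422)))))) (BT.node 4443 (BT.node 4433 (BT.node 4428 (BT.node 4425 (BT.node 4424 (BT.node 4423 (BT.leaf cJ4423) (BT.leaf cJ4424)) (BT.leaf cJ4425)) (BT.node 4427 (BT.node 4426 (BT.leaf cJ4426) (BT.leaf cJ4427)) (BT.leaf cJ4428))) (BT.node 4431 (BT.node 4430 (BT.node 4429 (BT.leaf cJ4429) (BT.leaf cJ4430)) (BT.leaf cJ4431)) (BT.node 4432 (BT.leaf cJ4432) (BT.leaf cJ4433)))) (BT.node 4438 (BT.node 4436 (BT.node 4435 (BT.node 4434 (BT.leaf cJ4434) (BT.leaf cJ4435)) (BT.leaf cJ4436)) (BT.node 4437 (BT.leaf cJ4437) (BT.leaf cJ4438))) (BT.node 4441 (BT.node 4440 (BT.node 4439 (BT.leaf cJ4439) (BT.leaf cJ4440)) (BT.leaf cJ4441)) (BT.node 4442 (BT.leaf cJ4442) (BT.leaf cJ4443))))) (BT.node 4453 (BT.node 4448 (BT.node 4446 (BT.node 4445 (BT.node 4444 (BT.leaf cJ4444) (BT.leaf cJ4445)) (BT.leaf cJ4446)) (BT.node 4447 (BT.leaf cJ4447) (BT.leaf cJ4448))) (BT.node 4451 (BT.node 4450 (BT.node 4449 (BT.leaf cJ4449) (BT.leaf cJ4450)) (BT.leaf cJ4451)) (BT.node 4452 (BT.leaf cJ4452) (BT.leaf cJ4453)))) (BT.node 4458 (BT.node 4456 (BT.node 4455 (BT.node 4454 (BT.leaf cJ4454) (BT.leaf cJ4455)) (BT.leaf cJ4456)) (BT.node 4457 (BT.leaf cJ4457) (BT.leaf cJ4458))) (BT.node 4461 (BT.node 4460 (BT.node 4459 (BT.leaf cJ4459) (BT.leaf cJ4460)) (BT.leaf cJ4461)) (BT.node 4462 (BT.leaf cJ4462) (BT.leaf cJ4463)))))))) (BT.node 4546 (BT.node 4505 (BT.node 4484 (BT.node 4474 (BT.node 4469 (BT.node 4466 (BT.node 4465 (BT.node 4464 (BT.leaf cJ4464) (BT.leaf cJ4465)) (BT.leaf cJ4466)) (BT.node 4468 (BT.node 4467 (BT.leaf cJ4467) (BT.leaf cJ4468)) (BT.leaf cJ4469))) (BT.node 4472 (BT.node 4471 (BT.node 4470 (BT.leaf cJ4470) (BT.leaf cJ4471)) (BT.leaf cJ4472)) (BT.node 4473 (BT.leaf cJ4473) (BT.leaf cJ4474)))) (BT.node 4479 (BT.node 4477 (BT.node 4476 (BT.node 4475 (BT.leaf cJ4475) (BT.leaf cJ4476)) (BT.leaf cJ4477)) (BT.node 4478 (BT.leaf cJ4478) (BT.leaf cJ4479))) (BT.node 4482 (BT.node 4481 (BT.node 4480 (BT.leaf cJ4480) (BT.leaf cJ4481)) (BT.leaf cJ4482)) (BT.node 4483 (BT.leaf cJ4483) (BT.leaf cJ4484))))) (BT.node 4495 (BT.node 4490 (BT.node 4487 (BT.node 4486 (BT.node 4485 (BT.leaf cJ4485) (BT.leaf cJ4486)) (BT.leaf cJ4487)) (BT.node 4489 (BT.node 4488 (BT.leaf cJ4488) (BT.leaf cJ4489)) (BT.leaf cJ4490))) (BT.node 4493 (BT.node 4492 (BT.node 4491 (BT.leaf cJ4491) (BT.leaf cJ4492)) (BT.leaf cJ4493)) (BT.node 4494 (BT.leaf cJ4494) (BT.leaf cJ4495)))) (BT.node 4500 (BT.node 4498 (BT.node 4497 (BT.node 4496 (BT.leaf cJ4496) (BT.leaf cJ4497)) (BT.leaf cJ4498)) (BT.node 4499 (BT.leaf cJ4499) (BT.leaf cJ4500))) (BT.node 4503 (BT.node 4502 (BT.node 4501 (BT.leaf cJ4501) (BT.leaf cJ4502)) (BT.leaf cJ4503)) (BT.node 4504 (BT.leaf cJ4504) (BT.leaf cJ4505)))))) (BT.node 4526 (BT.node 4516 (BT.node 4511 (BT.node 4508 (BT.node 4507 (BT.node 4506 (BT.leaf cJ4506) (BT.leaf cJ4507)) (BT.leaf cJ4508)) (BT.node 4510 (BT.node 4509 (BT.leaf cJ4509) (BT.leaf cJ4510)) (BT.leaf cJ4511))) (BT.node 4514 (BT.node 4513 (BT.node 4512 (BT.leaf cJ4512) (BT.leaf cJ4513)) (BT.leaf cJ4514)) (BT.node 4515 (BT.leaf cJ4515) (BT.leaf cJ4516)))) (BT.node 4521 (BT.node 4519 (BT.node 4518 (BT.node 4517 (BT.leaf cJ4517) (BT.leaf cJ4518)) (BT.leaf cJ4519)) (BT.node 4520 (BT.leaf cJ4520) (BT.leaf cJ4521))) (BT.node 4524 (BT.node 4523 (BT.node 4522 (BT.leaf cJ4522) (BT.leaf cJ4523)) (BT.leaf cJ4524)) (BT.node 4525 (BT.leaf cJ4525) (BT.leaf cJ4526))))) (BT.node 4536 (BT.node 4531 (BT.node 4529 (BT.node 4528 (BT.node 4527 (BT.leaf cJ4527) (BT.leaf cJ4528)) (BT.leaf cJ4529)) (BT.node 4530 (BT.leaf cJ4530) (BT.leaf cJ4531))) (BT.node 4534 (BT.node 4533 (BT.node 4532 (BT.leaf cJ4532) (BT.leaf cJ4533)) (BT.leaf cJ4534)) (BT.node 4535 (BT.leaf cJ4535) (BT.leaf cJ4536)))) (BT.node 4541 (BT.node 4539 (BT.node 4538 (BT.node 4537 (BT.leaf cJ4537) (BT.leaf cJ4538)) (BT.leaf cJ4539)) (BT.node 4540 (BT.leaf cJ4540) (BT.leaf cJ4541))) (BT.node 4544 (BT.node 4543 (BT.node 4542 (BT.leaf cJ4542) (BT.leaf cJ4543)) (BT.leaf cJ4544)) (BT.node 4545 (BT.leaf cJ4545) (BT.leaf cJ4546))))))) (BT.node 4587 (BT.node 4567 (BT.node 4557 (BT.node 4552 (BT.node 4549 (BT.node 4548 (BT.node 4547 (BT.leaf cJ4547) (BT.leaf cJ4548)) (BT.leaf cJ4549)) (BT.node 4551 (BT.node 4550 (BT.leaf cJ4550) (BT.leaf cJ4551)) (BT.leaf cJ4552))) (BT.node 4555 (BT.node 4554 (BT.node 4553 (BT.leaf cJ4553) (BT.leaf cJ4554)) (BT.leaf cJ4555)) (BT.node 4556 (BT.leaf cJ4556) (BT.leaf cJ4557)))) (BT.node 4562 (BT.node 4560 (BT.node 4559 (BT.node 4558 (BT.leaf cJ4558) (BT.leaf cJ4559)) (BT.leaf cJ4560)) (BT.node 4561 (BT.leaf cJ4561) (BT.leaf cJ4562))) (BT.node 4565 (BT.node 4564 (BT.node 4563 (BT.leaf cJ4563) (BT.leaf cJ4564)) (BT.leaf cJ4565)) (BT.node 4566 (BT.leaf cJ4566) (BT.leaf cJ4567))))) (BT.node 4577 (BT.node 4572 (BT.node 4570 (BT.node 4569 (BT.node 4568 (BT.leaf cJ4568) (BT.leaf cJ4569)) (BT.leaf cJ4570)) (BT.node 4571 (BT.leaf cJ4571) (BT.leaf cJ4572))) (BT.node 4575 (BT.node 4574 (BT.node 4573 (BT.leaf cJ4573) (BT.leaf cJ4574)) (BT.leaf cJ4575)) (BT.node 4576 (BT.leaf cJ4576) (BT.leaf cJ4577)))) (BT.node 4582 (BT.node 4580 (BT.node 4579 (BT.node 4578 (BT.leaf cJ4578) (BT.leaf cJ4579)) (BT.leaf cJ4580)) (BT.node 4581 (BT.leaf cJ4581) (BT.leaf cJ4582))) (BT.node 4585 (BT.node 4584 (BT.node 4583 (BT.leaf cJ4583) (BT.leaf cJ4584)) (BT.leaf cJ4585)) (BT.node 4586 (BT.leaf cJ4586) (BT.leaf cJ4587)))))) (BT.node 4608 (BT.node 4598 (BT.node 4593 (BT.node 4590 (BT.node 4589 (BT.node 4588 (BT.leaf cJ4588) (BT.leaf cJ4589)) (BT.leaf cJ4590)) (BT.node 4592 (BT.node 4591 (BT.leaf cJ4591) (BT.leaf cJ4592)) (BT.leaf cJ4593))) (BT.node 4596 (BT.node 4595 (BT.node 4594 (BT.leaf cJ4594) (BT.leaf cJ4595)) (BT.leaf cJ4596)) (BT.node 4597 (BT.leaf cJ4597) (BT.leaf cJ4598)))) (BT.node 4603 (BT.node 4601 (BT.node 4600 (BT.node 4599 (BT.leaf cJ4599) (BT.leaf cJ4600)) (BT.leaf cJ4601)) (BT.node 4602 (BT.leaf cJ4602) (BT.leaf cJ4603))) (BT.node 4606 (BT.node 4605 (BT.node 4604 (BT.leaf cJ4604) (BT.leaf cJ4605)) (BT.leaf cJ4606)) (BT.node 4607 (BT.leaf cJ4607) (BT.leaf cJ4608))))) (BT.node 4618 (BT.node 4613 (BT.node 4611 (BT.node 4610 (BT.node 4609 (BT.leaf cJ4609) (BT.leaf cJ4610)) (BT.leaf cJ4611)) (BT.node 4612 (BT.leaf cJ4612) (BT.leaf cJ4613))) (BT.node 4616 (BT.node 4615 (BT.node 4614 (BT.leaf cJ4614) (BT.leaf cJ4615)) (BT.leaf cJ4616)) (BT.node 4617 (BT.leaf cJ4617) (BT.leaf cJ4618)))) (BT.node 4623 (BT.node 4621 (BT.node 4620 (BT.node 4619 (BT.leaf cJ4619) (BT.leaf cJ4620)) (BT.leaf cJ4621)) (BT.node 4622 (BT.leaf cJ4622) (BT.leaf cJ4623))) (BT.node 4626 (BT.node 4625 (BT.node 4624 (BT.leaf cJ4624) (BT.leaf cJ4625)) (BT.leaf cJ4626)) (BT.node 4627 (BT.leaf cJ4627) (BT.leaf cJ4628)))))))))) (BT.node 4959 (BT.node 4794 (BT.node 4711 (BT.node 4670 (BT.node 4649 (BT.node 4639 (BT.node 4634 (BT.node 4631 (BT.node 4630 (BT.node 4629 (BT.leaf cJ4629) (BT.leaf cJ4630)) (BT.leaf cJ4631)) (BT.node 4633 (BT.node 4632 (BT.leaf cJ4632) (BT.leaf cJ4633)) (BT.leaf cJ4634))) (BT.node 4637 (BT.node 4636 (BT.node 4635 (BT.leaf cJ4635) (BT.leaf cJ4636)) (BT.leaf cJ4637)) (BT.node 4638 (BT.leaf cJ4638) (BT.leaf cJ4639)))) (BT.node 4644 (BT.node 4642 (BT.node 4641 (BT.node 4640 (BT.leaf cJ4640) (BT.leaf cJ4641)) (BT.leaf cJ4642)) (BT.node 4643 (BT.leaf cJ4643) (BT.leaf cJ4644))) (BT.node 4647 (BT.node 4646 (BT.node 4645 (BT.leaf cJ4645) (BT.leaf cJ4646)) (BT.leaf cJ4647)) (BT.node 4648 (BT.leaf cJ4648) (BT.leaf cJ4649))))) (BT.node 4660 (BT.node 4655 (BT.node 4652 (BT.node 4651 (BT.node 4650 (BT.leaf cJ4650) (BT.leaf cJ4651)) (BT.leaf cJ4652)) (BT.node 4654 (BT.node 4653 (BT.leaf cJ4653) (BT.leaf cJ4654)) (BT.leaf cJ4655))) (BT.node 4658 (BT.node 4657 (BT.node 4656 (BT.leaf cJ4656) (BT.leaf cJ4657)) (BT.leaf cJ4658)) (BT.node 4659 (BT.leaf cJ4659) (BT.leaf cJ4660)))) (BT.node 4665 (BT.node 4663 (BT.node 4662 (BT.node 4661 (BT.leaf cJ4661) (BT.leaf cJ4662)) (BT.leaf cJ4663)) (BT.node 4664 (BT.leaf cJ4664) (BT.leaf cJ4665))) (BT.node 4668 (BT.node 4667 (BT.node 4666 (BT.leaf cJ4666) (BT.leaf cJ4667)) (BT.leaf cJ4668)) (BT.node 4669 (BT.leaf cJ4669) (BT.leaf cJ4670)))))) (BT.node 4691 (BT.node 4681 (BT.node 4676 (BT.node 4673 (BT.node 4672 (BT.node 4671 (BT.leaf cJ4671) (BT.leaf cJ4672)) (BT.leaf cJ4673)) (BT.node 4675 (BT.node 4674 (BT.leaf cJ4674) (BT.leaf cJ4675)) (BT.leaf cJ4676))) (BT.node 4679 (BT.node 4678 (BT.node 4677 (BT.leaf cJ4677) (BT.leaf cJ4678)) (BT.leaf cJ4679)) (BT.node 4680 (BT.leaf cJ4680) (BT.leaf cJ4681)))) (BT.node 4686 (BT.node 4684 (BT.node 4683 (BT.node 4682 (BT.leaf cJ4682) (BT.leaf cJ4683)) (BT.leaf cJ4684)) (BT.node 4685 (BT.leaf cJ4685) (BT.leaf cJ4686))) (BT.node 4689 (BT.node 4688 (BT.node 4687 (BT.leaf cJ4687) (BT.leaf cJ4688)) (BT.leaf cJ4689)) (BT.node 4690 (BT.leaf cJ4690) (BT.leaf cJ4691))))) (BT.node 4701 (BT.node 4696 (BT.node 4694 (BT.node 4693 (BT.node 4692 (BT.leaf cJ4692) (BT.leaf cJ4693)) (BT.leaf cJ4694)) (BT.node 4695 (BT.leaf cJ4695) (BT.leaf cJ4696))) (BT.node 4699 (BT.node 4698 (BT.node 4697 (BT.leaf cJ4697) (BT.leaf cJ4698)) (BT.leaf cJ4699)) (BT.node 4700 (BT.leaf cJ4700) (BT.leaf cJ4701)))) (BT.node 4706 (BT.node 4704 (BT.node 4703 (BT.node 4702 (BT.leaf cJ4702) (BT.leaf cJ4703)) (BT.leaf cJ4704)) (BT.node 4705 (BT.leaf cJ4705) (BT.leaf cJ4706))) (BT.node 4709 (BT.node 4708 (BT.node 4707 (BT.leaf cJ4707) (BT.leaf cJ4708)) (BT.leaf cJ4709)) (BT.node 4710 (BT.leaf cJ4710) (BT.leaf cJ4711))))))) (BT.node 4753 (BT.node 4732 (BT.node 4722 (BT.node 4717 (BT.node 4714 (BT.node 4713 (BT.node 4712 (BT.leaf cJ4712) (BT.leaf cJ4713)) (BT.leaf cJ4714)) (BT.node 4716 (BT.node 4715 (BT.leaf cJ4715) (BT.leaf cJ4716)) (BT.leaf cJ4717))) (BT.node 4720 (BT.node 4719 (BT.node 4718 (BT.leaf cJ4718) (BT.leaf cJ4719)) (BT.leaf cJ4720)) (BT.node 4721 (BT.leaf cJ4721) (BT.leaf cJ4722)))) (BT.node 4727 (BT.node 4725 (BT.node 4724 (BT.node 4723 (BT.leaf cJ4723) (BT.leaf cJ4724)) (BT.leaf cJ4725)) (BT.node 4726 (BT.leaf cJ4726) (BT.leaf cJ4727))) (BT.node 4730 (BT.node 4729 (BT.node 4728 (BT.leaf cJ4728) (BT.leaf cJ4729)) (BT.leaf cJ4730)) (BT.node 4731 (BT.leaf cJ4731) (BT.leaf cJ4732))))) (BT.node 4743 (BT.node 4738 (BT.node 4735 (BT.node 4734 (BT.node 4733 (BT.leaf cJ4733) (BT.leaf cJ4734)) (BT.leaf cJ4735)) (BT.node 4737 (BT.node 4736 (BT.leaf cJ4736) (BT.leaf cJ4737)) (BT.leaf cJ4738))) (BT.node 4741 (BT.node 4740 (BT.node 4739 (BT.leaf cJ4739) (BT.leaf cJ4740)) (BT.leaf cJ4741)) (BT.node 4742 (BT.leaf cJ4742) (BT.leaf cJ4743)))) (BT.node 4748 (BT.node 4746 (BT.node 4745 (BT.node 4744 (BT.leaf cJ4744) (BT.leaf cJ4745)) (BT.leaf cJ4746)) (BT.node 4747 (BT.leaf cJ4747) (BT.leaf cJ4748))) (BT.node 4751 (BT.node 4750 (BT.node 4749 (BT.leaf cJ4749) (BT.leaf cJ4750)) (BT.leaf cJ4751)) (BT.node 4752 (BT.leaf cJ4752) (BT.leaf cJ4753)))))) (BT.node 4774 (BT.node 4764 (BT.node 4759 (BT.node 4756 (BT.node 4755 (BT.node 4754 (BT.leaf cJ4754) (BT.leaf cJ4755)) (BT.leaf cJ4756)) (BT.node 4758 (BT.node 4757 (BT.leaf cJ4757) (BT.leaf cJ4758)) (BT.leaf cJ4759))) (BT.node 4762 (BT.node 4761 (BT.node 4760 (BT.leaf cJ4760) (BT.leaf cJ4761)) (BT.leaf cJ4762)) (BT.node 4763 (BT.leaf cJ4763) (BT.leaf cJ4764)))) (BT.node 4769 (BT.node 4767 (BT.node 4766 (BT.node 4765 (BT.leaf cJ4765) (BT.leaf cJ4766)) (BT.leaf cJ4767)) (BT.node 4768 (BT.leaf cJ4768) (BT.leaf cJ4769))) (BT.node 4772 (BT.node 4771 (BT.node 4770 (BT.leaf cJ4770) (BT.leaf cJ4771)) (BT.leaf cJ4772)) (BT.node 4773 (BT.leaf cJ4773) (BT.leaf cJ4774))))) (BT.node 4784 (BT.node 4779 (BT.node 4777 (BT.node 4776 (BT.node 4775 (BT.leaf cJ4775) (BT.leaf cJ4776)) (BT.leaf cJ4777)) (BT.node 4778 (BT.leaf cJ4778) (BT.leaf cJ4779))) (BT.node 4782 (BT.node 4781 (BT.node 4780 (BT.leaf cJ4780) (BT.leaf cJ4781)) (BT.leaf cJ4782)) (BT.node 4783 (BT.leaf cJ4783) (BT.leaf cJ4784)))) (BT.node 4789 (BT.node 4787 (BT.node 4786 (BT.node 4785 (BT.leaf cJ4785) (BT.leaf cJ4786)) (BT.leaf cJ4787)) (BT.node 4788 (BT.leaf cJ4788) (BT.leaf cJ4789))) (BT.node 4792 (BT.node 4791 (BT.node 4790 (BT.leaf cJ4790) (BT.leaf cJ4791)) (BT.leaf cJ4792)) (BT.node 4793 (BT.leaf cJ4793) (BT.leaf cJ4794)))))))) (BT.node 4877 (BT.node 4836 (BT.node 4815 (BT.node 4805 (BT.node 4800 (BT.node 4797 (BT.node 4796 (BT.node 4795 (BT.leaf cJ4795) (BT.leaf cJ4796)) (BT.leaf cJ4797)) (BT.node 4799 (BT.node 4798 (BT.leaf cJ4798) (BT.leaf cJ4799)) (BT.leaf cJ4800))) (BT.node 4803 (BT.node 4802 (BT.node 4801 (BT.leaf cJ4801) (BT.leaf cJ4802)) (BT.leaf cJ4803)) (BT.node 4804 (BT.leaf cJ4804) (BT.leaf cJ4805)))) (BT.node 4810 (BT.node 4808 (BT.node 4807 (BT.node 4806 (BT.leaf cJ4806) (BT.leaf cJ4807)) (BT.leaf cJ4808)) (BT.node 4809 (BT.leaf cJ4809) (BT.leaf cJ4810))) (BT.node 4813 (BT.node 4812 (BT.node 4811 (BT.leaf cJ4811) (BT.leaf cJ4812)) (BT.leaf cJ4813)) (BT.node 4814 (BT.leaf cJ4814) (BT.leaf cJ4815))))) (BT.node 4826 (BT.node 4821 (BT.node 4818 (BT.node 4817 (BT.node 4816 (BT.leaf cJ4816) (BT.leaf cJ4817)) (BT.leaf cJ4818)) (BT.node 4820 (BT.node 4819 (BT.leaf cJ4819) (BT.leaf cJ4820)) (BT.leaf cJ4821))) (BT.node 4824 (BT.node 4823 (BT.node 4822 (BT.leaf cJ4822) (BT.leaf cJ4823)) (BT.leaf cJ4824)) (BT.node 4825 (BT.leaf cJ4825) (BT.leaf cJ4826)))) (BT.node 4831 (BT.node 4829 (BT.node 4828 (BT.node 4827 (BT.leaf cJ4827) (BT.leaf cJ4828)) (BT.leaf cJ4829)) (BT.node 4830 (BT.leaf cJ4830) (BT.leaf cJ4831))) (BT.node 4834 (BT.node 4833 (BT.node 4832 (BT.leaf cJ4832) (BT.leaf cJ4833)) (BT.leaf cJ4834)) (BT.node 4835 (BT.leaf cJ4835) (BT.leaf cJ4836)))))) (BT.node 4857 (BT.node 4847 (BT.node 4842 (BT.node 4839 (BT.node 4838 (BT.node 4837 (BT.leaf cJ4837) (BT.leaf cJ4838)) (BT.leaf cJ4839)) (BT.node 4841 (BT.node 4840 (BT.leaf cJ4840) (BT.leaf cJ4841)) (BT.leaf cJ4842))) (BT.node 4845 (BT.node 4844 (BT.node 4843 (BT.leaf cJ4843) (BT.leaf cJ4844)) (BT.leaf cJ4845)) (BT.node 4846 (BT.leaf cJ4846) (BT.leaf cJ4847)))) (BT.node 4852 (BT.node 4850 (BT.node 4849 (BT.node 4848 (BT.leaf cJ4848) (BT.leaf cJ4849)) (BT.leaf cJ4850)) (BT.node 4851 (BT.leaf cJ4851) (BT.leaf cJ4852))) (BT.node 4855 (BT.node 4854 (BT.node 4853 (BT.leaf cJ4853) (BT.leaf cJ4854)) (BT.leaf cJ4855)) (BT.node 4856 (BT.leaf cJ4856) (BT.leaf cJ4857))))) (BT.node 4867 (BT.node 4862 (BT.node 4860 (BT.node 4859 (BT.node 4858 (BT.leaf cJ4858) (BT.leaf cJ4859)) (BT.leaf cJ4860)) (BT.node 4861 (BT.leaf cJ4861) (BT.leaf cJ4862))) (BT.node 4865 (BT.node 4864 (BT.node 4863 (BT.leaf cJ4863) (BT.leaf cJ4864)) (BT.leaf cJ4865)) (BT.node 4866 (BT.leaf cJ4866) (BT.leaf cJ4867)))) (BT.node 4872 (BT.node 4870 (BT.node 4869 (BT.node 4868 (BT.leaf cJ4868) (BT.leaf cJ4869)) (BT.leaf cJ4870)) (BT.node 4871 (BT.leaf cJ4871) (BT.leaf cJ4872))) (BT.node 4875 (BT.node 4874 (BT.node 4873 (BT.leaf cJ4873) (BT.leaf cJ4874)) (BT.leaf cJ4875)) (BT.node 4876 (BT.leaf cJ4876) (BT.leaf cJ4877))))))) (BT.node 4918 (BT.node 4898 (BT.node 4888 (BT.node 4883 (BT.node 4880 (BT.node 4879 (BT.node 4878 (BT.leaf cJ4878) (BT.leaf cJ4879)) (BT.leaf cJ4880)) (BT.node 4882 (BT.node 4881 (BT.leaf cJ4881) (BT.leaf cJ4882)) (BT.leaf cJ4883))) (BT.node 4886 (BT.node 4885 (BT.node 4884 (BT.leaf cJ4884) (BT.leaf cJ4885)) (BT.leaf cJ4886)) (BT.node 4887 (BT.leaf cJ4887) (BT.leaf cJ4888)))) (BT.node 4893 (BT.node 4891 (BT.node 4890 (BT.node 4889 (BT.leaf cJ4889) (BT.leaf cJ4890)) (BT.leaf cJ4891)) (BT.node 4892 (BT.leaf cJ4892) (BT.leaf cJ4893))) (BT.node 4896 (BT.node 4895 (BT.node 4894 (BT.leaf cJ4894) (BT.leaf cJ4895)) (BT.leaf cJ4896)) (BT.node 4897 (BT.leaf cJ4897) (BT.leaf cJ4898))))) (BT.node 4908 (BT.node 4903 (BT.node 4901 (BT.node 4900 (BT.node 4899 (BT.leaf cJ4899) (BT.leaf cJ4900)) (BT.leaf cJ4901)) (BT.node 4902 (BT.leaf cJ4902) (BT.leaf cJ4903))) (BT.node 4906 (BT.node 4905 (BT.node 4904 (BT.leaf cJ4904) (BT.leaf cJ4905)) (BT.leaf cJ4906)) (BT.node 4907 (BT.leaf cJ4907) (BT.leaf cJ4908)))) (BT.node 4913 (BT.node 4911 (BT.node 4910 (BT.node 4909 (BT.leaf cJ4909) (BT.leaf cJ4910)) (BT.leaf cJ4911)) (BT.node 4912 (BT.leaf cJ4912) (BT.leaf cJ4913))) (BT.node 4916 (BT.node 4915 (BT.node 4914 (BT.leaf cJ4914) (BT.leaf cJ4915)) (BT.leaf cJ4916)) (BT.node 4917 (BT.leaf cJ4917) (BT.leaf cJ4918)))))) (BT.node 4939 (BT.node 4929 (BT.node 4924 (BT.node 4921 (BT.node 4920 (BT.node 4919 (BT.leaf cJ4919) (BT.leaf cJ4920)) (BT.leaf cJ4921)) (BT.node 4923 (BT.node 4922 (BT.leaf cJ4922) (BT.leaf cJ4923)) (BT.leaf cJ4924))) (BT.node 4927 (BT.node 4926 (BT.node 4925 (BT.leaf cJ4925) (BT.leaf cJ4926)) (BT.leaf cJ4927)) (BT.node 4928 (BT.leaf cJ4928) (BT.leaf cJ4929)))) (BT.node 4934 (BT.node 4932 (BT.node 4931 (BT.node 4930 (BT.leaf cJ4930) (BT.leaf cJ4931)) (BT.leaf cJ4932)) (BT.node 4933 (BT.leaf cJ4933) (BT.leaf cJ4934))) (BT.node 4937 (BT.node 4936 (BT.node 4935 (BT.leaf cJ4935) (BT.leaf cJ4936)) (BT.leaf cJ4937)) (BT.node 4938 (BT.leaf cJ4938) (BT.leaf cJ4939))))) (BT.node 4949 (BT.node 4944 (BT.node 4942 (BT.node 4941 (BT.node 4940 (BT.leaf cJ4940) (BT.leaf cJ4941)) (BT.leaf cJ4942)) (BT.node 4943 (BT.leaf cJ4943) (BT.leaf cJ4944))) (BT.node 4947 (BT.node 4946 (BT.node 4945 (BT.leaf cJ4945) (BT.leaf cJ4946)) (BT.leaf cJ4947)) (BT.node 4948 (BT.leaf cJ4948) (BT.leaf cJ4949)))) (BT.node 4954 (BT.node 4952 (BT.node 4951 (BT.node 4950 (BT.leaf cJ4950) (BT.leaf cJ4951)) (BT.leaf cJ4952)) (BT.node 4953 (BT.leaf cJ4953) (BT.leaf cJ4954))) (BT.node 4957 (BT.node 4956 (BT.node 4955 (BT.leaf cJ4955) (BT.leaf cJ4956)) (BT.leaf cJ4957)) (BT.node 4958 (BT.leaf cJ4958) (BT.leaf cJ4959))))))))) (BT.node 5124 (BT.node 5042 (BT.node 5001 (BT.node 4980 (BT.node 4970 (BT.node 4965 (BT.node 4962 (BT.node 4961 (BT.node 4960 (BT.leaf cJ4960) (BT.leaf cJ4961)) (BT.leaf cJ4962)) (BT.node 4964 (BT.node 4963 (BT.leaf cJ4963) (BT.leaf cJ4964)) (BT.leaf cJ4965))) (BT.node 4968 (BT.node 4967 (BT.node 4966 (BT.leaf cJ4966) (BT.leaf cJ4967)) (BT.leaf cJ4968)) (BT.node 4969 (BT.leaf cJ4969) (BT.leaf cJ4970)))) (BT.node 4975 (BT.node 4973 (BT.node 4972 (BT.node 4971 (BT.leaf cJ4971) (BT.leaf cJ4972)) (BT.leaf cJ4973)) (BT.node 4974 (BT.leaf cJ4974) (BT.leaf cJ4975))) (BT.node 4978 (BT.node 4977 (BT.node 4976 (BT.leaf cJ4976) (BT.leaf cJ4977)) (BT.leaf cJ4978)) (BT.node 4979 (BT.leaf cJ4979) (BT.leaf cJ4980))))) (BT.node 4991 (BT.node 4986 (BT.node 4983 (BT.node 4982 (BT.node 4981 (BT.leaf cJ4981) (BT.leaf cJ4982)) (BT.leaf cJ4983)) (BT.node 4985 (BT.node 4984 (BT.leaf cJ4984) (BT.leaf cJ4985)) (BT.leaf cJ4986))) (BT.node 4989 (BT.node 4988 (BT.node 4987 (BT.leaf cJ4987) (BT.leaf cJ4988)) (BT.leaf cJ4989)) (BT.node 4990 (BT.leaf cJ4990) (BT.leaf cJ4991)))) (BT.node 4996 (BT.node 4994 (BT.node 4993 (BT.node 4992 (BT.leaf cJ4992) (BT.leaf cJ4993)) (BT.leaf cJ4994)) (BT.node 4995 (BT.leaf cJ4995) (BT.leaf cJ4996))) (BT.node 4999 (BT.node 4998 (BT.node 4997 (BT.leaf cJ4997) (BT.leaf cJ4998)) (BT.leaf cJ4999)) (BT.node 5000 (BT.leaf cJ5000) (BT.leaf cJ5001)))))) (BT.node 5022 (BT.node 5012 (BT.node 5007 (BT.node 5004 (BT.node 5003 (BT.node 5002 (BT.leaf cJ5002) (BT.leaf cJ5003)) (BT.leaf cJ5004)) (BT.node 5006 (BT.node 5005 (BT.leaf cJ5005) (BT.leaf cJ5006)) (BT.leaf cJ5007))) (BT.node 5010 (BT.node 5009 (BT.node 5008 (BT.leaf cJ5008) (BT.leaf cJ5009)) (BT.leaf cJ5010)) (BT.node 5011 (BT.leaf cJ5011) (BT.leaf cJ5012)))) (BT.node 5017 (BT.node 5015 (BT.node 5014 (BT.node 5013 (BT.leaf cJ5013) (BT.leaf cJ5014)) (BT.leaf cJ5015)) (BT.node 5016 (BT.leaf cJ5016) (BT.leaf cJ5017))) (BT.node 5020 (BT.node 5019 (BT.node 5018 (BT.leaf cJ5018) (BT.leaf cJ5019)) (BT.leaf cJ5020)) (BT.node 5021 (BT.leaf cJ5021) (BT.leaf cJ5022))))) (BT.node 5032 (BT.node 5027 (BT.node 5025 (BT.node 5024 (BT.node 5023 (BT.leaf cJ5023) (BT.leaf cJ5024)) (BT.leaf cJ5025)) (BT.node 5026 (BT.leaf cJ5026) (BT.leaf cJ5027))) (BT.node 5030 (BT.node 5029 (BT.node 5028 (BT.leaf cJ5028) (BT.leaf cJ5029)) (BT.leaf cJ5030)) (BT.node 5031 (BT.leaf cJ5031) (BT.leaf cJ5032)))) (BT.node 5037 (BT.node 5035 (BT.node 5034 (BT.node 5033 (BT.leaf cJ5033) (BT.leaf cJ5034)) (BT.leaf cJ5035)) (BT.node 5036 (BT.leaf cJ5036) (BT.leaf cJ5037))) (BT.node 5040 (BT.node 5039 (BT.node 5038 (BT.leaf cJ5038) (BT.leaf cJ5039)) (BT.leaf cJ5040)) (BT.node 5041 (BT.leaf cJ5041) (BT.leaf cJ5042))))))) (BT.node 5083 (BT.node 5063 (BT.node 5053 (BT.node 5048 (BT.node 5045 (BT.node 5044 (BT.node 5043 (BT.leaf cJ5043) (BT.leaf cJ5044)) (BT.leaf cJ5045)) (BT.node 5047 (BT.node 5046 (BT.leaf cJ5046) (BT.leaf cJ5047)) (BT.leaf cJ5048))) (BT.node 5051 (BT.node 5050 (BT.node 5049 (BT.leaf cJ5049) (BT.leaf cJ5050)) (BT.leaf cJ5051)) (BT.node 5052 (BT.leaf cJ5052) (BT.leaf cJ5053)))) (BT.node 5058 (BT.node 5056 (BT.node 5055 (BT.node 5054 (BT.leaf cJ5054) (BT.leaf cJ5055)) (BT.leaf cJ5056)) (BT.node 5057 (BT.leaf cJ5057) (BT.leaf cJ5058))) (BT.node 5061 (BT.node 5060 (BT.node 5059 (BT.leaf cJ5059) (BT.leaf cJ5060)) (BT.leaf cJ5061)) (BT.node 5062 (BT.leaf cJ5062) (BT.leaf cJ5063))))) (BT.node 5073 (BT.node 5068 (BT.node 5066 (BT.node 5065 (BT.node 5064 (BT.leaf cJ5064) (BT.leaf cJ5065)) (BT.leaf cJ5066)) (BT.node 5067 (BT.leaf cJ5067) (BT.leaf cJ5068))) (BT.node 5071 (BT.node 5070 (BT.node 5069 (BT.leaf cJ5069) (BT.leaf cJ5070)) (BT.leaf cJ5071)) (BT.node 5072 (BT.leaf cJ5072) (BT.leaf cJ5073)))) (BT.node 5078 (BT.node 5076 (BT.node 5075 (BT.node 5074 (BT.leaf cJ5074) (BT.leaf cJ5075)) (BT.leaf cJ5076)) (BT.node 5077 (BT.leaf cJ5077) (BT.leaf cJ5078))) (BT.node 5081 (BT.node 5080 (BT.node 5079 (BT.leaf cJ5079) (BT.leaf cJ5080)) (BT.leaf cJ5081)) (BT.node 5082 (BT.leaf cJ5082) (BT.leaf cJ5083)))))) (BT.node 5104 (BT.node 5094 (BT.node 5089 (BT.node 5086 (BT.node 5085 (BT.node 5084 (BT.leaf cJ5084) (BT.leaf cJ5085)) (BT.leaf cJ5086)) (BT.node 5088 (BT.node 5087 (BT.leaf cJ5087) (BT.leaf cJ5088)) (BT.leaf cJ5089))) (BT.node 5092 (BT.node 5091 (BT.node 5090 (BT.leaf cJ5090) (BT.leaf cJ5091)) (BT.leaf cJ5092)) (BT.node 5093 (BT.leaf cJ5093) (BT.leaf cJ5094)))) (BT.node 5099 (BT.node 5097 (BT.node 5096 (BT.node 5095 (BT.leaf cJ5095) (BT.leaf cJ5096)) (BT.leaf cJ5097)) (BT.node 5098 (BT.leaf cJ5098) (BT.leaf cJ5099))) (BT.node 5102 (BT.node 5101 (BT.node 5100 (BT.leaf cJ5100) (BT.leaf cJ5101)) (BT.leaf cJ5102)) (BT.node 5103 (BT.leaf cJ5103) (BT.leaf cJ5104))))) (BT.node 5114 (BT.node 5109 (BT.node 5107 (BT.node 5106 (BT.node 5105 (BT.leaf cJ5105) (BT.leaf cJ5106)) (BT.leaf cJ5107)) (BT.node 5108 (BT.leaf cJ5108) (BT.leaf cJ5109))) (BT.node 5112 (BT.node 5111 (BT.node 5110 (BT.leaf cJ5110) (BT.leaf cJ5111)) (BT.leaf cJ5112)) (BT.node 5113 (BT.leaf cJ5113) (BT.leaf cJ5114)))) (BT.node 5119 (BT.node 5117 (BT.node 5116 (BT.node 5115 (BT.leaf cJ5115) (BT.leaf cJ5116)) (BT.leaf cJ5117)) (BT.node 5118 (BT.leaf cJ5118) (BT.leaf cJ5119))) (BT.node 5122 (BT.node 5121 (BT.node 5120 (BT.leaf cJ5120) (BT.leaf cJ5121)) (BT.leaf cJ5122)) (BT.node 5123 (BT.leaf cJ5123) (BT.leaf cJ5124)))))))) (BT.node 5207 (BT.node 5166 (BT.node 5145 (BT.node 5135 (BT.node 5130 (BT.node 5127 (BT.node 5126 (BT.node 5125 (BT.leaf cJ5125) (BT.leaf cJ5126)) (BT.leaf cJ5127)) (BT.node 5129 (BT.node 5128 (BT.leaf cJ5128) (BT.leaf cJ5129)) (BT.leaf cJ5130))) (BT.node 5133 (BT.node 5132 (BT.node 5131 (BT.leaf cJ5131) (BT.leaf cJ5132)) (BT.leaf cJ5133)) (BT.node 5134 (BT.leaf cJ5134) (BT.leaf cJ5135)))) (BT.node 5140 (BT.node 5138 (BT.node 5137 (BT.node 5136 (BT.leaf cJ5136) (BT.leaf cJ5137)) (BT.leaf cJ5138)) (BT.node 5139 (BT.leaf cJ5139) (BT.leaf cJ5140))) (BT.node 5143 (BT.node 5142 (BT.node 5141 (BT.leaf cJ5141) (BT.leaf cJ5142)) (BT.leaf cJ5143)) (BT.node 5144 (BT.leaf cJ5144) (BT.leaf cJ5145))))) (BT.node 5156 (BT.node 5151 (BT.node 5148 (BT.node 5147 (BT.node 5146 (BT.leaf cJ5146) (BT.leaf cJ5147)) (BT.leaf cJ5148)) (BT.node 5150 (BT.node 5149 (BT.leaf cJ5149) (BT.leaf cJ5150)) (BT.leaf cJ5151))) (BT.node 5154 (BT.node 5153 (BT.node 5152 (BT.leaf cJ5152) (BT.leaf cJ5153)) (BT.leaf cJ5154)) (BT.node 5155 (BT.leaf cJ5155) (BT.leaf cJ5156)))) (BT.node 5161 (BT.node 5159 (BT.node 5158 (BT.node 5157 (BT.leaf cJ5157) (BT.leaf cJ5158)) (BT.leaf cJ5159)) (BT.node 5160 (BT.leaf cJ5160) (BT.leaf cJ5161))) (BT.node 5164 (BT.node 5163 (BT.node 5162 (BT.leaf cJ5162) (BT.leaf cJ5163)) (BT.leaf cJ5164)) (BT.node 5165 (BT.leaf cJ5165) (BT.leaf cJ5166)))))) (BT.node 5187 (BT.node 5177 (BT.node 5172 (BT.node 5169 (BT.node 5168 (BT.node 5167 (BT.leaf cJ5167) (BT.leaf cJ5168)) (BT.leaf cJ5169)) (BT.node 5171 (BT.node 5170 (BT.leaf cJ5170) (BT.leaf cJ5171)) (BT.leaf cJ5172))) (BT.node 5175 (BT.node 5174 (BT.node 5173 (BT.leaf cJ5173) (BT.leaf cJ5174)) (BT.leaf cJ5175)) (BT.node 5176 (BT.leaf cJ5176) (BT.leaf cJ5177)))) (BT.node 5182 (BT.node 5180 (BT.node 5179 (BT.node 5178 (BT.leaf cJ5178) (BT.leaf cJ5179)) (BT.leaf cJ5180)) (BT.node 5181 (BT.leaf cJ5181) (BT.leaf cJ5182))) (BT.node 5185 (BT.node 5184 (BT.node 5183 (BT.leaf cJ5183) (BT.leaf cJ5184)) (BT.leaf cJ5185)) (BT.node 5186 (BT.leaf cJ5186) (BT.leaf cJ5187))))) (BT.node 5197 (BT.node 5192 (BT.node 5190 (BT.node 5189 (BT.node 5188 (BT.leaf cJ5188) (BT.leaf cJ5189)) (BT.leaf cJ5190)) (BT.node 5191 (BT.leaf cJ5191) (BT.leaf cJ5192))) (BT.node 5195 (BT.node 5194 (BT.node 5193 (BT.leaf cJ5193) (BT.leaf cJ5194)) (BT.leaf cJ5195)) (BT.node 5196 (BT.leaf cJ5196) (BT.leaf cJ5197)))) (BT.node 5202 (BT.node 5200 (BT.node 5199 (BT.node 5198 (BT.leaf cJ5198) (BT.leaf cJ5199)) (BT.leaf cJ5200)) (BT.node 5201 (BT.leaf cJ5201) (BT.leaf cJ5202))) (BT.node 5205 (BT.node 5204 (BT.node 5203 (BT.leaf cJ5203) (BT.leaf cJ5204)) (BT.leaf cJ5205)) (BT.node 5206 (BT.leaf cJ5206) (BT.leaf cJ5207))))))) (BT.node 5248 (BT.node 5228 (BT.node 5218 (BT.node 5213 (BT.node 5210 (BT.node 5209 (BT.node 5208 (BT.leaf cJ5208) (BT.leaf cJ5209)) (BT.leaf cJ5210)) (BT.node 5212 (BT.node 5211 (BT.leaf cJ5211) (BT.leaf cJ5212)) (BT.leaf cJ5213))) (BT.node 5216 (BT.node 5215 (BT.node 5214 (BT.leaf cJ5214) (BT.leaf cJ5215)) (BT.leaf cJ5216)) (BT.node 5217 (BT.leaf cJ5217) (BT.leaf cJ5218)))) (BT.node 5223 (BT.node 5221 (BT.node 5220 (BT.node 5219 (BT.leaf cJ5219) (BT.leaf cJ5220)) (BT.leaf cJ5221)) (BT.node 5222 (BT.leaf cJ5222) (BT.leaf cJ5223))) (BT.node 5226 (BT.node 5225 (BT.node 5224 (BT.leaf cJ5224) (BT.leaf cJ5225)) (BT.leaf cJ5226)) (BT.node 5227 (BT.leaf cJ5227) (BT.leaf cJ5228))))) (BT.node 5238 (BT.node 5233 (BT.node 5231 (BT.node 5230 (BT.node 5229 (BT.leaf cJ5229) (BT.leaf cJ5230)) (BT.leaf cJ5231)) (BT.node 5232 (BT.leaf cJ5232) (BT.leaf cJ5233))) (BT.node 5236 (BT.node 5235 (BT.node 5234 (BT.leaf cJ5234) (BT.leaf cJ5235)) (BT.leaf cJ5236)) (BT.node 5237 (BT.leaf cJ5237) (BT.leaf cJ5238)))) (BT.node 5243 (BT.node 5241 (BT.node 5240 (BT.node 5239 (BT.leaf cJ5239) (BT.leaf cJ5240)) (BT.leaf cJ5241)) (BT.node 5242 (BT.leaf cJ5242) (BT.leaf cJ5243))) (BT.node 5246 (BT.node 5245 (BT.node 5244 (BT.leaf cJ5244) (BT.leaf cJ5245)) (BT.leaf cJ5246)) (BT.node 5247 (BT.leaf cJ5247) (BT.leaf cJ5248)))))) (BT.node 5269 (BT.node 5259 (BT.node 5254 (BT.node 5251 (BT.node 5250 (BT.node 5249 (BT.leaf cJ5249) (BT.leaf cJ5250)) (BT.leaf cJ5251)) (BT.node 5253 (BT.node 5252 (BT.leaf cJ5252) (BT.leaf cJ5253)) (BT.leaf cJ5254))) (BT.node 5257 (BT.node 5256 (BT.node 5255 (BT.leaf cJ5255) (BT.leaf cJ5256)) (BT.leaf cJ5257)) (BT.node 5258 (BT.leaf cJ5258) (BT.leaf cJ5259)))) (BT.node 5264 (BT.node 5262 (BT.node 5261 (BT.node 5260 (BT.leaf cJ5260) (BT.leaf cJ5261)) (BT.leaf cJ5262)) (BT.node 5263 (BT.leaf cJ5263) (BT.leaf cJ5264))) (BT.node 5267 (BT.node 5266 (BT.node 5265 (BT.leaf cJ5265) (BT.leaf cJ5266)) (BT.leaf cJ5267)) (BT.node 5268 (BT.leaf cJ5268) (BT.leaf cJ5269))))) (BT.node 5279 (BT.node 5274 (BT.node 5272 (BT.node 5271 (BT.node 5270 (BT.leaf cJ5270) (BT.leaf cJ5271)) (BT.leaf cJ5272)) (BT.node 5273 (BT.leaf cJ5273) (BT.leaf cJ5274))) (BT.node 5277 (BT.node 5276 (BT.node 5275 (BT.leaf cJ5275) (BT.leaf cJ5276)) (BT.leaf cJ5277)) (BT.node 5278 (BT.leaf cJ5278) (BT.leaf cJ5279)))) (BT.node 5284 (BT.node 5282 (BT.node 5281 (BT.node 5280 (BT.leaf cJ5280) (BT.leaf cJ5281)) (BT.leaf cJ5282)) (BT.node 5283 (BT.leaf cJ5283) (BT.leaf cJ5284))) (BT.node 5287 (BT.node 5286 (BT.node 5285 (BT.leaf cJ5285) (BT.leaf cJ5286)) (BT.leaf cJ5287)) (BT.node 5288 (BT.leaf cJ5288) (BT.leaf cJ5289)))))))))))))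
/-- parent chunks -/
def parCT : BT ℕ := (BT.node 528 (BT.node 264 (BT.node 132 (BT.node 66 (BT.node 33 (BT.node 16 (BT.node 8 (BT.node 4 (BT.node 2 (BT.node 1 (BT.node 0 (BT.leaf cP0) (BT.leaf cP1)) (BT.leaf cP2)) (BT.node 3 (BT.leaf cP3) (BT.leaf cP4))) (BT.node 6 (BT.node 5 (BT.leaf cP5) (BT.leaf cP6)) (BT.node 7 (BT.leaf cP7) (BT.leaf cP8)))) (BT.node 12 (BT.node 10 (BT.node 9 (BT.leaf cP9) (BT.leaf cP10)) (BT.node 11 (BT.leaf cP11) (BT.leaf cP12))) (BT.node 14 (BT.node 13 (BT.leaf cP13) (BT.leaf cP14)) (BT.node 15 (BT.leaf cP15) (BT.leaf cP16))))) (BT.node 25 (BT.node 21 (BT.node 19 (BT.node 18 (BT.node 17 (BT.leaf cP17) (BT.leaf cP18)) (BT.leaf cP19)) (BT.node 20 (BT.leaf cP20) (BT.leaf cP21))) (BT.node 23 (BT.node 22 (BT.leaf cP22) (BT.leaf cP23)) (BT.node 24 (BT.leaf cP24) (BT.leaf cP25)))) (BT.node 29 (BT.node 27 (BT.node 26 (BT.leaf cP26) (BT.leaf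 cP27)) (BT.node 28 (BT.leaf cP28) (BT.leaf cP29))) (BT.node 31 (BT.node 30 (BT.leaf cP30) (BT.leaf cP31)) (BT.node 32 (BT.leaf cP32) (BT.leaf cP33)))))) (BT.node 50 (BT.node 42 (BT.node 38 (BT.node 36 (BT.node 35 (BT.node 34 (BT.leaf cP34) (BT.leaf cP35)) (BT.leaf cP36)) (BT.node 37 (BT.leaf cP37) (BT.leaf cP38))) (BT.node 40 (BT.node 39 (BT.leaf cP39) (BT.leaf cP40)) (BT.node 41 (BT.leaf cP41) (BT.leaf cP42)))) (BT.node 46 (BT.node 44 (BT.node 43 (BT.leaf cP43) (BT.leaf cP44)) (BT.node 45 (BT.leaf cP45) (BT.leaf cP46))) (BT.node 48 (BT.node 47 (BT.leaf cP47) (BT.leaf cP48)) (BT.node 49 (BT.leaf cP49) (BT.leaf cP50))))) (BT.node 58 (BT.node 54 (BT.node 52 (BT.node 51 (BT.leaf cP51) (BT.leaf cP52)) (BT.node 53 (BT.leaf cP53) (BT.leaf cP54))) (BT.node 56 (BT.node 55 (BT.leaf cP55) (BT.leaf cP56)) (BT.node 57 (BT.leaf cP57) (BT.leaf cP58)))) (BT.node 62 (BT.node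 60 (BT.node 59 (BT.leaf cP59) (BT.leaf cP60)) (BT.node 61 (BT.leaf cP61) (BT.leaf cP62))) (BT.node 64 (BT.node 63 (BT.leaf cP63) (BT.leaf cP64)) (BT.node 65 (BT.leaf cP65) (BT.leaf cP66))))))) (BT.node 99 (BT.node 83 (BT.node 75 (BT.node 71 (BT.node 69 (BT.node 68 (BT.node 67 (BT.leaf cP67) (BT.leaf cP68)) (BT.leaf cP69)) (BT.node 70 (BT.leaf cP70) (BT.leaf cP71))) (BT.node 73 (BT.node 72 (BT.leaf cP72) (BT.leaf cP73)) (BT.node 74 (BT.leaf cP74) (BT.leaf cP75)))) (BT.node 79 (BT.node 77 (BT.node 76 (BT.leaf cP76) (BT.leaf cP77)) (BT.node 78 (BT.leaf cP78) (BT.leaf cP79))) (BT.node 81 (BT.node 80 (BT.leaf cP80) (BT.leaf cP81)) (BT.node 82 (BT.leaf cP82) (BT.leaf cP83))))) (BT.node 91 (BT.node 87 (BT.node 85 (BT.node 84 (BT.leaf cP84) (BT.leaf cP85)) (BT.node 86 (BT.leaf cP86) (BT.leaf cP87))) (BT.node 89 (BT.node 88 (BT.leaf cP88) (BT.leaf cP89)) (BT.node 90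 (BT.leaf cP90) (BT.leaf cP91)))) (BT.node 95 (BT.node 93 (BT.node 92 (BT.leaf cP92) (BT.leaf cP93)) (BT.node 94 (BT.leaf cP94) (BT.leaf cP95))) (BT.node 97 (BT.node 96 (BT.leaf cP96) (BT.leaf cP97)) (BT.node 98 (BT.leaf cP98) (BT.leaf cP99)))))) (BT.node 116 (BT.node 108 (BT.node 104 (BT.node 102 (BT.node 101 (BT.node 100 (BT.leaf cP100) (BT.leaf cP101)) (BT.leaf cP102)) (BT.node 103 (BT.leaf cP103) (BT.leaf cP104))) (BT.node 106 (BT.node 105 (BT.leaf cP105) (BT.leaf cP106)) (BT.node 107 (BT.leaf cP107) (BT.leaf cP108)))) (BT.node 112 (BT.node 110 (BT.node 109 (BT.leaf cP109) (BT.leaf cP110)) (BT.node 111 (BT.leaf cP111) (BT.leaf cP112))) (BT.node 114 (BT.node 113 (BT.leaf cP113) (BT.leaf cP114)) (BT.node 115 (BT.leaf cP115) (BT.leaf cP116))))) (BT.node 124 (BT.node 120 (BT.node 118 (BT.node 117 (BT.leaf cP117) (BT.leaf cP118)) (BT.node 119 (BT.leaf cP119) (BT.leaf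 cP120))) (BT.node 122 (BT.node 121 (BT.leaf cP121) (BT.leaf cP122)) (BT.node 123 (BT.leaf cP123) (BT.leaf cP124)))) (BT.node 128 (BT.node 126 (BT.node 125 (BT.leaf cP125) (BT.leaf cP126)) (BT.node 127 (BT.leaf cP127) (BT.leaf cP128))) (BT.node 130 (BT.node 129 (BT.leaf cP129) (BT.leaf cP130)) (BT.node 131 (BT.leaf cP131) (BT.leaf cP132)))))))) (BT.node 198 (BT.node 165 (BT.node 149 (BT.node 141 (BT.node 137 (BT.node 135 (BT.node 134 (BT.node 133 (BT.leaf cP133) (BT.leaf cP134)) (BT.leaf cP135)) (BT.node 136 (BT.leaf cP136) (BT.leaf cP137))) (BT.node 139 (BT.node 138 (BT.leaf cP138) (BT.leaf cP139)) (BT.node 140 (BT.leaf cP140) (BT.leaf cP141)))) (BT.node 145 (BT.node 143 (BT.node 142 (BT.leaf cP142) (BT.leaf cP143)) (BT.node 144 (BT.leaf cP144) (BT.leaf cP145))) (BT.node 147 (BT.node 146 (BT.leaf cP146) (BT.leaf cP147)) (BT.node 148 (BT.leaf cP148) (BT.leaf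 cP149))))) (BT.node 157 (BT.node 153 (BT.node 151 (BT.node 150 (BT.leaf cP150) (BT.leaf cP151)) (BT.node 152 (BT.leaf cP152) (BT.leaf cP153))) (BT.node 155 (BT.node 154 (BT.leaf cP154) (BT.leaf cP155)) (BT.node 156 (BT.leaf cP156) (BT.leaf cP157)))) (BT.node 161 (BT.node 159 (BT.node 158 (BT.leaf cP158) (BT.leaf cP159)) (BT.node 160 (BT.leaf cP160) (BT.leaf cP161))) (BT.node 163 (BT.node 162 (BT.leaf cP162) (BT.leaf cP163)) (BT.node 164 (BT.leaf cP164) (BT.leaf cP165)))))) (BT.node 182 (BT.node 174 (BT.node 170 (BT.node 168 (BT.node 167 (BT.node 166 (BT.leaf cP166) (BT.leaf cP167)) (BT.leaf cP168)) (BT.node 169 (BT.leaf cP169) (BT.leaf cP170))) (BT.node 172 (BT.node 171 (BT.leaf cP171) (BT.leaf cP172)) (BT.node 173 (BT.leaf cP173) (BT.leaf cP174)))) (BT.node 178 (BT.node 176 (BT.node 175 (BT.leaf cP175) (BT.leaf cP176)) (BT.node 177 (BT.leaf cP177) (BT.leaf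 cP178))) (BT.node 180 (BT.node 179 (BT.leaf cP179) (BT.leaf cP180)) (BT.node 181 (BT.leaf cP181) (BT.leaf cP182))))) (BT.node 190 (BT.node 186 (BT.node 184 (BT.node 183 (BT.leaf cP183) (BT.leaf cP184)) (BT.node 185 (BT.leaf cP185) (BT.leaf cP186))) (BT.node 188 (BT.node 187 (BT.leaf cP187) (BT.leaf cP188)) (BT.node 189 (BT.leaf cP189) (BT.leaf cP190)))) (BT.node 194 (BT.node 192 (BT.node 191 (BT.leaf cP191) (BT.leaf cP192)) (BT.node 193 (BT.leaf cP193) (BT.leaf cP194))) (BT.node 196 (BT.node 195 (BT.leaf cP195) (BT.leaf cP196)) (BT.node 197 (BT.leaf cP197) (BT.leaf cP198))))))) (BT.node 231 (BT.node 215 (BT.node 207 (BT.node 203 (BT.node 201 (BT.node 200 (BT.node 199 (BT.leaf cP199) (BT.leaf cP200)) (BT.leaf cP201)) (BT.node 202 (BT.leaf cP202) (BT.leaf cP203))) (BT.node 205 (BT.node 204 (BT.leaf cP204) (BT.leaf cP205)) (BT.node 206 (BT.leaf cP206) (BT.leaf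 cP207)))) (BT.node 211 (BT.node 209 (BT.node 208 (BT.leaf cP208) (BT.leaf cP209)) (BT.node 210 (BT.leaf cP210) (BT.leaf cP211))) (BT.node 213 (BT.node 212 (BT.leaf cP212) (BT.leaf cP213)) (BT.node 214 (BT.leaf cP214) (BT.leaf cP215))))) (BT.node 223 (BT.node 219 (BT.node 217 (BT.node 216 (BT.leaf cP216) (BT.leaf cP217)) (BT.node 218 (BT.leaf cP218) (BT.leaf cP219))) (BT.node 221 (BT.node 220 (BT.leaf cP220) (BT.leaf cP221)) (BT.node 222 (BT.leaf cP222) (BT.leaf cP223)))) (BT.node 227 (BT.node 225 (BT.node 224 (BT.leaf cP224) (BT.leaf cP225)) (BT.node 226 (BT.leaf cP226) (BT.leaf cP227))) (BT.node 229 (BT.node 228 (BT.leaf cP228) (BT.leaf cP229)) (BT.node 230 (BT.leaf cP230) (BT.leaf cP231)))))) (BT.node 248 (BT.node 240 (BT.node 236 (BT.node 234 (BT.node 233 (BT.node 232 (BT.leaf cP232) (BT.leaf cP233)) (BT.leaf cP234)) (BT.node 235 (BT.leaf cP235) (BT.leaf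 cP236))) (BT.node 238 (BT.node 237 (BT.leaf cP237) (BT.leaf cP238)) (BT.node 239 (BT.leaf cP239) (BT.leaf cP240)))) (BT.node 244 (BT.node 242 (BT.node 241 (BT.leaf cP241) (BT.leaf cP242)) (BT.node 243 (BT.leaf cP243) (BT.leaf cP244))) (BT.node 246 (BT.node 245 (BT.leaf cP245) (BT.leaf cP246)) (BT.node 247 (BT.leaf cP247) (BT.leaf cP248))))) (BT.node 256 (BT.node 252 (BT.node 250 (BT.node 249 (BT.leaf cP249) (BT.leaf cP250)) (BT.node 251 (BT.leaf cP251) (BT.leaf cP252))) (BT.node 254 (BT.node 253 (BT.leaf cP253) (BT.leaf cP254)) (BT.node 255 (BT.leaf cP255) (BT.leaf cP256)))) (BT.node 260 (BT.node 258 (BT.node 257 (BT.leaf cP257) (BT.leaf cP258)) (BT.node 259 (BT.leaf cP259) (BT.leaf cP260))) (BT.node 262 (BT.node 261 (BT.leaf cP261) (BT.leaf cP262)) (BT.node 263 (BT.leaf cP263) (BT.leaf cP264))))))))) (BT.node 396 (BT.node 330 (BT.node 297 (BT.node 281 (BT.node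 273 (BT.node 269 (BT.node 267 (BT.node 266 (BT.node 265 (BT.leaf cP265) (BT.leaf cP266)) (BT.leaf cP267)) (BT.node 268 (BT.leaf cP268) (BT.leaf cP269))) (BT.node 271 (BT.node 270 (BT.leaf cP270) (BT.leaf cP271)) (BT.node 272 (BT.leaf cP272) (BT.leaf cP273)))) (BT.node 277 (BT.node 275 (BT.node 274 (BT.leaf cP274) (BT.leaf cP275)) (BT.node 276 (BT.leaf cP276) (BT.leaf cP277))) (BT.node 279 (BT.node 278 (BT.leaf cP278) (BT.leaf cP279)) (BT.node 280 (BT.leaf cP280) (BT.leaf cP281))))) (BT.node 289 (BT.node 285 (BT.node 283 (BT.node 282 (BT.leaf cP282) (BT.leaf cP283)) (BT.node 284 (BT.leaf cP284) (BT.leaf cP285))) (BT.node 287 (BT.node 286 (BT.leaf cP286) (BT.leaf cP287)) (BT.node 288 (BT.leaf cP288) (BT.leaf cP289)))) (BT.node 293 (BT.node 291 (BT.node 290 (BT.leaf cP290) (BT.leaf cP291)) (BT.node 292 (BT.leaf cP292) (BT.leaf cP293))) (BT.node 295 (BT.node 294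 (BT.leaf cP294) (BT.leaf cP295)) (BT.node 296 (BT.leaf cP296) (BT.leaf cP297)))))) (BT.node 314 (BT.node 306 (BT.node 302 (BT.node 300 (BT.node 299 (BT.node 298 (BT.leaf cP298) (BT.leaf cP299)) (BT.leaf cP300)) (BT.node 301 (BT.leaf cP301) (BT.leaf cP302))) (BT.node 304 (BT.node 303 (BT.leaf cP303) (BT.leaf cP304)) (BT.node 305 (BT.leaf cP305) (BT.leaf cP306)))) (BT.node 310 (BT.node 308 (BT.node 307 (BT.leaf cP307) (BT.leaf cP308)) (BT.node 309 (BT.leaf cP309) (BT.leaf cP310))) (BT.node 312 (BT.node 311 (BT.leaf cP311) (BT.leaf cP312)) (BT.node 313 (BT.leaf cP313) (BT.leaf cP314))))) (BT.node 322 (BT.node 318 (BT.node 316 (BT.node 315 (BT.leaf cP315) (BT.leaf cP316)) (BT.node 317 (BT.leaf cP317) (BT.leaf cP318))) (BT.node 320 (BT.node 319 (BT.leaf cP319) (BT.leaf cP320)) (BT.node 321 (BT.leaf cP321) (BT.leaf cP322)))) (BT.node 326 (BT.node 324 (BT.node 323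 (BT.leaf cP323) (BT.leaf cP324)) (BT.node 325 (BT.leaf cP325) (BT.leaf cP326))) (BT.node 328 (BT.node 327 (BT.leaf cP327) (BT.leaf cP328)) (BT.node 329 (BT.leaf cP329) (BT.leaf cP330))))))) (BT.node 363 (BT.node 347 (BT.node 339 (BT.node 335 (BT.node 333 (BT.node 332 (BT.node 331 (BT.leaf cP331) (BT.leaf cP332)) (BT.leaf cP333)) (BT.node 334 (BT.leaf cP334) (BT.leaf cP335))) (BT.node 337 (BT.node 336 (BT.leaf cP336) (BT.leaf cP337)) (BT.node 338 (BT.leaf cP338) (BT.leaf cP339)))) (BT.node 343 (BT.node 341 (BT.node 340 (BT.leaf cP340) (BT.leaf cP341)) (BT.node 342 (BT.leaf cP342) (BT.leaf cP343))) (BT.node 345 (BT.node 344 (BT.leaf cP344) (BT.leaf cP345)) (BT.node 346 (BT.leaf cP346) (BT.leaf cP347))))) (BT.node 355 (BT.node 351 (BT.node 349 (BT.node 348 (BT.leaf cP348) (BT.leaf cP349)) (BT.node 350 (BT.leaf cP350) (BT.leaf cP351))) (BT.node 353 (BT.node 352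 (BT.leaf cP352) (BT.leaf cP353)) (BT.node 354 (BT.leaf cP354) (BT.leaf cP355)))) (BT.node 359 (BT.node 357 (BT.node 356 (BT.leaf cP356) (BT.leaf cP357)) (BT.node 358 (BT.leaf cP358) (BT.leaf cP359))) (BT.node 361 (BT.node 360 (BT.leaf cP360) (BT.leaf cP361)) (BT.node 362 (BT.leaf cP362) (BT.leaf cP363)))))) (BT.node 380 (BT.node 372 (BT.node 368 (BT.node 366 (BT.node 365 (BT.node 364 (BT.leaf cP364) (BT.leaf cP365)) (BT.leaf cP366)) (BT.node 367 (BT.leaf cP367) (BT.leaf cP368))) (BT.node 370 (BT.node 369 (BT.leaf cP369) (BT.leaf cP370)) (BT.node 371 (BT.leaf cP371) (BT.leaf cP372)))) (BT.node 376 (BT.node 374 (BT.node 373 (BT.leaf cP373) (BT.leaf cP374)) (BT.node 375 (BT.leaf cP375) (BT.leaf cP376))) (BT.node 378 (BT.node 377 (BT.leaf cP377) (BT.leaf cP378)) (BT.node 379 (BT.leaf cP379) (BT.leaf cP380))))) (BT.node 388 (BT.node 384 (BT.node 382 (BT.node 381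 (BT.leaf cP381) (BT.leaf cP382)) (BT.node 383 (BT.leaf cP383) (BT.leaf cP384))) (BT.node 386 (BT.node 385 (BT.leaf cP385) (BT.leaf cP386)) (BT.node 387 (BT.leaf cP387) (BT.leaf cP388)))) (BT.node 392 (BT.node 390 (BT.node 389 (BT.leaf cP389) (BT.leaf cP390)) (BT.node 391 (BT.leaf cP391) (BT.leaf cP392))) (BT.node 394 (BT.node 393 (BT.leaf cP393) (BT.leaf cP394)) (BT.node 395 (BT.leaf cP395) (BT.leaf cP396)))))))) (BT.node 462 (BT.node 429 (BT.node 413 (BT.node 405 (BT.node 401 (BT.node 399 (BT.node 398 (BT.node 397 (BT.leaf cP397) (BT.leaf cP398)) (BT.leaf cP399)) (BT.node 400 (BT.leaf cP400) (BT.leaf cP401))) (BT.node 403 (BT.node 402 (BT.leaf cP402) (BT.leaf cP403)) (BT.node 404 (BT.leaf cP404) (BT.leaf cP405)))) (BT.node 409 (BT.node 407 (BT.node 406 (BT.leaf cP406) (BT.leaf cP407)) (BT.node 408 (BT.leaf cP408) (BT.leaf cP409))) (BT.node 411 (BT.node 410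 (BT.leaf cP410) (BT.leaf cP411)) (BT.node 412 (BT.leaf cP412) (BT.leaf cP413))))) (BT.node 421 (BT.node 417 (BT.node 415 (BT.node 414 (BT.leaf cP414) (BT.leaf cP415)) (BT.node 416 (BT.leaf cP416) (BT.leaf cP417))) (BT.node 419 (BT.node 418 (BT.leaf cP418) (BT.leaf cP419)) (BT.node 420 (BT.leaf cP420) (BT.leaf cP421)))) (BT.node 425 (BT.node 423 (BT.node 422 (BT.leaf cP422) (BT.leaf cP423)) (BT.node 424 (BT.leaf cP424) (BT.leaf cP425))) (BT.node 427 (BT.node 426 (BT.leaf cP426) (BT.leaf cP427)) (BT.node 428 (BT.leaf cP428) (BT.leaf cP429)))))) (BT.node 446 (BT.node 438 (BT.node 434 (BT.node 432 (BT.node 431 (BT.node 430 (BT.leaf cP430) (BT.leaf cP431)) (BT.leaf cP432)) (BT.node 433 (BT.leaf cP433) (BT.leaf cP434))) (BT.node 436 (BT.node 435 (BT.leaf cP435) (BT.leaf cP436)) (BT.node 437 (BT.leaf cP437) (BT.leaf cP438)))) (BT.node 442 (BT.node 440 (BT.node 439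 (BT.leaf cP439) (BT.leaf cP440)) (BT.node 441 (BT.leaf cP441) (BT.leaf cP442))) (BT.node 444 (BT.node 443 (BT.leaf cP443) (BT.leaf cP444)) (BT.node 445 (BT.leaf cP445) (BT.leaf cP446))))) (BT.node 454 (BT.node 450 (BT.node 448 (BT.node 447 (BT.leaf cP447) (BT.leaf cP448)) (BT.node 449 (BT.leaf cP449) (BT.leaf cP450))) (BT.node 452 (BT.node 451 (BT.leaf cP451) (BT.leaf cP452)) (BT.node 453 (BT.leaf cP453) (BT.leaf cP454)))) (BT.node 458 (BT.node 456 (BT.node 455 (BT.leaf cP455) (BT.leaf cP456)) (BT.node 457 (BT.leaf cP457) (BT.leaf cP458))) (BT.node 460 (BT.node 459 (BT.leaf cP459) (BT.leaf cP460)) (BT.node 461 (BT.leaf cP461) (BT.leaf cP462))))))) (BT.node 495 (BT.node 479 (BT.node 471 (BT.node 467 (BT.node 465 (BT.node 464 (BT.node 463 (BT.leaf cP463) (BT.leaf cP464)) (BT.leaf cP465)) (BT.node 466 (BT.leaf cP466) (BT.leaf cP467))) (BT.node 469 (BT.node 468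 (BT.leaf cP468) (BT.leaf cP469)) (BT.node 470 (BT.leaf cP470) (BT.leaf cP471)))) (BT.node 475 (BT.node 473 (BT.node 472 (BT.leaf cP472) (BT.leaf cP473)) (BT.node 474 (BT.leaf cP474) (BT.leaf cP475))) (BT.node 477 (BT.node 476 (BT.leaf cP476) (BT.leaf cP477)) (BT.node 478 (BT.leaf cP478) (BT.leaf cP479))))) (BT.node 487 (BT.node 483 (BT.node 481 (BT.node 480 (BT.leaf cP480) (BT.leaf cP481)) (BT.node 482 (BT.leaf cP482) (BT.leaf cP483))) (BT.node 485 (BT.node 484 (BT.leaf cP484) (BT.leaf cP485)) (BT.node 486 (BT.leaf cP486) (BT.leaf cP487)))) (BT.node 491 (BT.node 489 (BT.node 488 (BT.leaf cP488) (BT.leaf cP489)) (BT.node 490 (BT.leaf cP490) (BT.leaf cP491))) (BT.node 493 (BT.node 492 (BT.leaf cP492) (BT.leaf cP493)) (BT.node 494 (BT.leaf cP494) (BT.leaf cP495)))))) (BT.node 512 (BT.node 504 (BT.node 500 (BT.node 498 (BT.node 497 (BT.node 496 (BT.leaf cP496) (BT.leaf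 cP497)) (BT.leaf cP498)) (BT.node 499 (BT.leaf cP499) (BT.leaf cP500))) (BT.node 502 (BT.node 501 (BT.leaf cP501) (BT.leaf cP502)) (BT.node 503 (BT.leaf cP503) (BT.leaf cP504)))) (BT.node 508 (BT.node 506 (BT.node 505 (BT.leaf cP505) (BT.leaf cP506)) (BT.node 507 (BT.leaf cP507) (BT.leaf cP508))) (BT.node 510 (BT.node 509 (BT.leaf cP509) (BT.leaf cP510)) (BT.node 511 (BT.leaf cP511) (BT.leaf cP512))))) (BT.node 520 (BT.node 516 (BT.node 514 (BT.node 513 (BT.leaf cP513) (BT.leaf cP514)) (BT.node 515 (BT.leaf cP515) (BT.leaf cP516))) (BT.node 518 (BT.node 517 (BT.leaf cP517) (BT.leaf cP518)) (BT.node 519 (BT.leaf cP519) (BT.leaf cP520)))) (BT.node 524 (BT.node 522 (BT.node 521 (BT.leaf cP521) (BT.leaf cP522)) (BT.node 523 (BT.leaf cP523) (BT.leaf cP524))) (BT.node 526 (BT.node 525 (BT.leaf cP525) (BT.leaf cP526)) (BT.node 527 (BT.leaf cP527) (BT.leaf cP528))))))))))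 (BT.node 793 (BT.node 661 (BT.node 595 (BT.node 562 (BT.node 545 (BT.node 537 (BT.node 533 (BT.node 531 (BT.node 530 (BT.node 529 (BT.leaf cP529) (BT.leaf cP530)) (BT.leaf cP531)) (BT.node 532 (BT.leaf cP532) (BT.leaf cP533))) (BT.node 535 (BT.node 534 (BT.leaf cP534) (BT.leaf cP535)) (BT.node 536 (BT.leaf cP536) (BT.leaf cP537)))) (BT.node 541 (BT.node 539 (BT.node 538 (BT.leaf cP538) (BT.leaf cP539)) (BT.node 540 (BT.leaf cP540) (BT.leaf cP541))) (BT.node 543 (BT.node 542 (BT.leaf cP542) (BT.leaf cP543)) (BT.node 544 (BT.leaf cP544) (BT.leaf cP545))))) (BT.node 554 (BT.node 550 (BT.node 548 (BT.node 547 (BT.node 546 (BT.leaf cP546) (BT.leaf cP547)) (BT.leaf cP548)) (BT.node 549 (BT.leaf cP549) (BT.leaf cP550))) (BT.node 552 (BT.node 551 (BT.leaf cP551) (BT.leaf cP552)) (BT.node 553 (BT.leaf cP553) (BT.leaf cP554)))) (BT.node 558 (BT.node 556 (BT.node 555 (BT.leaf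 cP555) (BT.leaf cP556)) (BT.node 557 (BT.leaf cP557) (BT.leaf cP558))) (BT.node 560 (BT.node 559 (BT.leaf cP559) (BT.leaf cP560)) (BT.node 561 (BT.leaf cP561) (BT.leaf cP562)))))) (BT.node 579 (BT.node 571 (BT.node 567 (BT.node 565 (BT.node 564 (BT.node 563 (BT.leaf cP563) (BT.leaf cP564)) (BT.leaf cP565)) (BT.node 566 (BT.leaf cP566) (BT.leaf cP567))) (BT.node 569 (BT.node 568 (BT.leaf cP568) (BT.leaf cP569)) (BT.node 570 (BT.leaf cP570) (BT.leaf cP571)))) (BT.node 575 (BT.node 573 (BT.node 572 (BT.leaf cP572) (BT.leaf cP573)) (BT.node 574 (BT.leaf cP574) (BT.leaf cP575))) (BT.node 577 (BT.node 576 (BT.leaf cP576) (BT.leaf cP577)) (BT.node 578 (BT.leaf cP578) (BT.leaf cP579))))) (BT.node 587 (BT.node 583 (BT.node 581 (BT.node 580 (BT.leaf cP580) (BT.leaf cP581)) (BT.node 582 (BT.leaf cP582) (BT.leaf cP583))) (BT.node 585 (BT.node 584 (BT.leaf cP584) (BT.leaf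 cP585)) (BT.node 586 (BT.leaf cP586) (BT.leaf cP587)))) (BT.node 591 (BT.node 589 (BT.node 588 (BT.leaf cP588) (BT.leaf cP589)) (BT.node 590 (BT.leaf cP590) (BT.leaf cP591))) (BT.node 593 (BT.node 592 (BT.leaf cP592) (BT.leaf cP593)) (BT.node 594 (BT.leaf cP594) (BT.leaf cP595))))))) (BT.node 628 (BT.node 612 (BT.node 604 (BT.node 600 (BT.node 598 (BT.node 597 (BT.node 596 (BT.leaf cP596) (BT.leaf cP597)) (BT.leaf cP598)) (BT.node 599 (BT.leaf cP599) (BT.leaf cP600))) (BT.node 602 (BT.node 601 (BT.leaf cP601) (BT.leaf cP602)) (BT.node 603 (BT.leaf cP603) (BT.leaf cP604)))) (BT.node 608 (BT.node 606 (BT.node 605 (BT.leaf cP605) (BT.leaf cP606)) (BT.node 607 (BT.leaf cP607) (BT.leaf cP608))) (BT.node 610 (BT.node 609 (BT.leaf cP609) (BT.leaf cP610)) (BT.node 611 (BT.leaf cP611) (BT.leaf cP612))))) (BT.node 620 (BT.node 616 (BT.node 614 (BT.node 613 (BT.leaf cP613)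 (BT.leaf cP614)) (BT.node 615 (BT.leaf cP615) (BT.leaf cP616))) (BT.node 618 (BT.node 617 (BT.leaf cP617) (BT.leaf cP618)) (BT.node 619 (BT.leaf cP619) (BT.leaf cP620)))) (BT.node 624 (BT.node 622 (BT.node 621 (BT.leaf cP621) (BT.leaf cP622)) (BT.node 623 (BT.leaf cP623) (BT.leaf cP624))) (BT.node 626 (BT.node 625 (BT.leaf cP625) (BT.leaf cP626)) (BT.node 627 (BT.leaf cP627) (BT.leaf cP628)))))) (BT.node 645 (BT.node 637 (BT.node 633 (BT.node 631 (BT.node 630 (BT.node 629 (BT.leaf cP629) (BT.leaf cP630)) (BT.leaf cP631)) (BT.node 632 (BT.leaf cP632) (BT.leaf cP633))) (BT.node 635 (BT.node 634 (BT.leaf cP634) (BT.leaf cP635)) (BT.node 636 (BT.leaf cP636) (BT.leaf cP637)))) (BT.node 641 (BT.node 639 (BT.node 638 (BT.leaf cP638) (BT.leaf cP639)) (BT.node 640 (BT.leaf cP640) (BT.leaf cP641))) (BT.node 643 (BT.node 642 (BT.leaf cP642) (BT.leaf cP643)) (BT.node 644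 (BT.leaf cP644) (BT.leaf cP645))))) (BT.node 653 (BT.node 649 (BT.node 647 (BT.node 646 (BT.leaf cP646) (BT.leaf cP647)) (BT.node 648 (BT.leaf cP648) (BT.leaf cP649))) (BT.node 651 (BT.node 650 (BT.leaf cP650) (BT.leaf cP651)) (BT.node 652 (BT.leaf cP652) (BT.leaf cP653)))) (BT.node 657 (BT.node 655 (BT.node 654 (BT.leaf cP654) (BT.leaf cP655)) (BT.node 656 (BT.leaf cP656) (BT.leaf cP657))) (BT.node 659 (BT.node 658 (BT.leaf cP658) (BT.leaf cP659)) (BT.node 660 (BT.leaf cP660) (BT.leaf cP661)))))))) (BT.node 727 (BT.node 694 (BT.node 678 (BT.node 670 (BT.node 666 (BT.node 664 (BT.node 663 (BT.node 662 (BT.leaf cP662) (BT.leaf cP663)) (BT.leaf cP664)) (BT.node 665 (BT.leaf cP665) (BT.leaf cP666))) (BT.node 668 (BT.node 667 (BT.leaf cP667) (BT.leaf cP668)) (BT.node 669 (BT.leaf cP669) (BT.leaf cP670)))) (BT.node 674 (BT.node 672 (BT.node 671 (BT.leaf cP671) (BT.leaf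 cP672)) (BT.node 673 (BT.leaf cP673) (BT.leaf cP674))) (BT.node 676 (BT.node 675 (BT.leaf cP675) (BT.leaf cP676)) (BT.node 677 (BT.leaf cP677) (BT.leaf cP678))))) (BT.node 686 (BT.node 682 (BT.node 680 (BT.node 679 (BT.leaf cP679) (BT.leaf cP680)) (BT.node 681 (BT.leaf cP681) (BT.leaf cP682))) (BT.node 684 (BT.node 683 (BT.leaf cP683) (BT.leaf cP684)) (BT.node 685 (BT.leaf cP685) (BT.leaf cP686)))) (BT.node 690 (BT.node 688 (BT.node 687 (BT.leaf cP687) (BT.leaf cP688)) (BT.node 689 (BT.leaf cP689) (BT.leaf cP690))) (BT.node 692 (BT.node 691 (BT.leaf cP691) (BT.leaf cP692)) (BT.node 693 (BT.leaf cP693) (BT.leaf cP694)))))) (BT.node 711 (BT.node 703 (BT.node 699 (BT.node 697 (BT.node 696 (BT.node 695 (BT.leaf cP695) (BT.leaf cP696)) (BT.leaf cP697)) (BT.node 698 (BT.leaf cP698) (BT.leaf cP699))) (BT.node 701 (BT.node 700 (BT.leaf cP700) (BT.leaf cP701)) (BT.node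 702 (BT.leaf cP702) (BT.leaf cP703)))) (BT.node 707 (BT.node 705 (BT.node 704 (BT.leaf cP704) (BT.leaf cP705)) (BT.node 706 (BT.leaf cP706) (BT.leaf cP707))) (BT.node 709 (BT.node 708 (BT.leaf cP708) (BT.leaf cP709)) (BT.node 710 (BT.leaf cP710) (BT.leaf cP711))))) (BT.node 719 (BT.node 715 (BT.node 713 (BT.node 712 (BT.leaf cP712) (BT.leaf cP713)) (BT.node 714 (BT.leaf cP714) (BT.leaf cP715))) (BT.node 717 (BT.node 716 (BT.leaf cP716) (BT.leaf cP717)) (BT.node 718 (BT.leaf cP718) (BT.leaf cP719)))) (BT.node 723 (BT.node 721 (BT.node 720 (BT.leaf cP720) (BT.leaf cP721)) (BT.node 722 (BT.leaf cP722) (BT.leaf cP723))) (BT.node 725 (BT.node 724 (BT.leaf cP724) (BT.leaf cP725)) (BT.node 726 (BT.leaf cP726) (BT.leaf cP727))))))) (BT.node 760 (BT.node 744 (BT.node 736 (BT.node 732 (BT.node 730 (BT.node 729 (BT.node 728 (BT.leaf cP728) (BT.leaf cP729)) (BT.leaf cP730))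 (BT.node 731 (BT.leaf cP731) (BT.leaf cP732))) (BT.node 734 (BT.node 733 (BT.leaf cP733) (BT.leaf cP734)) (BT.node 735 (BT.leaf cP735) (BT.leaf cP736)))) (BT.node 740 (BT.node 738 (BT.node 737 (BT.leaf cP737) (BT.leaf cP738)) (BT.node 739 (BT.leaf cP739) (BT.leaf cP740))) (BT.node 742 (BT.node 741 (BT.leaf cP741) (BT.leaf cP742)) (BT.node 743 (BT.leaf cP743) (BT.leaf cP744))))) (BT.node 752 (BT.node 748 (BT.node 746 (BT.node 745 (BT.leaf cP745) (BT.leaf cP746)) (BT.node 747 (BT.leaf cP747) (BT.leaf cP748))) (BT.node 750 (BT.node 749 (BT.leaf cP749) (BT.leaf cP750)) (BT.node 751 (BT.leaf cP751) (BT.leaf cP752)))) (BT.node 756 (BT.node 754 (BT.node 753 (BT.leaf cP753) (BT.leaf cP754)) (BT.node 755 (BT.leaf cP755) (BT.leaf cP756))) (BT.node 758 (BT.node 757 (BT.leaf cP757) (BT.leaf cP758)) (BT.node 759 (BT.leaf cP759) (BT.leaf cP760)))))) (BT.node 777 (BT.node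 769 (BT.node 765 (BT.node 763 (BT.node 762 (BT.node 761 (BT.leaf cP761) (BT.leaf cP762)) (BT.leaf cP763)) (BT.node 764 (BT.leaf cP764) (BT.leaf cP765))) (BT.node 767 (BT.node 766 (BT.leaf cP766) (BT.leaf cP767)) (BT.node 768 (BT.leaf cP768) (BT.leaf cP769)))) (BT.node 773 (BT.node 771 (BT.node 770 (BT.leaf cP770) (BT.leaf cP771)) (BT.node 772 (BT.leaf cP772) (BT.leaf cP773))) (BT.node 775 (BT.node 774 (BT.leaf cP774) (BT.leaf cP775)) (BT.node 776 (BT.leaf cP776) (BT.leaf cP777))))) (BT.node 785 (BT.node 781 (BT.node 779 (BT.node 778 (BT.leaf cP778) (BT.leaf cP779)) (BT.node 780 (BT.leaf cP780) (BT.leaf cP781))) (BT.node 783 (BT.node 782 (BT.leaf cP782) (BT.leaf cP783)) (BT.node 784 (BT.leaf cP784) (BT.leaf cP785)))) (BT.node 789 (BT.node 787 (BT.node 786 (BT.leaf cP786) (BT.leaf cP787)) (BT.node 788 (BT.leaf cP788) (BT.leaf cP789))) (BT.node 791 (BT.node 790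 (BT.leaf cP790) (BT.leaf cP791)) (BT.node 792 (BT.leaf cP792) (BT.leaf cP793))))))))) (BT.node 925 (BT.node 859 (BT.node 826 (BT.node 810 (BT.node 802 (BT.node 798 (BT.node 796 (BT.node 795 (BT.node 794 (BT.leaf cP794) (BT.leaf cP795)) (BT.leaf cP796)) (BT.node 797 (BT.leaf cP797) (BT.leaf cP798))) (BT.node 800 (BT.node 799 (BT.leaf cP799) (BT.leaf cP800)) (BT.node 801 (BT.leaf cP801) (BT.leaf cP802)))) (BT.node 806 (BT.node 804 (BT.node 803 (BT.leaf cP803) (BT.leaf cP804)) (BT.node 805 (BT.leaf cP805) (BT.leaf cP806))) (BT.node 808 (BT.node 807 (BT.leaf cP807) (BT.leaf cP808)) (BT.node 809 (BT.leaf cP809) (BT.leaf cP810))))) (BT.node 818 (BT.node 814 (BT.node 812 (BT.node 811 (BT.leaf cP811) (BT.leaf cP812)) (BT.node 813 (BT.leaf cP813) (BT.leaf cP814))) (BT.node 816 (BT.node 815 (BT.leaf cP815) (BT.leaf cP816)) (BT.node 817 (BT.leaf cP817) (BT.leaf cP818))))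 (BT.node 822 (BT.node 820 (BT.node 819 (BT.leaf cP819) (BT.leaf cP820)) (BT.node 821 (BT.leaf cP821) (BT.leaf cP822))) (BT.node 824 (BT.node 823 (BT.leaf cP823) (BT.leaf cP824)) (BT.node 825 (BT.leaf cP825) (BT.leaf cP826)))))) (BT.node 843 (BT.node 835 (BT.node 831 (BT.node 829 (BT.node 828 (BT.node 827 (BT.leaf cP827) (BT.leaf cP828)) (BT.leaf cP829)) (BT.node 830 (BT.leaf cP830) (BT.leaf cP831))) (BT.node 833 (BT.node 832 (BT.leaf cP832) (BT.leaf cP833)) (BT.node 834 (BT.leaf cP834) (BT.leaf cP835)))) (BT.node 839 (BT.node 837 (BT.node 836 (BT.leaf cP836) (BT.leaf cP837)) (BT.node 838 (BT.leaf cP838) (BT.leaf cP839))) (BT.node 841 (BT.node 840 (BT.leaf cP840) (BT.leaf cP841)) (BT.node 842 (BT.leaf cP842) (BT.leaf cP843))))) (BT.node 851 (BT.node 847 (BT.node 845 (BT.node 844 (BT.leaf cP844) (BT.leaf cP845)) (BT.node 846 (BT.leaf cP846) (BT.leaf cP847))) (BT.node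 849 (BT.node 848 (BT.leaf cP848) (BT.leaf cP849)) (BT.node 850 (BT.leaf cP850) (BT.leaf cP851)))) (BT.node 855 (BT.node 853 (BT.node 852 (BT.leaf cP852) (BT.leaf cP853)) (BT.node 854 (BT.leaf cP854) (BT.leaf cP855))) (BT.node 857 (BT.node 856 (BT.leaf cP856) (BT.leaf cP857)) (BT.node 858 (BT.leaf cP858) (BT.leaf cP859))))))) (BT.node 892 (BT.node 876 (BT.node 868 (BT.node 864 (BT.node 862 (BT.node 861 (BT.node 860 (BT.leaf cP860) (BT.leaf cP861)) (BT.leaf cP862)) (BT.node 863 (BT.leaf cP863) (BT.leaf cP864))) (BT.node 866 (BT.node 865 (BT.leaf cP865) (BT.leaf cP866)) (BT.node 867 (BT.leaf cP867) (BT.leaf cP868)))) (BT.node 872 (BT.node 870 (BT.node 869 (BT.leaf cP869) (BT.leaf cP870)) (BT.node 871 (BT.leaf cP871) (BT.leaf cP872))) (BT.node 874 (BT.node 873 (BT.leaf cP873) (BT.leaf cP874)) (BT.node 875 (BT.leaf cP875) (BT.leaf cP876))))) (BT.node 884 (BT.node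 880 (BT.node 878 (BT.node 877 (BT.leaf cP877) (BT.leaf cP878)) (BT.node 879 (BT.leaf cP879) (BT.leaf cP880))) (BT.node 882 (BT.node 881 (BT.leaf cP881) (BT.leaf cP882)) (BT.node 883 (BT.leaf cP883) (BT.leaf cP884)))) (BT.node 888 (BT.node 886 (BT.node 885 (BT.leaf cP885) (BT.leaf cP886)) (BT.node 887 (BT.leaf cP887) (BT.leaf cP888))) (BT.node 890 (BT.node 889 (BT.leaf cP889) (BT.leaf cP890)) (BT.node 891 (BT.leaf cP891) (BT.leaf cP892)))))) (BT.node 909 (BT.node 901 (BT.node 897 (BT.node 895 (BT.node 894 (BT.node 893 (BT.leaf cP893) (BT.leaf cP894)) (BT.leaf cP895)) (BT.node 896 (BT.leaf cP896) (BT.leaf cP897))) (BT.node 899 (BT.node 898 (BT.leaf cP898) (BT.leaf cP899)) (BT.node 900 (BT.leaf cP900) (BT.leaf cP901)))) (BT.node 905 (BT.node 903 (BT.node 902 (BT.leaf cP902) (BT.leaf cP903)) (BT.node 904 (BT.leaf cP904) (BT.leaf cP905))) (BT.node 907 (BT.node 906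 (BT.leaf cP906) (BT.leaf cP907)) (BT.node 908 (BT.leaf cP908) (BT.leaf cP909))))) (BT.node 917 (BT.node 913 (BT.node 911 (BT.node 910 (BT.leaf cP910) (BT.leaf cP911)) (BT.node 912 (BT.leaf cP912) (BT.leaf cP913))) (BT.node 915 (BT.node 914 (BT.leaf cP914) (BT.leaf cP915)) (BT.node 916 (BT.leaf cP916) (BT.leaf cP917)))) (BT.node 921 (BT.node 919 (BT.node 918 (BT.leaf cP918) (BT.leaf cP919)) (BT.node 920 (BT.leaf cP920) (BT.leaf cP921))) (BT.node 923 (BT.node 922 (BT.leaf cP922) (BT.leaf cP923)) (BT.node 924 (BT.leaf cP924) (BT.leaf cP925)))))))) (BT.node 991 (BT.node 958 (BT.node 942 (BT.node 934 (BT.node 930 (BT.node 928 (BT.node 927 (BT.node 926 (BT.leaf cP926) (BT.leaf cP927)) (BT.leaf cP928)) (BT.node 929 (BT.leaf cP929) (BT.leaf cP930))) (BT.node 932 (BT.node 931 (BT.leaf cP931) (BT.leaf cP932)) (BT.node 933 (BT.leaf cP933) (BT.leaf cP934)))) (BT.node 938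 (BT.node 936 (BT.node 935 (BT.leaf cP935) (BT.leaf cP936)) (BT.node 937 (BT.leaf cP937) (BT.leaf cP938))) (BT.node 940 (BT.node 939 (BT.leaf cP939) (BT.leaf cP940)) (BT.node 941 (BT.leaf cP941) (BT.leaf cP942))))) (BT.node 950 (BT.node 946 (BT.node 944 (BT.node 943 (BT.leaf cP943) (BT.leaf cP944)) (BT.node 945 (BT.leaf cP945) (BT.leaf cP946))) (BT.node 948 (BT.node 947 (BT.leaf cP947) (BT.leaf cP948)) (BT.node 949 (BT.leaf cP949) (BT.leaf cP950)))) (BT.node 954 (BT.node 952 (BT.node 951 (BT.leaf cP951) (BT.leaf cP952)) (BT.node 953 (BT.leaf cP953) (BT.leaf cP954))) (BT.node 956 (BT.node 955 (BT.leaf cP955) (BT.leaf cP956)) (BT.node 957 (BT.leaf cP957) (BT.leaf cP958)))))) (BT.node 975 (BT.node 967 (BT.node 963 (BT.node 961 (BT.node 960 (BT.node 959 (BT.leaf cP959) (BT.leaf cP960)) (BT.leaf cP961)) (BT.node 962 (BT.leaf cP962) (BT.leaf cP963))) (BT.node 965 (BT.node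 964 (BT.leaf cP964) (BT.leaf cP965)) (BT.node 966 (BT.leaf cP966) (BT.leaf cP967)))) (BT.node 971 (BT.node 969 (BT.node 968 (BT.leaf cP968) (BT.leaf cP969)) (BT.node 970 (BT.leaf cP970) (BT.leaf cP971))) (BT.node 973 (BT.node 972 (BT.leaf cP972) (BT.leaf cP973)) (BT.node 974 (BT.leaf cP974) (BT.leaf cP975))))) (BT.node 983 (BT.node 979 (BT.node 977 (BT.node 976 (BT.leaf cP976) (BT.leaf cP977)) (BT.node 978 (BT.leaf cP978) (BT.leaf cP979))) (BT.node 981 (BT.node 980 (BT.leaf cP980) (BT.leaf cP981)) (BT.node 982 (BT.leaf cP982) (BT.leaf cP983)))) (BT.node 987 (BT.node 985 (BT.node 984 (BT.leaf cP984) (BT.leaf cP985)) (BT.node 986 (BT.leaf cP986) (BT.leaf cP987))) (BT.node 989 (BT.node 988 (BT.leaf cP988) (BT.leaf cP989)) (BT.node 990 (BT.leaf cP990) (BT.leaf cP991))))))) (BT.node 1024 (BT.node 1008 (BT.node 1000 (BT.node 996 (BT.node 994 (BT.node 993 (BT.node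 992 (BT.leaf cP992) (BT.leaf cP993)) (BT.leaf cP994)) (BT.node 995 (BT.leaf cP995) (BT.leaf cP996))) (BT.node 998 (BT.node 997 (BT.leaf cP997) (BT.leaf cP998)) (BT.node 999 (BT.leaf cP999) (BT.leaf cP1000)))) (BT.node 1004 (BT.node 1002 (BT.node 1001 (BT.leaf cP1001) (BT.leaf cP1002)) (BT.node 1003 (BT.leaf cP1003) (BT.leaf cP1004))) (BT.node 1006 (BT.node 1005 (BT.leaf cP1005) (BT.leaf cP1006)) (BT.node 1007 (BT.leaf cP1007) (BT.leaf cP1008))))) (BT.node 1016 (BT.node 1012 (BT.node 1010 (BT.node 1009 (BT.leaf cP1009) (BT.leaf cP1010)) (BT.node 1011 (BT.leaf cP1011) (BT.leaf cP1012))) (BT.node 1014 (BT.node 1013 (BT.leaf cP1013) (BT.leaf cP1014)) (BT.node 1015 (BT.leaf cP1015) (BT.leaf cP1016)))) (BT.node 1020 (BT.node 1018 (BT.node 1017 (BT.leaf cP1017) (BT.leaf cP1018)) (BT.node 1019 (BT.leaf cP1019) (BT.leaf cP1020))) (BT.node 1022 (BT.node 1021 (BT.leaf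 cP1021) (BT.leaf cP1022)) (BT.node 1023 (BT.leaf cP1023) (BT.leaf cP1024)))))) (BT.node 1041 (BT.node 1033 (BT.node 1029 (BT.node 1027 (BT.node 1026 (BT.node 1025 (BT.leaf cP1025) (BT.leaf cP1026)) (BT.leaf cP1027)) (BT.node 1028 (BT.leaf cP1028) (BT.leaf cP1029))) (BT.node 1031 (BT.node 1030 (BT.leaf cP1030) (BT.leaf cP1031)) (BT.node 1032 (BT.leaf cP1032) (BT.leaf cP1033)))) (BT.node 1037 (BT.node 1035 (BT.node 1034 (BT.leaf cP1034) (BT.leaf cP1035)) (BT.node 1036 (BT.leaf cP1036) (BT.leaf cP1037))) (BT.node 1039 (BT.node 1038 (BT.leaf cP1038) (BT.leaf cP1039)) (BT.node 1040 (BT.leaf cP1040) (BT.leaf cP1041))))) (BT.node 1049 (BT.node 1045 (BT.node 1043 (BT.node 1042 (BT.leaf cP1042) (BT.leaf cP1043)) (BT.node 1044 (BT.leaf cP1044) (BT.leaf cP1045))) (BT.node 1047 (BT.node 1046 (BT.leaf cP1046) (BT.leaf cP1047)) (BT.node 1048 (BT.leaf cP1048) (BT.leaf cP1049))))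 (BT.node 1053 (BT.node 1051 (BT.node 1050 (BT.leaf cP1050) (BT.leaf cP1051)) (BT.node 1052 (BT.leaf cP1052) (BT.leaf cP1053))) (BT.node 1055 (BT.node 1054 (BT.leaf cP1054) (BT.leaf cP1055)) (BT.node 1056 (BT.leaf cP1056) (BT.leaf cP1057)))))))))))
/-- the certificate -/
def data : Data where
  k := 4
  N := 541232
  W := 41
  MW := 2199023255552
  B := 1048576
  CH := 512
  NCH := 1058
  colE := colET
  JW := 64
  MJ := 18446744073709551616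
  A := 1048576
  colJ := colJT
  PW := 30
  MP := 1073741824
  parC := parCT
  inv := (BT.node 2 (BT.node 1 (BT.node 0 (BT.leaf 1) (BT.leaf 0)) (BT.leaf 3)) (BT.node 3 (BT.leaf 2) (BT.leaf 4)))
  rel := relT
  sub := subT
  fuel := 64

end Cfsg.Agent.Lib.Helper14.HNx.Q0Data
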