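import Cfsg.Agent.Lib.Helper28.TC2Range
import Cfsg.Agent.Lib.Helper14.HNx.Q0Data
import Cfsg.Agent.Lib.Helper14.HNx.Q0M6
set_option autoImplicit false
set_option maxRecDepth 100000
set_option maxHeartbeats 0

namespace Cfsg.Agent.Lib.Helper14.HNx.Q0M10
open Cfsg.Agent.Lib.Helper28.TC2Upper Cfsg.Agent.Lib.Helper28.TC2Lower Cfsg.Agent.Lib.Helper28.TC2Range Cfsg.Agent.Lib.Helper14.HNx.Q0Data

theorem fin49 : Data.finalRange data 294000 6000 = true := by decide +kernel
theorem fin50 : Data.finalRange data 300000 6000 = true := by decide +kernel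
theorem fin51 : Data.finalRange data 306000 6000 = true := by decide +kernel
theorem fin52 : Data.finalRange data 312000 6000 = true := by decide +kernel
theorem fin53 : Data.finalRange data 318000 6000 = true := by decide +kernel

end Cfsg.Agent.Lib.Helper14.HNx.Q0M10
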