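import Cfsg.Agent.Lib.Helper28.TC2Range
import Cfsg.Agent.Lib.Helper14.HNx.Q0Data
import Cfsg.Agent.Lib.Helper14.HNx.Q0M8
set_option autoImplicit false
set_option maxRecDepth 100000
set_option maxHeartbeats 0

namespace Cfsg.Agent.Lib.Helper14.HNx.Q0M12
open Cfsg.Agent.Lib.Helper28.TC2Upper Cfsg.Agent.Lib.Helper28.TC2Lower Cfsg.Agent.Lib.Helper28.TC2Range Cfsg.Agent.Lib.Helper14.HNx.Q0Data

theorem fin59 : Data.finalRange data 354000 6000 = true := by decide +kernel
theorem fin60 : Data.finalRange data 360000 6000 = true := by decide +kernel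
theorem fin61 : Data.finalRange data 366000 6000 = true := by decide +kernel
theorem fin62 : Data.finalRange data 372000 6000 = true := by decide +kernel
theorem fin63 : Data.finalRange data 378000 6000 = true := by decide +kernel

end Cfsg.Agent.Lib.Helper14.HNx.Q0M12
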