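import Cfsg.Agent.Lib.Helper28.TC2Range
import Cfsg.Agent.Lib.Helper14.HNx.Q0Data
import Cfsg.Agent.Lib.Helper14.HNx.Q0M19
set_option autoImplicit false
set_option maxRecDepth 100000
set_option maxHeartbeats 0

namespace Cfsg.Agent.Lib.Helper14.HNx.Q0M23
open Cfsg.Agent.Lib.Helper28.TC2Upper Cfsg.Agent.Lib.Helper28.TC2Lower Cfsg.Agent.Lib.Helper28.TC2Range Cfsg.Agent.Lib.Helper14.HNx.Q0Data

theorem cnt23 : Data.countFrom data 138000 6000 = 3198 := by decide +kernel
theorem cnt24 : Data.countFrom data 144000 6000 = 3078 := by decide +kernel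
theorem cnt25 : Data.countFrom data 150000 6000 = 3030 := by decide +kernel
theorem cnt26 : Data.countFrom data 156000 6000 = 2642 := by decide +kernel
theorem cnt27 : Data.countFrom data 162000 6000 = 3073 := by decide +kernel

end Cfsg.Agent.Lib.Helper14.HNx.Q0M23
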