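import Cfsg.Agent.Lib.Helper28.TC2Range
import Cfsg.Agent.Lib.Helper14.HNx.Q0Data
import Cfsg.Agent.Lib.Helper14.HNx.Q0M21
set_option autoImplicit false
set_option maxRecDepth 100000
set_option maxHeartbeats 0

namespace Cfsg.Agent.Lib.Helper14.HNx.Q0M25
open Cfsg.Agent.Lib.Helper28.TC2Upper Cfsg.Agent.Lib.Helper28.TC2Lower Cfsg.Agent.Lib.Helper28.TC2Range Cfsg.Agent.Lib.Helper14.HNx.Q0Data

theorem cnt33 : Data.countFrom data 198000 6000 = 2802 := by decide +kernel
theorem cnt34 : Data.countFrom data 204000 6000 = 2867 := by decide +kernel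
theorem cnt35 : Data.countFrom data 210000 6000 = 2779 := by decide +kernel
theorem cnt36 : Data.countFrom data 216000 6000 = 2799 := by decide +kernel
theorem cnt37 : Data.countFrom data 222000 6000 = 2652 := by decide +kernel

end Cfsg.Agent.Lib.Helper14.HNx.Q0M25
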