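import Cfsg.Agent.Lib.Helper28.TC2Range
import Cfsg.Agent.Lib.Helper14.HNx.Q0Data
import Cfsg.Agent.Lib.Helper14.HNx.Q0M22
set_option autoImplicit false
set_option maxRecDepth 100000
set_option maxHeartbeats 0

namespace Cfsg.Agent.Lib.Helper14.HNx.Q0M26
open Cfsg.Agent.Lib.Helper28.TC2Upper Cfsg.Agent.Lib.Helper28.TC2Lower Cfsg.Agent.Lib.Helper28.TC2Range Cfsg.Agent.Lib.Helper14.HNx.Q0Data

theorem cnt38 : Data.countFrom data 228000 6000 = 2594 := by decide +kernel
theorem cnt39 : Data.countFrom data 234000 6000 = 2511 := by decide +kernel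
theorem cnt40 : Data.countFrom data 240000 6000 = 2410 := by decide +kernel
theorem cnt41 : Data.countFrom data 246000 6000 = 2271 := by decide +kernel
theorem cnt42 : Data.countFrom data 252000 6000 = 2321 := by decide +kernel

end Cfsg.Agent.Lib.Helper14.HNx.Q0M26
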