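import Cfsg.Agent.Lib.Helper28.TC2Range
import Cfsg.Agent.Lib.Helper14.HNx.Q0Data
import Cfsg.Agent.Lib.Helper14.HNx.Q0M23
set_option autoImplicit false
set_option maxRecDepth 100000
set_option maxHeartbeats 0

namespace Cfsg.Agent.Lib.Helper14.HNx.Q0M27
open Cfsg.Agent.Lib.Helper28.TC2Upper Cfsg.Agent.Lib.Helper28.TC2Lower Cfsg.Agent.Lib.Helper28.TC2Range Cfsg.Agent.Lib.Helper14.HNx.Q0Data

theorem cnt43 : Data.countFrom data 258000 6000 = 2105 := by decide +kernel
theorem cnt44 : Data.countFrom data 264000 6000 = 2203 := by decide +kernel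
theorem cnt45 : Data.countFrom data 270000 6000 = 2147 := by decide +kernel
theorem cnt46 : Data.countFrom data 276000 6000 = 2198 := by decide +kernel
theorem cnt47 : Data.countFrom data 282000 6000 = 2111 := by decide +kernel

end Cfsg.Agent.Lib.Helper14.HNx.Q0M27
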