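import Cfsg.Agent.Lib.Helper28.TC2Range
import Cfsg.Agent.Lib.Helper14.HNx.Q0Data
import Cfsg.Agent.Lib.Helper14.HNx.Q0M24
set_option autoImplicit false
set_option maxRecDepth 100000
set_option maxHeartbeats 0

namespace Cfsg.Agent.Lib.Helper14.HNx.Q0M28
open Cfsg.Agent.Lib.Helper28.TC2Upper Cfsg.Agent.Lib.Helper28.TC2Lower Cfsg.Agent.Lib.Helper28.TC2Range Cfsg.Agent.Lib.Helper14.HNx.Q0Data

theorem cnt48 : Data.countFrom data 288000 6000 = 1953 := by decide +kernel
theorem cnt49 : Data.countFrom data 294000 6000 = 2306 := by decide +kernel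
theorem cnt50 : Data.countFrom data 300000 6000 = 2161 := by decide +kernel
theorem cnt51 : Data.countFrom data 306000 6000 = 2379 := by decide +kernel
theorem cnt52 : Data.countFrom data 312000 6000 = 2202 := by decide +kernel

end Cfsg.Agent.Lib.Helper14.HNx.Q0M28
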