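import Cfsg.Agent.Lib.Helper28.TC2Range
import Cfsg.Agent.Lib.Helper14.HNx.Q0Data
import Cfsg.Agent.Lib.Helper14.HNx.Q0M25
set_option autoImplicit false
set_option maxRecDepth 100000
set_option maxHeartbeats 0

namespace Cfsg.Agent.Lib.Helper14.HNx.Q0M29
open Cfsg.Agent.Lib.Helper28.TC2Upper Cfsg.Agent.Lib.Helper28.TC2Lower Cfsg.Agent.Lib.Helper28.TC2Range Cfsg.Agent.Lib.Helper14.HNx.Q0Data

theorem cnt53 : Data.countFrom data 318000 6000 = 2255 := by decide +kernel
theorem cnt54 : Data.countFrom data 324000 6000 = 2317 := by decide +kernel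
theorem cnt55 : Data.countFrom data 330000 6000 = 2156 := by decide +kernel
theorem cnt56 : Data.countFrom data 336000 6000 = 2144 := by decide +kernel
theorem cnt57 : Data.countFrom data 342000 6000 = 2027 := by decide +kernel

end Cfsg.Agent.Lib.Helper14.HNx.Q0M29
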