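import Cfsg.Agent.Lib.Helper28.TC2Range
import Cfsg.Agent.Lib.Helper14.HNx.Q0Data
import Cfsg.Agent.Lib.Helper14.HNx.Q0M26
set_option autoImplicit false
set_option maxRecDepth 100000
set_option maxHeartbeats 0

namespace Cfsg.Agent.Lib.Helper14.HNx.Q0M30
open Cfsg.Agent.Lib.Helper28.TC2Upper Cfsg.Agent.Lib.Helper28.TC2Lower Cfsg.Agent.Lib.Helper28.TC2Range Cfsg.Agent.Lib.Helper14.HNx.Q0Data

theorem cnt58 : Data.countFrom data 348000 6000 = 2005 := by decide +kernel
theorem cnt59 : Data.countFrom data 354000 6000 = 1674 := by decide +kernel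
theorem cnt60 : Data.countFrom data 360000 6000 = 1929 := by decide +kernel
theorem cnt61 : Data.countFrom data 366000 6000 = 1857 := by decide +kernel
theorem cnt62 : Data.countFrom data 372000 6000 = 1710 := by decide +kernel

end Cfsg.Agent.Lib.Helper14.HNx.Q0M30
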