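import Cfsg.Agent.Lib.Helper28.TC2Range
import Cfsg.Agent.Lib.Helper14.HNx.Q0Data
import Cfsg.Agent.Lib.Helper14.HNx.Q0M27
set_option autoImplicit false
set_option maxRecDepth 100000
set_option maxHeartbeats 0

namespace Cfsg.Agent.Lib.Helper14.HNx.Q0M31
open Cfsg.Agent.Lib.Helper28.TC2Upper Cfsg.Agent.Lib.Helper28.TC2Lower Cfsg.Agent.Lib.Helper28.TC2Range Cfsg.Agent.Lib.Helper14.HNx.Q0Data

theorem cnt63 : Data.countFrom data 378000 6000 = 1544 := by decide +kernel
theorem cnt64 : Data.countFrom data 384000 6000 = 1783 := by decide +kernel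
theorem cnt65 : Data.countFrom data 390000 6000 = 1735 := by decide +kernel
theorem cnt66 : Data.countFrom data 396000 6000 = 1580 := by decide +kernel
theorem cnt67 : Data.countFrom data 402000 6000 = 1547 := by decide +kernel

end Cfsg.Agent.Lib.Helper14.HNx.Q0M31
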