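import Cfsg.Agent.Lib.Helper28.TC2Range
import Cfsg.Agent.Lib.Helper14.HNx.Q0Data
import Cfsg.Agent.Lib.Helper14.HNx.Q0M28
set_option autoImplicit false
set_option maxRecDepth 100000
set_option maxHeartbeats 0

namespace Cfsg.Agent.Lib.Helper14.HNx.Q0M32
open Cfsg.Agent.Lib.Helper28.TC2Upper Cfsg.Agent.Lib.Helper28.TC2Lower Cfsg.Agent.Lib.Helper28.TC2Range Cfsg.Agent.Lib.Helper14.HNx.Q0Data

theorem cnt68 : Data.countFrom data 408000 6000 = 1697 := by decide +kernel
theorem cnt69 : Data.countFrom data 414000 6000 = 1784 := by decide +kernel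
theorem cnt70 : Data.countFrom data 420000 6000 = 1900 := by decide +kernel
theorem cnt71 : Data.countFrom data 426000 6000 = 2058 := by decide +kernel
theorem cnt72 : Data.countFrom data 432000 6000 = 1972 := by decide +kernel

end Cfsg.Agent.Lib.Helper14.HNx.Q0M32
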