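import Cfsg.Agent.Lib.Helper28.TC2Range
import Cfsg.Agent.Lib.Helper14.HNx.Q0Data
import Cfsg.Agent.Lib.Helper14.HNx.Q0M30
set_option autoImplicit false
set_option maxRecDepth 100000
set_option maxHeartbeats 0

namespace Cfsg.Agent.Lib.Helper14.HNx.Q0M34
open Cfsg.Agent.Lib.Helper28.TC2Upper Cfsg.Agent.Lib.Helper28.TC2Lower Cfsg.Agent.Lib.Helper28.TC2Range Cfsg.Agent.Lib.Helper14.HNx.Q0Data

theorem cnt78 : Data.countFrom data 468000 6000 = 1668 := by decide +kernel
theorem cnt79 : Data.countFrom data 474000 6000 = 1566 := by decide +kernel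
theorem cnt80 : Data.countFrom data 480000 6000 = 1434 := by decide +kernel
theorem cnt81 : Data.countFrom data 486000 6000 = 1382 := by decide +kernel
theorem cnt82 : Data.countFrom data 492000 6000 = 1452 := by decide +kernel

end Cfsg.Agent.Lib.Helper14.HNx.Q0M34
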