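import Cfsg.Agent.Lib.Helper28.TC2Range
import Cfsg.Agent.Lib.Helper14.HNx.Q0Data
import Cfsg.Agent.Lib.Helper14.HNx.Q0M31
set_option autoImplicit false
set_option maxRecDepth 100000
set_option maxHeartbeats 0

namespace Cfsg.Agent.Lib.Helper14.HNx.Q0M35
open Cfsg.Agent.Lib.Helper28.TC2Upper Cfsg.Agent.Lib.Helper28.TC2Lower Cfsg.Agent.Lib.Helper28.TC2Range Cfsg.Agent.Lib.Helper14.HNx.Q0Data

theorem cnt83 : Data.countFrom data 498000 6000 = 1354 := by decide +kernel
theorem cnt84 : Data.countFrom data 504000 6000 = 1384 := by decide +kernel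
theorem cnt85 : Data.countFrom data 510000 6000 = 1365 := by decide +kernel
theorem cnt86 : Data.countFrom data 516000 6000 = 2637 := by decide +kernel
theorem cnt87 : Data.countFrom data 522000 6000 = 5464 := by decide +kernel

end Cfsg.Agent.Lib.Helper14.HNx.Q0M35
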