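import Cfsg.Agent.Lib.Helper28.TC2Range
import Cfsg.Agent.Lib.Helper14.HNx.Q0Data
import Cfsg.Agent.Lib.Helper14.HNx.Q0M32
set_option autoImplicit false
set_option maxRecDepth 100000
set_option maxHeartbeats 0

namespace Cfsg.Agent.Lib.Helper14.HNx.Q0M36
open Cfsg.Agent.Lib.Helper28.TC2Upper Cfsg.Agent.Lib.Helper28.TC2Lower Cfsg.Agent.Lib.Helper28.TC2Range Cfsg.Agent.Lib.Helper14.HNx.Q0Data

theorem cnt88 : Data.countFrom data 528000 6000 = 5871 := by decide +kernel
theorem cnt89 : Data.countFrom data 534000 6000 = 5987 := by decide +kernel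
theorem cnt90 : Data.countFrom data 540000 1232 = 1232 := by decide +kernel

end Cfsg.Agent.Lib.Helper14.HNx.Q0M36
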