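import Cfsg.Agent.Lib.Helper14.HNx.Q0Data
set_option autoImplicit false
set_option maxRecDepth 100000
set_option maxHeartbeats 0

namespace Cfsg.Agent.Lib.Helper14.HNx.Q0U5
open Cfsg.Agent.Lib.Helper28.TC2Upper Cfsg.Agent.Lib.Helper14.HNx.Q0Data

theorem chk25 : data.checkRange 29923 1194 = true := by decide +kernel
theorem chk26 : data.checkRange 31117 1201 = true := by decide +kernel
theorem chk27 : data.checkRange 32318 1188 = true := by decide +kernel
theorem chk28 : data.checkRange 33506 1194 = true := by decide +kernel
theorem chk29 : data.checkRange 34700 1181 = true := by decide +kernel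

end Cfsg.Agent.Lib.Helper14.HNx.Q0U5
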