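import Cfsg.Agent.Lib.Helper14.HNx.Q0Data
set_option autoImplicit false
set_option maxRecDepth 100000
set_option maxHeartbeats 0

namespace Cfsg.Agent.Lib.Helper14.HNx.Q0U6
open Cfsg.Agent.Lib.Helper28.TC2Upper Cfsg.Agent.Lib.Helper14.HNx.Q0Data

theorem chk30 : data.checkRange 35881 1194 = true := by decide +kernel
theorem chk31 : data.checkRange 37075 1185 = true := by decide +kernel
theorem chk32 : data.checkRange 38260 1185 = true := by decide +kernel
theorem chk33 : data.checkRange 39445 1205 = true := by decide +kernel
theorem chk34 : data.checkRange 40650 1201 = true := by decide +kernel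

end Cfsg.Agent.Lib.Helper14.HNx.Q0U6
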