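import Cfsg.Agent.Lib.Helper14.HNx.Q0Data
import Cfsg.Agent.Lib.Helper14.HNx.Q0U6
set_option autoImplicit false
set_option maxRecDepth 100000
set_option maxHeartbeats 0

namespace Cfsg.Agent.Lib.Helper14.HNx.Q0U14
open Cfsg.Agent.Lib.Helper28.TC2Upper Cfsg.Agent.Lib.Helper14.HNx.Q0Data

theorem chk70 : data.checkRange 84279 1233 = true := by decide +kernel
theorem chk71 : data.checkRange 85512 1237 = true := by decide +kernel
theorem chk72 : data.checkRange 86749 1258 = true := by decide +kernel
theorem chk73 : data.checkRange 88007 1227 = true := by decide +kernel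
theorem chk74 : data.checkRange 89234 1249 = true := by decide +kernel

end Cfsg.Agent.Lib.Helper14.HNx.Q0U14
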