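import Cfsg.Agent.Lib.Helper14.HNx.Q0Data
import Cfsg.Agent.Lib.Helper14.HNx.Q0U1
set_option autoImplicit false
set_option maxRecDepth 100000
set_option maxHeartbeats 0

namespace Cfsg.Agent.Lib.Helper14.HNx.Q0U9
open Cfsg.Agent.Lib.Helper28.TC2Upper Cfsg.Agent.Lib.Helper14.HNx.Q0Data

theorem chk45 : data.checkRange 53885 1203 = true := by decide +kernel
theorem chk46 : data.checkRange 55088 1211 = true := by decide +kernel
theorem chk47 : data.checkRange 56299 1201 = true := by decide +kernel
theorem chk48 : data.checkRange 57500 1203 = true := by decide +kernel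
theorem chk49 : data.checkRange 58703 1199 = true := by decide +kernel

end Cfsg.Agent.Lib.Helper14.HNx.Q0U9
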