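import Cfsg.Agent.Lib.Helper14.HNx.Q0Data
import Cfsg.Agent.Lib.Helper14.HNx.Q0U10
set_option autoImplicit false
set_option maxRecDepth 100000
set_option maxHeartbeats 0

namespace Cfsg.Agent.Lib.Helper14.HNx.Q0U18
open Cfsg.Agent.Lib.Helper28.TC2Upper Cfsg.Agent.Lib.Helper14.HNx.Q0Data

theorem chk90 : data.checkRange 109118 1275 = true := by decide +kernel
theorem chk91 : data.checkRange 110393 1233 = true := by decide +kernel
theorem chk92 : data.checkRange 111626 1299 = true := by decide +kernel
theorem chk93 : data.checkRange 112925 1247 = true := by decide +kernel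
theorem chk94 : data.checkRange 114172 1265 = true := by decide +kernel

end Cfsg.Agent.Lib.Helper14.HNx.Q0U18
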