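import Cfsg.Agent.Lib.Helper14.HNx.Q0Data
import Cfsg.Agent.Lib.Helper14.HNx.Q0U11
set_option autoImplicit false
set_option maxRecDepth 100000
set_option maxHeartbeats 0

namespace Cfsg.Agent.Lib.Helper14.HNx.Q0U19
open Cfsg.Agent.Lib.Helper28.TC2Upper Cfsg.Agent.Lib.Helper14.HNx.Q0Data

theorem chk95 : data.checkRange 115437 1248 = true := by decide +kernel
theorem chk96 : data.checkRange 116685 1253 = true := by decide +kernel
theorem chk97 : data.checkRange 117938 1281 = true := by decide +kernel
theorem chk98 : data.checkRange 119219 1277 = true := by decide +kernel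
theorem chk99 : data.checkRange 120496 1265 = true := by decide +kernel

end Cfsg.Agent.Lib.Helper14.HNx.Q0U19
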