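import Cfsg.Agent.Lib.Helper14.HNx.Q0Data
import Cfsg.Agent.Lib.Helper14.HNx.Q0U16
set_option autoImplicit false
set_option maxRecDepth 100000
set_option maxHeartbeats 0

namespace Cfsg.Agent.Lib.Helper14.HNx.Q0U24
open Cfsg.Agent.Lib.Helper28.TC2Upper Cfsg.Agent.Lib.Helper14.HNx.Q0Data

theorem chk120 : data.checkRange 147285 1311 = true := by decide +kernel
theorem chk121 : data.checkRange 148596 1290 = true := by decide +kernel
theorem chk122 : data.checkRange 149886 1292 = true := by decide +kernel
theorem chk123 : data.checkRange 151178 1315 = true := by decide +kernel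
theorem chk124 : data.checkRange 152493 1279 = true := by decide +kernel

end Cfsg.Agent.Lib.Helper14.HNx.Q0U24
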