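import Cfsg.Agent.Lib.Helper14.HNx.Q0Data
import Cfsg.Agent.Lib.Helper14.HNx.Q0U17
set_option autoImplicit false
set_option maxRecDepth 100000
set_option maxHeartbeats 0

namespace Cfsg.Agent.Lib.Helper14.HNx.Q0U25
open Cfsg.Agent.Lib.Helper28.TC2Upper Cfsg.Agent.Lib.Helper14.HNx.Q0Data

theorem chk125 : data.checkRange 153772 1294 = true := by decide +kernel
theorem chk126 : data.checkRange 155066 1313 = true := by decide +kernel
theorem chk127 : data.checkRange 156379 1308 = true := by decide +kernel
theorem chk128 : data.checkRange 157687 1312 = true := by decide +kernel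
theorem chk129 : data.checkRange 158999 1303 = true := by decide +kernel

end Cfsg.Agent.Lib.Helper14.HNx.Q0U25
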