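import Cfsg.Agent.Lib.Helper14.HNx.Q0Data
import Cfsg.Agent.Lib.Helper14.HNx.Q0U13
set_option autoImplicit false
set_option maxRecDepth 100000
set_option maxHeartbeats 0

namespace Cfsg.Agent.Lib.Helper14.HNx.Q0U21
open Cfsg.Agent.Lib.Helper28.TC2Upper Cfsg.Agent.Lib.Helper14.HNx.Q0Data

theorem chk105 : data.checkRange 128053 1277 = true := by decide +kernel
theorem chk106 : data.checkRange 129330 1273 = true := by decide +kernel
theorem chk107 : data.checkRange 130603 1252 = true := by decide +kernel
theorem chk108 : data.checkRange 131855 1274 = true := by decide +kernel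
theorem chk109 : data.checkRange 133129 1299 = true := by decide +kernel

end Cfsg.Agent.Lib.Helper14.HNx.Q0U21
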