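import Cfsg.Agent.Lib.Helper14.HNx.Q0Data
import Cfsg.Agent.Lib.Helper14.HNx.Q0U24
set_option autoImplicit false
set_option maxRecDepth 100000
set_option maxHeartbeats 0

namespace Cfsg.Agent.Lib.Helper14.HNx.Q0U32
open Cfsg.Agent.Lib.Helper28.TC2Upper Cfsg.Agent.Lib.Helper14.HNx.Q0Data

theorem chk160 : data.checkRange 199831 1317 = true := by decide +kernel
theorem chk161 : data.checkRange 201148 1340 = true := by decide +kernel
theorem chk162 : data.checkRange 202488 1351 = true := by decide +kernel
theorem chk163 : data.checkRange 203839 1302 = true := by decide +kernel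
theorem chk164 : data.checkRange 205141 1346 = true := by decide +kernel

end Cfsg.Agent.Lib.Helper14.HNx.Q0U32
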