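import Cfsg.Agent.Lib.Helper14.HNx.Q0Data
import Cfsg.Agent.Lib.Helper14.HNx.Q0U26
set_option autoImplicit false
set_option maxRecDepth 100000
set_option maxHeartbeats 0

namespace Cfsg.Agent.Lib.Helper14.HNx.Q0U34
open Cfsg.Agent.Lib.Helper28.TC2Upper Cfsg.Agent.Lib.Helper14.HNx.Q0Data

theorem chk170 : data.checkRange 213231 1321 = true := by decide +kernel
theorem chk171 : data.checkRange 214552 1347 = true := by decide +kernel
theorem chk172 : data.checkRange 215899 1357 = true := by decide +kernel
theorem chk173 : data.checkRange 217256 1388 = true := by decide +kernel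
theorem chk174 : data.checkRange 218644 1339 = true := by decide +kernel

end Cfsg.Agent.Lib.Helper14.HNx.Q0U34
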