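import Cfsg.Agent.Lib.Helper14.HNx.Q0Data
import Cfsg.Agent.Lib.Helper14.HNx.Q0U27
set_option autoImplicit false
set_option maxRecDepth 100000
set_option maxHeartbeats 0

namespace Cfsg.Agent.Lib.Helper14.HNx.Q0U35
open Cfsg.Agent.Lib.Helper28.TC2Upper Cfsg.Agent.Lib.Helper14.HNx.Q0Data

theorem chk175 : data.checkRange 219983 1378 = true := by decide +kernel
theorem chk176 : data.checkRange 221361 1350 = true := by decide +kernel
theorem chk177 : data.checkRange 222711 1386 = true := by decide +kernel
theorem chk178 : data.checkRange 224097 1350 = true := by decide +kernel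
theorem chk179 : data.checkRange 225447 1372 = true := by decide +kernel

end Cfsg.Agent.Lib.Helper14.HNx.Q0U35
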