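import Cfsg.Agent.Lib.Helper14.HNx.Q0Data
import Cfsg.Agent.Lib.Helper14.HNx.Q0U29
set_option autoImplicit false
set_option maxRecDepth 100000
set_option maxHeartbeats 0

namespace Cfsg.Agent.Lib.Helper14.HNx.Q0U37
open Cfsg.Agent.Lib.Helper28.TC2Upper Cfsg.Agent.Lib.Helper14.HNx.Q0Data

theorem chk185 : data.checkRange 233669 1388 = true := by decide +kernel
theorem chk186 : data.checkRange 235057 1379 = true := by decide +kernel
theorem chk187 : data.checkRange 236436 1402 = true := by decide +kernel
theorem chk188 : data.checkRange 237838 1348 = true := by decide +kernel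
theorem chk189 : data.checkRange 239186 1383 = true := by decide +kernel

end Cfsg.Agent.Lib.Helper14.HNx.Q0U37
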