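import Cfsg.Agent.Lib.Helper14.HNx.Q0Data
import Cfsg.Agent.Lib.Helper14.HNx.Q0U31
set_option autoImplicit false
set_option maxRecDepth 100000
set_option maxHeartbeats 0

namespace Cfsg.Agent.Lib.Helper14.HNx.Q0U39
open Cfsg.Agent.Lib.Helper28.TC2Upper Cfsg.Agent.Lib.Helper14.HNx.Q0Data

theorem chk195 : data.checkRange 247553 1411 = true := by decide +kernel
theorem chk196 : data.checkRange 248964 1395 = true := by decide +kernel
theorem chk197 : data.checkRange 250359 1356 = true := by decide +kernel
theorem chk198 : data.checkRange 251715 1359 = true := by decide +kernel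
theorem chk199 : data.checkRange 253074 1391 = true := by decide +kernel

end Cfsg.Agent.Lib.Helper14.HNx.Q0U39
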