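import Cfsg.Agent.Lib.Helper14.HNx.Q0Data
import Cfsg.Agent.Lib.Helper14.HNx.Q0U32
set_option autoImplicit false
set_option maxRecDepth 100000
set_option maxHeartbeats 0

namespace Cfsg.Agent.Lib.Helper14.HNx.Q0U40
open Cfsg.Agent.Lib.Helper28.TC2Upper Cfsg.Agent.Lib.Helper14.HNx.Q0Data

theorem chk200 : data.checkRange 254465 1364 = true := by decide +kernel
theorem chk201 : data.checkRange 255829 1375 = true := by decide +kernel
theorem chk202 : data.checkRange 257204 1400 = true := by decide +kernel
theorem chk203 : data.checkRange 258604 1363 = true := by decide +kernel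
theorem chk204 : data.checkRange 259967 1447 = true := by decide +kernel

end Cfsg.Agent.Lib.Helper14.HNx.Q0U40
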