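import Cfsg.Agent.Lib.Helper14.HNx.Q0Data
import Cfsg.Agent.Lib.Helper14.HNx.Q0U25
set_option autoImplicit false
set_option maxRecDepth 100000
set_option maxHeartbeats 0

namespace Cfsg.Agent.Lib.Helper14.HNx.Q0U33
open Cfsg.Agent.Lib.Helper28.TC2Upper Cfsg.Agent.Lib.Helper14.HNx.Q0Data

theorem chk165 : data.checkRange 206487 1353 = true := by decide +kernel
theorem chk166 : data.checkRange 207840 1306 = true := by decide +kernel
theorem chk167 : data.checkRange 209146 1352 = true := by decide +kernel
theorem chk168 : data.checkRange 210498 1413 = true := by decide +kernel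
theorem chk169 : data.checkRange 211911 1320 = true := by decide +kernel

end Cfsg.Agent.Lib.Helper14.HNx.Q0U33
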