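import Cfsg.Agent.Lib.Helper14.HNx.Q0Data
import Cfsg.Agent.Lib.Helper14.HNx.Q0U33
set_option autoImplicit false
set_option maxRecDepth 100000
set_option maxHeartbeats 0

namespace Cfsg.Agent.Lib.Helper14.HNx.Q0U41
open Cfsg.Agent.Lib.Helper28.TC2Upper Cfsg.Agent.Lib.Helper14.HNx.Q0Data

theorem chk205 : data.checkRange 261414 1420 = true := by decide +kernel
theorem chk206 : data.checkRange 262834 1384 = true := by decide +kernel
theorem chk207 : data.checkRange 264218 1355 = true := by decide +kernel
theorem chk208 : data.checkRange 265573 1422 = true := by decide +kernel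
theorem chk209 : data.checkRange 266995 1430 = true := by decide +kernel

end Cfsg.Agent.Lib.Helper14.HNx.Q0U41
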