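import Cfsg.Agent.Lib.Helper14.HNx.Q0Data
import Cfsg.Agent.Lib.Helper14.HNx.Q0U34
set_option autoImplicit false
set_option maxRecDepth 100000
set_option maxHeartbeats 0

namespace Cfsg.Agent.Lib.Helper14.HNx.Q0U42
open Cfsg.Agent.Lib.Helper28.TC2Upper Cfsg.Agent.Lib.Helper14.HNx.Q0Data

theorem chk210 : data.checkRange 268425 1404 = true := by decide +kernel
theorem chk211 : data.checkRange 269829 1451 = true := by decide +kernel
theorem chk212 : data.checkRange 271280 1393 = true := by decide +kernel
theorem chk213 : data.checkRange 272673 1358 = true := by decide +kernel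
theorem chk214 : data.checkRange 274031 1452 = true := by decide +kernel

end Cfsg.Agent.Lib.Helper14.HNx.Q0U42
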