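import Cfsg.Agent.Lib.Helper14.HNx.Q0Data
import Cfsg.Agent.Lib.Helper14.HNx.Q0U35
set_option autoImplicit false
set_option maxRecDepth 100000
set_option maxHeartbeats 0

namespace Cfsg.Agent.Lib.Helper14.HNx.Q0U43
open Cfsg.Agent.Lib.Helper28.TC2Upper Cfsg.Agent.Lib.Helper14.HNx.Q0Data

theorem chk215 : data.checkRange 275483 1434 = true := by decide +kernel
theorem chk216 : data.checkRange 276917 1388 = true := by decide +kernel
theorem chk217 : data.checkRange 278305 1411 = true := by decide +kernel
theorem chk218 : data.checkRange 279716 1406 = true := by decide +kernel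
theorem chk219 : data.checkRange 281122 1420 = true := by decide +kernel

end Cfsg.Agent.Lib.Helper14.HNx.Q0U43
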