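import Cfsg.Agent.Lib.Helper14.HNx.Q0Data
import Cfsg.Agent.Lib.Helper14.HNx.Q0U36
set_option autoImplicit false
set_option maxRecDepth 100000
set_option maxHeartbeats 0

namespace Cfsg.Agent.Lib.Helper14.HNx.Q0U44
open Cfsg.Agent.Lib.Helper28.TC2Upper Cfsg.Agent.Lib.Helper14.HNx.Q0Data

theorem chk220 : data.checkRange 282542 1409 = true := by decide +kernel
theorem chk221 : data.checkRange 283951 1398 = true := by decide +kernel
theorem chk222 : data.checkRange 285349 1418 = true := by decide +kernel
theorem chk223 : data.checkRange 286767 1443 = true := by decide +kernel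
theorem chk224 : data.checkRange 288210 1409 = true := by decide +kernel

end Cfsg.Agent.Lib.Helper14.HNx.Q0U44
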