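import Cfsg.Agent.Lib.Helper14.HNx.Q0Data
import Cfsg.Agent.Lib.Helper14.HNx.Q0U38
set_option autoImplicit false
set_option maxRecDepth 100000
set_option maxHeartbeats 0

namespace Cfsg.Agent.Lib.Helper14.HNx.Q0U46
open Cfsg.Agent.Lib.Helper28.TC2Upper Cfsg.Agent.Lib.Helper14.HNx.Q0Data

theorem chk230 : data.checkRange 296699 1369 = true := by decide +kernel
theorem chk231 : data.checkRange 298068 1388 = true := by decide +kernel
theorem chk232 : data.checkRange 299456 1410 = true := by decide +kernel
theorem chk233 : data.checkRange 300866 1430 = true := by decide +kernel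
theorem chk234 : data.checkRange 302296 1419 = true := by decide +kernel

end Cfsg.Agent.Lib.Helper14.HNx.Q0U46
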