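import Cfsg.Agent.Lib.Helper14.HNx.Q0Data
import Cfsg.Agent.Lib.Helper14.HNx.Q0U39
set_option autoImplicit false
set_option maxRecDepth 100000
set_option maxHeartbeats 0

namespace Cfsg.Agent.Lib.Helper14.HNx.Q0U47
open Cfsg.Agent.Lib.Helper28.TC2Upper Cfsg.Agent.Lib.Helper14.HNx.Q0Data

theorem chk235 : data.checkRange 303715 1415 = true := by decide +kernel
theorem chk236 : data.checkRange 305130 1407 = true := by decide +kernel
theorem chk237 : data.checkRange 306537 1429 = true := by decide +kernel
theorem chk238 : data.checkRange 307966 1482 = true := by decide +kernel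
theorem chk239 : data.checkRange 309448 1426 = true := by decide +kernel

end Cfsg.Agent.Lib.Helper14.HNx.Q0U47
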