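import Cfsg.Agent.Lib.Helper14.HNx.Q0Data
import Cfsg.Agent.Lib.Helper14.HNx.Q0U40
set_option autoImplicit false
set_option maxRecDepth 100000
set_option maxHeartbeats 0

namespace Cfsg.Agent.Lib.Helper14.HNx.Q0U48
open Cfsg.Agent.Lib.Helper28.TC2Upper Cfsg.Agent.Lib.Helper14.HNx.Q0Data

theorem chk240 : data.checkRange 310874 1390 = true := by decide +kernel
theorem chk241 : data.checkRange 312264 1478 = true := by decide +kernel
theorem chk242 : data.checkRange 313742 1523 = true := by decide +kernel
theorem chk243 : data.checkRange 315265 1416 = true := by decide +kernel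
theorem chk244 : data.checkRange 316681 1435 = true := by decide +kernel

end Cfsg.Agent.Lib.Helper14.HNx.Q0U48
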