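import Cfsg.Agent.Lib.Helper14.HNx.Q0Data
import Cfsg.Agent.Lib.Helper14.HNx.Q0U41
set_option autoImplicit false
set_option maxRecDepth 100000
set_option maxHeartbeats 0

namespace Cfsg.Agent.Lib.Helper14.HNx.Q0U49
open Cfsg.Agent.Lib.Helper28.TC2Upper Cfsg.Agent.Lib.Helper14.HNx.Q0Data

theorem chk245 : data.checkRange 318116 1414 = true := by decide +kernel
theorem chk246 : data.checkRange 319530 1459 = true := by decide +kernel
theorem chk247 : data.checkRange 320989 1463 = true := by decide +kernel
theorem chk248 : data.checkRange 322452 1472 = true := by decide +kernel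
theorem chk249 : data.checkRange 323924 1441 = true := by decide +kernel

end Cfsg.Agent.Lib.Helper14.HNx.Q0U49
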