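import Cfsg.Agent.Lib.Helper14.HNx.Q0Data
import Cfsg.Agent.Lib.Helper14.HNx.Q0U42
set_option autoImplicit false
set_option maxRecDepth 100000
set_option maxHeartbeats 0

namespace Cfsg.Agent.Lib.Helper14.HNx.Q0U50
open Cfsg.Agent.Lib.Helper28.TC2Upper Cfsg.Agent.Lib.Helper14.HNx.Q0Data

theorem chk250 : data.checkRange 325365 1495 = true := by decide +kernel
theorem chk251 : data.checkRange 326860 1441 = true := by decide +kernel
theorem chk252 : data.checkRange 328301 1481 = true := by decide +kernel
theorem chk253 : data.checkRange 329782 1469 = true := by decide +kernel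
theorem chk254 : data.checkRange 331251 1509 = true := by decide +kernel

end Cfsg.Agent.Lib.Helper14.HNx.Q0U50
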