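import Cfsg.Agent.Lib.Helper14.HNx.Q0Data
import Cfsg.Agent.Lib.Helper14.HNx.Q0U43
set_option autoImplicit false
set_option maxRecDepth 100000
set_option maxHeartbeats 0

namespace Cfsg.Agent.Lib.Helper14.HNx.Q0U51
open Cfsg.Agent.Lib.Helper28.TC2Upper Cfsg.Agent.Lib.Helper14.HNx.Q0Data

theorem chk255 : data.checkRange 332760 1480 = true := by decide +kernel
theorem chk256 : data.checkRange 334240 1456 = true := by decide +kernel
theorem chk257 : data.checkRange 335696 1449 = true := by decide +kernel
theorem chk258 : data.checkRange 337145 1488 = true := by decide +kernel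
theorem chk259 : data.checkRange 338633 1519 = true := by decide +kernel

end Cfsg.Agent.Lib.Helper14.HNx.Q0U51
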