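import Cfsg.Agent.Lib.Helper14.HNx.Q0Data
import Cfsg.Agent.Lib.Helper14.HNx.Q0U44
set_option autoImplicit false
set_option maxRecDepth 100000
set_option maxHeartbeats 0

namespace Cfsg.Agent.Lib.Helper14.HNx.Q0U52
open Cfsg.Agent.Lib.Helper28.TC2Upper Cfsg.Agent.Lib.Helper14.HNx.Q0Data

theorem chk260 : data.checkRange 340152 1458 = true := by decide +kernel
theorem chk261 : data.checkRange 341610 1529 = true := by decide +kernel
theorem chk262 : data.checkRange 343139 1470 = true := by decide +kernel
theorem chk263 : data.checkRange 344609 1486 = true := by decide +kernel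
theorem chk264 : data.checkRange 346095 1433 = true := by decide +kernel

end Cfsg.Agent.Lib.Helper14.HNx.Q0U52
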