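import Cfsg.Agent.Lib.Helper14.HNx.Q0Data
import Cfsg.Agent.Lib.Helper14.HNx.Q0U37
set_option autoImplicit false
set_option maxRecDepth 100000
set_option maxHeartbeats 0

namespace Cfsg.Agent.Lib.Helper14.HNx.Q0U45
open Cfsg.Agent.Lib.Helper28.TC2Upper Cfsg.Agent.Lib.Helper14.HNx.Q0Data

theorem chk225 : data.checkRange 289619 1386 = true := by decide +kernel
theorem chk226 : data.checkRange 291005 1463 = true := by decide +kernel
theorem chk227 : data.checkRange 292468 1437 = true := by decide +kernel
theorem chk228 : data.checkRange 293905 1373 = true := by decide +kernel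
theorem chk229 : data.checkRange 295278 1421 = true := by decide +kernel

end Cfsg.Agent.Lib.Helper14.HNx.Q0U45
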