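import Cfsg.Agent.Lib.Helper14.HNx.Q0Data
import Cfsg.Agent.Lib.Helper14.HNx.Q0U45
set_option autoImplicit false
set_option maxRecDepth 100000
set_option maxHeartbeats 0

namespace Cfsg.Agent.Lib.Helper14.HNx.Q0U53
open Cfsg.Agent.Lib.Helper28.TC2Upper Cfsg.Agent.Lib.Helper14.HNx.Q0Data

theorem chk265 : data.checkRange 347528 1514 = true := by decide +kernel
theorem chk266 : data.checkRange 349042 1474 = true := by decide +kernel
theorem chk267 : data.checkRange 350516 1475 = true := by decide +kernel
theorem chk268 : data.checkRange 351991 1504 = true := by decide +kernel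
theorem chk269 : data.checkRange 353495 1468 = true := by decide +kernel

end Cfsg.Agent.Lib.Helper14.HNx.Q0U53
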