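import Cfsg.Agent.Lib.Helper14.HNx.Q0Data
import Cfsg.Agent.Lib.Helper14.HNx.Q0U47
set_option autoImplicit false
set_option maxRecDepth 100000
set_option maxHeartbeats 0

namespace Cfsg.Agent.Lib.Helper14.HNx.Q0U55
open Cfsg.Agent.Lib.Helper28.TC2Upper Cfsg.Agent.Lib.Helper14.HNx.Q0Data

theorem chk275 : data.checkRange 362486 1482 = true := by decide +kernel
theorem chk276 : data.checkRange 363968 1510 = true := by decide +kernel
theorem chk277 : data.checkRange 365478 1486 = true := by decide +kernel
theorem chk278 : data.checkRange 366964 1508 = true := by decide +kernel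
theorem chk279 : data.checkRange 368472 1488 = true := by decide +kernel

end Cfsg.Agent.Lib.Helper14.HNx.Q0U55
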