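import Cfsg.Agent.Lib.Helper14.HNx.Q0Data
import Cfsg.Agent.Lib.Helper14.HNx.Q0U51
set_option autoImplicit false
set_option maxRecDepth 100000
set_option maxHeartbeats 0

namespace Cfsg.Agent.Lib.Helper14.HNx.Q0U59
open Cfsg.Agent.Lib.Helper28.TC2Upper Cfsg.Agent.Lib.Helper14.HNx.Q0Data

theorem chk295 : data.checkRange 392670 1516 = true := by decide +kernel
theorem chk296 : data.checkRange 394186 1531 = true := by decide +kernel
theorem chk297 : data.checkRange 395717 1520 = true := by decide +kernel
theorem chk298 : data.checkRange 397237 1493 = true := by decide +kernel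
theorem chk299 : data.checkRange 398730 1530 = true := by decide +kernel

end Cfsg.Agent.Lib.Helper14.HNx.Q0U59
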