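import Cfsg.Agent.Lib.Helper14.HNx.Q0Data
import Cfsg.Agent.Lib.Helper14.HNx.Q0U53
set_option autoImplicit false
set_option maxRecDepth 100000
set_option maxHeartbeats 0

namespace Cfsg.Agent.Lib.Helper14.HNx.Q0U61
open Cfsg.Agent.Lib.Helper28.TC2Upper Cfsg.Agent.Lib.Helper14.HNx.Q0Data

theorem chk305 : data.checkRange 407951 1563 = true := by decide +kernel
theorem chk306 : data.checkRange 409514 1461 = true := by decide +kernel
theorem chk307 : data.checkRange 410975 1503 = true := by decide +kernel
theorem chk308 : data.checkRange 412478 1482 = true := by decide +kernel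
theorem chk309 : data.checkRange 413960 1450 = true := by decide +kernel

end Cfsg.Agent.Lib.Helper14.HNx.Q0U61
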