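import Cfsg.Agent.Lib.Helper14.HNx.Q0Data
import Cfsg.Agent.Lib.Helper14.HNx.Q0U54
set_option autoImplicit false
set_option maxRecDepth 100000
set_option maxHeartbeats 0

namespace Cfsg.Agent.Lib.Helper14.HNx.Q0U62
open Cfsg.Agent.Lib.Helper28.TC2Upper Cfsg.Agent.Lib.Helper14.HNx.Q0Data

theorem chk310 : data.checkRange 415410 1495 = true := by decide +kernel
theorem chk311 : data.checkRange 416905 1555 = true := by decide +kernel
theorem chk312 : data.checkRange 418460 1511 = true := by decide +kernel
theorem chk313 : data.checkRange 419971 1510 = true := by decide +kernel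
theorem chk314 : data.checkRange 421481 1447 = true := by decide +kernel

end Cfsg.Agent.Lib.Helper14.HNx.Q0U62
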