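import Cfsg.Agent.Lib.Helper14.HNx.Q0Data
import Cfsg.Agent.Lib.Helper14.HNx.Q0U55
set_option autoImplicit false
set_option maxRecDepth 100000
set_option maxHeartbeats 0

namespace Cfsg.Agent.Lib.Helper14.HNx.Q0U63
open Cfsg.Agent.Lib.Helper28.TC2Upper Cfsg.Agent.Lib.Helper14.HNx.Q0Data

theorem chk315 : data.checkRange 422928 1521 = true := by decide +kernel
theorem chk316 : data.checkRange 424449 1577 = true := by decide +kernel
theorem chk317 : data.checkRange 426026 1527 = true := by decide +kernel
theorem chk318 : data.checkRange 427553 1556 = true := by decide +kernel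
theorem chk319 : data.checkRange 429109 1610 = true := by decide +kernel

end Cfsg.Agent.Lib.Helper14.HNx.Q0U63
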