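import Cfsg.Agent.Lib.Helper14.HNx.Q0Data
import Cfsg.Agent.Lib.Helper14.HNx.Q0U56
set_option autoImplicit false
set_option maxRecDepth 100000
set_option maxHeartbeats 0

namespace Cfsg.Agent.Lib.Helper14.HNx.Q0U64
open Cfsg.Agent.Lib.Helper28.TC2Upper Cfsg.Agent.Lib.Helper14.HNx.Q0Data

theorem chk320 : data.checkRange 430719 1552 = true := by decide +kernel
theorem chk321 : data.checkRange 432271 1528 = true := by decide +kernel
theorem chk322 : data.checkRange 433799 1584 = true := by decide +kernel
theorem chk323 : data.checkRange 435383 1571 = true := by decide +kernel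
theorem chk324 : data.checkRange 436954 1598 = true := by decide +kernel

end Cfsg.Agent.Lib.Helper14.HNx.Q0U64
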