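import Cfsg.Agent.Lib.Helper14.HNx.Q0Data
import Cfsg.Agent.Lib.Helper14.HNx.Q0U49
set_option autoImplicit false
set_option maxRecDepth 100000
set_option maxHeartbeats 0

namespace Cfsg.Agent.Lib.Helper14.HNx.Q0U57
open Cfsg.Agent.Lib.Helper28.TC2Upper Cfsg.Agent.Lib.Helper14.HNx.Q0Data

theorem chk285 : data.checkRange 377485 1497 = true := by decide +kernel
theorem chk286 : data.checkRange 378982 1578 = true := by decide +kernel
theorem chk287 : data.checkRange 380560 1515 = true := by decide +kernel
theorem chk288 : data.checkRange 382075 1532 = true := by decide +kernel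
theorem chk289 : data.checkRange 383607 1504 = true := by decide +kernel

end Cfsg.Agent.Lib.Helper14.HNx.Q0U57
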