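import Cfsg.Agent.Lib.Helper14.HNx.Q0Data
import Cfsg.Agent.Lib.Helper14.HNx.Q0U57
set_option autoImplicit false
set_option maxRecDepth 100000
set_option maxHeartbeats 0

namespace Cfsg.Agent.Lib.Helper14.HNx.Q0U65
open Cfsg.Agent.Lib.Helper28.TC2Upper Cfsg.Agent.Lib.Helper14.HNx.Q0Data

theorem chk325 : data.checkRange 438552 1548 = true := by decide +kernel
theorem chk326 : data.checkRange 440100 1595 = true := by decide +kernel
theorem chk327 : data.checkRange 441695 1540 = true := by decide +kernel
theorem chk328 : data.checkRange 443235 1622 = true := by decide +kernel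
theorem chk329 : data.checkRange 444857 1605 = true := by decide +kernel

end Cfsg.Agent.Lib.Helper14.HNx.Q0U65
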