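import Cfsg.Agent.Lib.Helper14.HNx.Q0Data
import Cfsg.Agent.Lib.Helper14.HNx.Q0U58
set_option autoImplicit false
set_option maxRecDepth 100000
set_option maxHeartbeats 0

namespace Cfsg.Agent.Lib.Helper14.HNx.Q0U66
open Cfsg.Agent.Lib.Helper28.TC2Upper Cfsg.Agent.Lib.Helper14.HNx.Q0Data

theorem chk330 : data.checkRange 446462 1596 = true := by decide +kernel
theorem chk331 : data.checkRange 448058 1570 = true := by decide +kernel
theorem chk332 : data.checkRange 449628 1579 = true := by decide +kernel
theorem chk333 : data.checkRange 451207 1611 = true := by decide +kernel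
theorem chk334 : data.checkRange 452818 1611 = true := by decide +kernel

end Cfsg.Agent.Lib.Helper14.HNx.Q0U66
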