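import Cfsg.Agent.Lib.Helper14.HNx.Q0Data
import Cfsg.Agent.Lib.Helper14.HNx.Q0U59
set_option autoImplicit false
set_option maxRecDepth 100000
set_option maxHeartbeats 0

namespace Cfsg.Agent.Lib.Helper14.HNx.Q0U67
open Cfsg.Agent.Lib.Helper28.TC2Upper Cfsg.Agent.Lib.Helper14.HNx.Q0Data

theorem chk335 : data.checkRange 454429 1637 = true := by decide +kernel
theorem chk336 : data.checkRange 456066 1572 = true := by decide +kernel
theorem chk337 : data.checkRange 457638 1617 = true := by decide +kernel
theorem chk338 : data.checkRange 459255 1613 = true := by decide +kernel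
theorem chk339 : data.checkRange 460868 1598 = true := by decide +kernel

end Cfsg.Agent.Lib.Helper14.HNx.Q0U67
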