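import Cfsg.Agent.Lib.Helper14.HNx.Q0Data
import Cfsg.Agent.Lib.Helper14.HNx.Q0U60
set_option autoImplicit false
set_option maxRecDepth 100000
set_option maxHeartbeats 0

namespace Cfsg.Agent.Lib.Helper14.HNx.Q0U68
open Cfsg.Agent.Lib.Helper28.TC2Upper Cfsg.Agent.Lib.Helper14.HNx.Q0Data

theorem chk340 : data.checkRange 462466 1599 = true := by decide +kernel
theorem chk341 : data.checkRange 464065 1604 = true := by decide +kernel
theorem chk342 : data.checkRange 465669 1591 = true := by decide +kernel
theorem chk343 : data.checkRange 467260 1629 = true := by decide +kernel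
theorem chk344 : data.checkRange 468889 1621 = true := by decide +kernel

end Cfsg.Agent.Lib.Helper14.HNx.Q0U68
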