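import Cfsg.Agent.Lib.Helper14.HNx.Q0Data
import Cfsg.Agent.Lib.Helper14.HNx.Q0U62
set_option autoImplicit false
set_option maxRecDepth 100000
set_option maxHeartbeats 0

namespace Cfsg.Agent.Lib.Helper14.HNx.Q0U70
open Cfsg.Agent.Lib.Helper28.TC2Upper Cfsg.Agent.Lib.Helper14.HNx.Q0Data

theorem chk350 : data.checkRange 478457 1605 = true := by decide +kernel
theorem chk351 : data.checkRange 480062 1612 = true := by decide +kernel
theorem chk352 : data.checkRange 481674 1620 = true := by decide +kernel
theorem chk353 : data.checkRange 483294 1610 = true := by decide +kernel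
theorem chk354 : data.checkRange 484904 1672 = true := by decide +kernel

end Cfsg.Agent.Lib.Helper14.HNx.Q0U70
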