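import Cfsg.Agent.Lib.Helper14.HNx.Q0Data
import Cfsg.Agent.Lib.Helper14.HNx.Q0U63
set_option autoImplicit false
set_option maxRecDepth 100000
set_option maxHeartbeats 0

namespace Cfsg.Agent.Lib.Helper14.HNx.Q0U71
open Cfsg.Agent.Lib.Helper28.TC2Upper Cfsg.Agent.Lib.Helper14.HNx.Q0Data

theorem chk355 : data.checkRange 486576 1634 = true := by decide +kernel
theorem chk356 : data.checkRange 488210 1638 = true := by decide +kernel
theorem chk357 : data.checkRange 489848 1615 = true := by decide +kernel
theorem chk358 : data.checkRange 491463 1568 = true := by decide +kernel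
theorem chk359 : data.checkRange 493031 1613 = true := by decide +kernel

end Cfsg.Agent.Lib.Helper14.HNx.Q0U71
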