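import Cfsg.Agent.Lib.Helper14.HNx.Q0Data
import Cfsg.Agent.Lib.Helper14.HNx.Q0U64
set_option autoImplicit false
set_option maxRecDepth 100000
set_option maxHeartbeats 0

namespace Cfsg.Agent.Lib.Helper14.HNx.Q0U72
open Cfsg.Agent.Lib.Helper28.TC2Upper Cfsg.Agent.Lib.Helper14.HNx.Q0Data

theorem chk360 : data.checkRange 494644 1595 = true := by decide +kernel
theorem chk361 : data.checkRange 496239 1623 = true := by decide +kernel
theorem chk362 : data.checkRange 497862 1660 = true := by decide +kernel
theorem chk363 : data.checkRange 499522 1584 = true := by decide +kernel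
theorem chk364 : data.checkRange 501106 1612 = true := by decide +kernel

end Cfsg.Agent.Lib.Helper14.HNx.Q0U72
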