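import Cfsg.Agent.Lib.Helper14.HNx.Q0Data
import Cfsg.Agent.Lib.Helper14.HNx.Q0U65
set_option autoImplicit false
set_option maxRecDepth 100000
set_option maxHeartbeats 0

namespace Cfsg.Agent.Lib.Helper14.HNx.Q0U73
open Cfsg.Agent.Lib.Helper28.TC2Upper Cfsg.Agent.Lib.Helper14.HNx.Q0Data

theorem chk365 : data.checkRange 502718 1601 = true := by decide +kernel
theorem chk366 : data.checkRange 504319 1637 = true := by decide +kernel
theorem chk367 : data.checkRange 505956 1627 = true := by decide +kernel
theorem chk368 : data.checkRange 507583 1586 = true := by decide +kernel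
theorem chk369 : data.checkRange 509169 1596 = true := by decide +kernel

end Cfsg.Agent.Lib.Helper14.HNx.Q0U73
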