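import Cfsg.Agent.Lib.Helper14.HNx.Q0Data
import Cfsg.Agent.Lib.Helper14.HNx.Q0U66
set_option autoImplicit false
set_option maxRecDepth 100000
set_option maxHeartbeats 0

namespace Cfsg.Agent.Lib.Helper14.HNx.Q0U74
open Cfsg.Agent.Lib.Helper28.TC2Upper Cfsg.Agent.Lib.Helper14.HNx.Q0Data

theorem chk370 : data.checkRange 510765 1616 = true := by decide +kernel
theorem chk371 : data.checkRange 512381 1569 = true := by decide +kernel
theorem chk372 : data.checkRange 513950 1591 = true := by decide +kernel
theorem chk373 : data.checkRange 515541 1604 = true := by decide +kernel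
theorem chk374 : data.checkRange 517145 1529 = true := by decide +kernel

end Cfsg.Agent.Lib.Helper14.HNx.Q0U74
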