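import Cfsg.Agent.Lib.Helper14.HNx.Q0Data
import Cfsg.Agent.Lib.Helper14.HNx.Q0U67
set_option autoImplicit false
set_option maxRecDepth 100000
set_option maxHeartbeats 0

namespace Cfsg.Agent.Lib.Helper14.HNx.Q0U75
open Cfsg.Agent.Lib.Helper28.TC2Upper Cfsg.Agent.Lib.Helper14.HNx.Q0Data

theorem chk375 : data.checkRange 518674 1501 = true := by decide +kernel
theorem chk376 : data.checkRange 520175 1264 = true := by decide +kernel
theorem chk377 : data.checkRange 521439 1250 = true := by decide +kernel
theorem chk378 : data.checkRange 522689 1233 = true := by decide +kernel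
theorem chk379 : data.checkRange 523922 1225 = true := by decide +kernel

end Cfsg.Agent.Lib.Helper14.HNx.Q0U75
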