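import Cfsg.Agent.Lib.Helper14.HNx.Q0Data
import Cfsg.Agent.Lib.Helper14.HNx.Q0U68
set_option autoImplicit false
set_option maxRecDepth 100000
set_option maxHeartbeats 0

namespace Cfsg.Agent.Lib.Helper14.HNx.Q0U76
open Cfsg.Agent.Lib.Helper28.TC2Upper Cfsg.Agent.Lib.Helper14.HNx.Q0Data

theorem chk380 : data.checkRange 525147 1224 = true := by decide +kernel
theorem chk381 : data.checkRange 526371 1219 = true := by decide +kernel
theorem chk382 : data.checkRange 527590 1218 = true := by decide +kernel
theorem chk383 : data.checkRange 528808 1210 = true := by decide +kernel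
theorem chk384 : data.checkRange 530018 1209 = true := by decide +kernel

end Cfsg.Agent.Lib.Helper14.HNx.Q0U76
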