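import Cfsg.Agent.Lib.Helper14.HNx.Q0Data
import Cfsg.Agent.Lib.Helper14.HNx.Q0U61
set_option autoImplicit false
set_option maxRecDepth 100000
set_option maxHeartbeats 0

namespace Cfsg.Agent.Lib.Helper14.HNx.Q0U69
open Cfsg.Agent.Lib.Helper28.TC2Upper Cfsg.Agent.Lib.Helper14.HNx.Q0Data

theorem chk345 : data.checkRange 470510 1589 = true := by decide +kernel
theorem chk346 : data.checkRange 472099 1548 = true := by decide +kernel
theorem chk347 : data.checkRange 473647 1629 = true := by decide +kernel
theorem chk348 : data.checkRange 475276 1595 = true := by decide +kernel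
theorem chk349 : data.checkRange 476871 1586 = true := by decide +kernel

end Cfsg.Agent.Lib.Helper14.HNx.Q0U69
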