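import Cfsg.Agent.Lib.Helper14.HNx.Q0Data
import Cfsg.Agent.Lib.Helper14.HNx.Q0U69
set_option autoImplicit false
set_option maxRecDepth 100000
set_option maxHeartbeats 0

namespace Cfsg.Agent.Lib.Helper14.HNx.Q0U77
open Cfsg.Agent.Lib.Helper28.TC2Upper Cfsg.Agent.Lib.Helper14.HNx.Q0Data

theorem chk385 : data.checkRange 531227 1208 = true := by decide +kernel
theorem chk386 : data.checkRange 532435 1202 = true := by decide +kernel
theorem chk387 : data.checkRange 533637 1201 = true := by decide +kernel
theorem chk388 : data.checkRange 534838 1202 = true := by decide +kernel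
theorem chk389 : data.checkRange 536040 1200 = true := by decide +kernel

end Cfsg.Agent.Lib.Helper14.HNx.Q0U77
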