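import Cfsg.Agent.Lib.Helper14.HNx.Q0Data
import Cfsg.Agent.Lib.Helper14.HNx.Q0U70
set_option autoImplicit false
set_option maxRecDepth 100000
set_option maxHeartbeats 0

namespace Cfsg.Agent.Lib.Helper14.HNx.Q0U78
open Cfsg.Agent.Lib.Helper28.TC2Upper Cfsg.Agent.Lib.Helper14.HNx.Q0Data

theorem chk390 : data.checkRange 537240 1201 = true := by decide +kernel
theorem chk391 : data.checkRange 538441 1202 = true := by decide +kernel
theorem chk392 : data.checkRange 539643 1200 = true := by decide +kernel
theorem chk393 : data.checkRange 540843 389 = true := by decide +kernel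

end Cfsg.Agent.Lib.Helper14.HNx.Q0U78
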