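import Cfsg.Agent.Lib.Helper28.TC2Glue
import Cfsg.Agent.Lib.Helper28.TC2Range
import Cfsg.Agent.Lib.Helper14.HNx.Q0Link
import Cfsg.Agent.Lib.Helper14.HNx.Q0M0
import Cfsg.Agent.Lib.Helper14.HNx.Q0M1
import Cfsg.Agent.Lib.Helper14.HNx.Q0M2
import Cfsg.Agent.Lib.Helper14.HNx.Q0M3
import Cfsg.Agent.Lib.Helper14.HNx.Q0M4
import Cfsg.Agent.Lib.Helper14.HNx.Q0M5
import Cfsg.Agent.Lib.Helper14.HNx.Q0M6
import Cfsg.Agent.Lib.Helper14.HNx.Q0M7
import Cfsg.Agent.Lib.Helper14.HNx.Q0M8
import Cfsg.Agent.Lib.Helper14.HNx.Q0M9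
import Cfsg.Agent.Lib.Helper14.HNx.Q0M10
import Cfsg.Agent.Lib.Helper14.HNx.Q0M11
import Cfsg.Agent.Lib.Helper14.HNx.Q0M12
import Cfsg.Agent.Lib.Helper14.HNx.Q0M13
import Cfsg.Agent.Lib.Helper14.HNx.Q0M14
import Cfsg.Agent.Lib.Helper14.HNx.Q0M15
import Cfsg.Agent.Lib.Helper14.HNx.Q0M16
import Cfsg.Agent.Lib.Helper14.HNx.Q0M17
import Cfsg.Agent.Lib.Helper14.HNx.Q0M18
import Cfsg.Agent.Lib.Helper14.HNx.Q0M19
import Cfsg.Agent.Lib.Helper14.HNx.Q0M20
import Cfsg.Agent.Lib.Helper14.HNx.Q0M21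
import Cfsg.Agent.Lib.Helper14.HNx.Q0M22
import Cfsg.Agent.Lib.Helper14.HNx.Q0M23
import Cfsg.Agent.Lib.Helper14.HNx.Q0M24
import Cfsg.Agent.Lib.Helper14.HNx.Q0M25
import Cfsg.Agent.Lib.Helper14.HNx.Q0M26
import Cfsg.Agent.Lib.Helper14.HNx.Q0M27
import Cfsg.Agent.Lib.Helper14.HNx.Q0M28
import Cfsg.Agent.Lib.Helper14.HNx.Q0M29
import Cfsg.Agent.Lib.Helper14.HNx.Q0M30
import Cfsg.Agent.Lib.Helper14.HNx.Q0M31
import Cfsg.Agent.Lib.Helper14.HNx.Q0M32
import Cfsg.Agent.Lib.Helper14.HNx.Q0M33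
import Cfsg.Agent.Lib.Helper14.HNx.Q0M34
import Cfsg.Agent.Lib.Helper14.HNx.Q0M35
import Cfsg.Agent.Lib.Helper14.HNx.Q0M36
import Cfsg.Agent.Lib.Helper14.HNx.Q0U0
import Cfsg.Agent.Lib.Helper14.HNx.Q0U1
import Cfsg.Agent.Lib.Helper14.HNx.Q0U2
import Cfsg.Agent.Lib.Helper14.HNx.Q0U3
import Cfsg.Agent.Lib.Helper14.HNx.Q0U4
import Cfsg.Agent.Lib.Helper14.HNx.Q0U5
import Cfsg.Agent.Lib.Helper14.HNx.Q0U6
import Cfsg.Agent.Lib.Helper14.HNx.Q0U7
import Cfsg.Agent.Lib.Helper14.HNx.Q0U8
import Cfsg.Agent.Lib.Helper14.HNx.Q0U9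
import Cfsg.Agent.Lib.Helper14.HNx.Q0U10
import Cfsg.Agent.Lib.Helper14.HNx.Q0U11
import Cfsg.Agent.Lib.Helper14.HNx.Q0U12
import Cfsg.Agent.Lib.Helper14.HNx.Q0U13
import Cfsg.Agent.Lib.Helper14.HNx.Q0U14
import Cfsg.Agent.Lib.Helper14.HNx.Q0U15
import Cfsg.Agent.Lib.Helper14.HNx.Q0U16
import Cfsg.Agent.Lib.Helper14.HNx.Q0U17
import Cfsg.Agent.Lib.Helper14.HNx.Q0U18
import Cfsg.Agent.Lib.Helper14.HNx.Q0U19
import Cfsg.Agent.Lib.Helper14.HNx.Q0U20
import Cfsg.Agent.Lib.Helper14.HNx.Q0U21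
import Cfsg.Agent.Lib.Helper14.HNx.Q0U22
import Cfsg.Agent.Lib.Helper14.HNx.Q0U23
import Cfsg.Agent.Lib.Helper14.HNx.Q0U24
import Cfsg.Agent.Lib.Helper14.HNx.Q0U25
import Cfsg.Agent.Lib.Helper14.HNx.Q0U26
import Cfsg.Agent.Lib.Helper14.HNx.Q0U27
import Cfsg.Agent.Lib.Helper14.HNx.Q0U28
import Cfsg.Agent.Lib.Helper14.HNx.Q0U29
import Cfsg.Agent.Lib.Helper14.HNx.Q0U30
import Cfsg.Agent.Lib.Helper14.HNx.Q0U31
import Cfsg.Agent.Lib.Helper14.HNx.Q0U32
import Cfsg.Agent.Lib.Helper14.HNx.Q0U33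
import Cfsg.Agent.Lib.Helper14.HNx.Q0U34
import Cfsg.Agent.Lib.Helper14.HNx.Q0U35
import Cfsg.Agent.Lib.Helper14.HNx.Q0U36
import Cfsg.Agent.Lib.Helper14.HNx.Q0U37
import Cfsg.Agent.Lib.Helper14.HNx.Q0U38
import Cfsg.Agent.Lib.Helper14.HNx.Q0U39
import Cfsg.Agent.Lib.Helper14.HNx.Q0U40
import Cfsg.Agent.Lib.Helper14.HNx.Q0U41
import Cfsg.Agent.Lib.Helper14.HNx.Q0U42
import Cfsg.Agent.Lib.Helper14.HNx.Q0U43
import Cfsg.Agent.Lib.Helper14.HNx.Q0U44
import Cfsg.Agent.Lib.Helper14.HNx.Q0U45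
import Cfsg.Agent.Lib.Helper14.HNx.Q0U46
import Cfsg.Agent.Lib.Helper14.HNx.Q0U47
import Cfsg.Agent.Lib.Helper14.HNx.Q0U48
import Cfsg.Agent.Lib.Helper14.HNx.Q0U49
import Cfsg.Agent.Lib.Helper14.HNx.Q0U50
import Cfsg.Agent.Lib.Helper14.HNx.Q0U51
import Cfsg.Agent.Lib.Helper14.HNx.Q0U52
import Cfsg.Agent.Lib.Helper14.HNx.Q0U53
import Cfsg.Agent.Lib.Helper14.HNx.Q0U54
import Cfsg.Agent.Lib.Helper14.HNx.Q0U55
import Cfsg.Agent.Lib.Helper14.HNx.Q0U56
import Cfsg.Agent.Lib.Helper14.HNx.Q0U57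
import Cfsg.Agent.Lib.Helper14.HNx.Q0U58
import Cfsg.Agent.Lib.Helper14.HNx.Q0U59
import Cfsg.Agent.Lib.Helper14.HNx.Q0U60
import Cfsg.Agent.Lib.Helper14.HNx.Q0U61
import Cfsg.Agent.Lib.Helper14.HNx.Q0U62
import Cfsg.Agent.Lib.Helper14.HNx.Q0U63
import Cfsg.Agent.Lib.Helper14.HNx.Q0U64
import Cfsg.Agent.Lib.Helper14.HNx.Q0U65
import Cfsg.Agent.Lib.Helper14.HNx.Q0U66
import Cfsg.Agent.Lib.Helper14.HNx.Q0U67
import Cfsg.Agent.Lib.Helper14.HNx.Q0U68
import Cfsg.Agent.Lib.Helper14.HNx.Q0U69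
import Cfsg.Agent.Lib.Helper14.HNx.Q0U70
import Cfsg.Agent.Lib.Helper14.HNx.Q0U71
import Cfsg.Agent.Lib.Helper14.HNx.Q0U72
import Cfsg.Agent.Lib.Helper14.HNx.Q0U73
import Cfsg.Agent.Lib.Helper14.HNx.Q0U74
import Cfsg.Agent.Lib.Helper14.HNx.Q0U75
import Cfsg.Agent.Lib.Helper14.HNx.Q0U76
import Cfsg.Agent.Lib.Helper14.HNx.Q0U77
import Cfsg.Agent.Lib.Helper14.HNx.Q0U78

set_option autoImplicit false
set_option maxRecDepth 100000
open Cfsg

namespace Cfsg.Agent.Lib.Helper14.HNx.Q0MainU
open Cfsg.Agent.Lib.Helper28.TC2Upper Cfsg.Agent.Lib.Helper28.TC2Lower Cfsg.Agent.Lib.Helper28.TC2Glue Cfsg.Agent.Lib.Helper28.TC2Range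
open Cfsg.Agent.Lib.Helper14.HNx.Q0Data Cfsg.Agent.Lib.Helper14.HNx.Q0Table Cfsg.Agent.Lib.Helper14.HNx.Q0Link

theorem hchk : ∀ v, v < data.N → data.checkNode v = true := by
  intro v hv
  have hv' : v < 541232 := hv
  rcases Nat.lt_or_ge v 1323 with h0 | h0
  · exact (data.checkRange_iff 0 1323).mp Cfsg.Agent.Lib.Helper14.HNx.Q0U0.chk0 v (by omega) (by omega)
  rcases Nat.lt_or_ge v 2523 with h1 | h1
  · exact (data.checkRange_iff 1323 1200).mp Cfsg.Agent.Lib.Helper14.HNx.Q0U0.chk1 v (by omega) (by omega)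
  rcases Nat.lt_or_ge v 3722 with h2 | h2
  · exact (data.checkRange_iff 2523 1199).mp Cfsg.Agent.Lib.Helper14.HNx.Q0U0.chk2 v (by omega) (by omega)
  rcases Nat.lt_or_ge v 4921 with h3 | h3
  · exact (data.checkRange_iff 3722 1199).mp Cfsg.Agent.Lib.Helper14.HNx.Q0U0.chk3 v (by omega) (by omega)
  rcases Nat.lt_or_ge v 6116 with h4 | h4
  · exact (data.checkRange_iff 4921 1195).mp Cfsg.Agent.Lib.Helper14.HNx.Q0U0.chk4 v (by omega) (by omega)
  rcases Nat.lt_or_ge v 7313 with h5 | h5
  · exact (data.checkRange_iff 6116 1197).mp Cfsg.Agent.Lib.Helper14.HNx.Q0U1.chk5 v (by omega) (by omega)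
  rcases Nat.lt_or_ge v 8508 with h6 | h6
  · exact (data.checkRange_iff 7313 1195).mp Cfsg.Agent.Lib.Helper14.HNx.Q0U1.chk6 v (by omega) (by omega)
  rcases Nat.lt_or_ge v 9698 with h7 | h7
  · exact (data.checkRange_iff 8508 1190).mp Cfsg.Agent.Lib.Helper14.HNx.Q0U1.chk7 v (by omega) (by omega)
  rcases Nat.lt_or_ge v 10891 with h8 | h8
  · exact (data.checkRange_iff 9698 1193).mp Cfsg.Agent.Lib.Helper14.HNx.Q0U1.chk8 v (by omega) (by omega)
  rcases Nat.lt_or_ge v 12081 with h9 | h9
  · exact (data.checkRange_iff 10891 1190).mp Cfsg.Agent.Lib.Helper14.HNx.Q0U1.chk9 v (by omega) (by omega)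
  rcases Nat.lt_or_ge v 13270 with h10 | h10
  · exact (data.checkRange_iff 12081 1189).mp Cfsg.Agent.Lib.Helper14.HNx.Q0U2.chk10 v (by omega) (by omega)
  rcases Nat.lt_or_ge v 14460 with h11 | h11
  · exact (data.checkRange_iff 13270 1190).mp Cfsg.Agent.Lib.Helper14.HNx.Q0U2.chk11 v (by omega) (by omega)
  rcases Nat.lt_or_ge v 15648 with h12 | h12
  · exact (data.checkRange_iff 14460 1188).mp Cfsg.Agent.Lib.Helper14.HNx.Q0U2.chk12 v (by omega) (by omega)
  rcases Nat.lt_or_ge v 16838 with h13 | h13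
  · exact (data.checkRange_iff 15648 1190).mp Cfsg.Agent.Lib.Helper14.HNx.Q0U2.chk13 v (by omega) (by omega)
  rcases Nat.lt_or_ge v 18028 with h14 | h14
  · exact (data.checkRange_iff 16838 1190).mp Cfsg.Agent.Lib.Helper14.HNx.Q0U2.chk14 v (by omega) (by omega)
  rcases Nat.lt_or_ge v 19217 with h15 | h15
  · exact (data.checkRange_iff 18028 1189).mp Cfsg.Agent.Lib.Helper14.HNx.Q0U3.chk15 v (by omega) (by omega)
  rcases Nat.lt_or_ge v 20406 with h16 | h16
  · exact (data.checkRange_iff 19217 1189).mp Cfsg.Agent.Lib.Helper14.HNx.Q0U3.chk16 v (by omega) (by omega)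
  rcases Nat.lt_or_ge v 21591 with h17 | h17
  · exact (data.checkRange_iff 20406 1185).mp Cfsg.Agent.Lib.Helper14.HNx.Q0U3.chk17 v (by omega) (by omega)
  rcases Nat.lt_or_ge v 22778 with h18 | h18
  · exact (data.checkRange_iff 21591 1187).mp Cfsg.Agent.Lib.Helper14.HNx.Q0U3.chk18 v (by omega) (by omega)
  rcases Nat.lt_or_ge v 23963 with h19 | h19
  · exact (data.checkRange_iff 22778 1185).mp Cfsg.Agent.Lib.Helper14.HNx.Q0U3.chk19 v (by omega) (by omega)
  rcases Nat.lt_or_ge v 25155 with h20 | h20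
  · exact (data.checkRange_iff 23963 1192).mp Cfsg.Agent.Lib.Helper14.HNx.Q0U4.chk20 v (by omega) (by omega)
  rcases Nat.lt_or_ge v 26343 with h21 | h21
  · exact (data.checkRange_iff 25155 1188).mp Cfsg.Agent.Lib.Helper14.HNx.Q0U4.chk21 v (by omega) (by omega)
  rcases Nat.lt_or_ge v 27533 with h22 | h22
  · exact (data.checkRange_iff 26343 1190).mp Cfsg.Agent.Lib.Helper14.HNx.Q0U4.chk22 v (by omega) (by omega)
  rcases Nat.lt_or_ge v 28729 with h23 | h23
  · exact (data.checkRange_iff 27533 1196).mp Cfsg.Agent.Lib.Helper14.HNx.Q0U4.chk23 v (by omega) (by omega)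
  rcases Nat.lt_or_ge v 29923 with h24 | h24
  · exact (data.checkRange_iff 28729 1194).mp Cfsg.Agent.Lib.Helper14.HNx.Q0U4.chk24 v (by omega) (by omega)
  rcases Nat.lt_or_ge v 31117 with h25 | h25
  · exact (data.checkRange_iff 29923 1194).mp Cfsg.Agent.Lib.Helper14.HNx.Q0U5.chk25 v (by omega) (by omega)
  rcases Nat.lt_or_ge v 32318 with h26 | h26
  · exact (data.checkRange_iff 31117 1201).mp Cfsg.Agent.Lib.Helper14.HNx.Q0U5.chk26 v (by omega) (by omega)
  rcases Nat.lt_or_ge v 33506 with h27 | h27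
  · exact (data.checkRange_iff 32318 1188).mp Cfsg.Agent.Lib.Helper14.HNx.Q0U5.chk27 v (by omega) (by omega)
  rcases Nat.lt_or_ge v 34700 with h28 | h28
  · exact (data.checkRange_iff 33506 1194).mp Cfsg.Agent.Lib.Helper14.HNx.Q0U5.chk28 v (by omega) (by omega)
  rcases Nat.lt_or_ge v 35881 with h29 | h29
  · exact (data.checkRange_iff 34700 1181).mp Cfsg.Agent.Lib.Helper14.HNx.Q0U5.chk29 v (by omega) (by omega)
  rcases Nat.lt_or_ge v 37075 with h30 | h30
  · exact (data.checkRange_iff 35881 1194).mp Cfsg.Agent.Lib.Helper14.HNx.Q0U6.chk30 v (by omega) (by omega)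
  rcases Nat.lt_or_ge v 38260 with h31 | h31
  · exact (data.checkRange_iff 37075 1185).mp Cfsg.Agent.Lib.Helper14.HNx.Q0U6.chk31 v (by omega) (by omega)
  rcases Nat.lt_or_ge v 39445 with h32 | h32
  · exact (data.checkRange_iff 38260 1185).mp Cfsg.Agent.Lib.Helper14.HNx.Q0U6.chk32 v (by omega) (by omega)
  rcases Nat.lt_or_ge v 40650 with h33 | h33
  · exact (data.checkRange_iff 39445 1205).mp Cfsg.Agent.Lib.Helper14.HNx.Q0U6.chk33 v (by omega) (by omega)
  rcases Nat.lt_or_ge v 41851 with h34 | h34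
  · exact (data.checkRange_iff 40650 1201).mp Cfsg.Agent.Lib.Helper14.HNx.Q0U6.chk34 v (by omega) (by omega)
  rcases Nat.lt_or_ge v 43038 with h35 | h35
  · exact (data.checkRange_iff 41851 1187).mp Cfsg.Agent.Lib.Helper14.HNx.Q0U7.chk35 v (by omega) (by omega)
  rcases Nat.lt_or_ge v 44240 with h36 | h36
  · exact (data.checkRange_iff 43038 1202).mp Cfsg.Agent.Lib.Helper14.HNx.Q0U7.chk36 v (by omega) (by omega)
  rcases Nat.lt_or_ge v 45434 with h37 | h37
  · exact (data.checkRange_iff 44240 1194).mp Cfsg.Agent.Lib.Helper14.HNx.Q0U7.chk37 v (by omega) (by omega)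
  rcases Nat.lt_or_ge v 46643 with h38 | h38
  · exact (data.checkRange_iff 45434 1209).mp Cfsg.Agent.Lib.Helper14.HNx.Q0U7.chk38 v (by omega) (by omega)
  rcases Nat.lt_or_ge v 47846 with h39 | h39
  · exact (data.checkRange_iff 46643 1203).mp Cfsg.Agent.Lib.Helper14.HNx.Q0U7.chk39 v (by omega) (by omega)
  rcases Nat.lt_or_ge v 49046 with h40 | h40
  · exact (data.checkRange_iff 47846 1200).mp Cfsg.Agent.Lib.Helper14.HNx.Q0U8.chk40 v (by omega) (by omega)
  rcases Nat.lt_or_ge v 50251 with h41 | h41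
  · exact (data.checkRange_iff 49046 1205).mp Cfsg.Agent.Lib.Helper14.HNx.Q0U8.chk41 v (by omega) (by omega)
  rcases Nat.lt_or_ge v 51458 with h42 | h42
  · exact (data.checkRange_iff 50251 1207).mp Cfsg.Agent.Lib.Helper14.HNx.Q0U8.chk42 v (by omega) (by omega)
  rcases Nat.lt_or_ge v 52667 with h43 | h43
  · exact (data.checkRange_iff 51458 1209).mp Cfsg.Agent.Lib.Helper14.HNx.Q0U8.chk43 v (by omega) (by omega)
  rcases Nat.lt_or_ge v 53885 with h44 | h44
  · exact (data.checkRange_iff 52667 1218).mp Cfsg.Agent.Lib.Helper14.HNx.Q0U8.chk44 v (by omega) (by omega)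
  rcases Nat.lt_or_ge v 55088 with h45 | h45
  · exact (data.checkRange_iff 53885 1203).mp Cfsg.Agent.Lib.Helper14.HNx.Q0U9.chk45 v (by omega) (by omega)
  rcases Nat.lt_or_ge v 56299 with h46 | h46
  · exact (data.checkRange_iff 55088 1211).mp Cfsg.Agent.Lib.Helper14.HNx.Q0U9.chk46 v (by omega) (by omega)
  rcases Nat.lt_or_ge v 57500 with h47 | h47
  · exact (data.checkRange_iff 56299 1201).mp Cfsg.Agent.Lib.Helper14.HNx.Q0U9.chk47 v (by omega) (by omega)
  rcases Nat.lt_or_ge v 58703 with h48 | h48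
  · exact (data.checkRange_iff 57500 1203).mp Cfsg.Agent.Lib.Helper14.HNx.Q0U9.chk48 v (by omega) (by omega)
  rcases Nat.lt_or_ge v 59902 with h49 | h49
  · exact (data.checkRange_iff 58703 1199).mp Cfsg.Agent.Lib.Helper14.HNx.Q0U9.chk49 v (by omega) (by omega)
  rcases Nat.lt_or_ge v 61116 with h50 | h50
  · exact (data.checkRange_iff 59902 1214).mp Cfsg.Agent.Lib.Helper14.HNx.Q0U10.chk50 v (by omega) (by omega)
  rcases Nat.lt_or_ge v 62330 with h51 | h51
  · exact (data.checkRange_iff 61116 1214).mp Cfsg.Agent.Lib.Helper14.HNx.Q0U10.chk51 v (by omega) (by omega)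
  rcases Nat.lt_or_ge v 63532 with h52 | h52
  · exact (data.checkRange_iff 62330 1202).mp Cfsg.Agent.Lib.Helper14.HNx.Q0U10.chk52 v (by omega) (by omega)
  rcases Nat.lt_or_ge v 64741 with h53 | h53
  · exact (data.checkRange_iff 63532 1209).mp Cfsg.Agent.Lib.Helper14.HNx.Q0U10.chk53 v (by omega) (by omega)
  rcases Nat.lt_or_ge v 65955 with h54 | h54
  · exact (data.checkRange_iff 64741 1214).mp Cfsg.Agent.Lib.Helper14.HNx.Q0U10.chk54 v (by omega) (by omega)
  rcases Nat.lt_or_ge v 67179 with h55 | h55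
  · exact (data.checkRange_iff 65955 1224).mp Cfsg.Agent.Lib.Helper14.HNx.Q0U11.chk55 v (by omega) (by omega)
  rcases Nat.lt_or_ge v 68403 with h56 | h56
  · exact (data.checkRange_iff 67179 1224).mp Cfsg.Agent.Lib.Helper14.HNx.Q0U11.chk56 v (by omega) (by omega)
  rcases Nat.lt_or_ge v 69624 with h57 | h57
  · exact (data.checkRange_iff 68403 1221).mp Cfsg.Agent.Lib.Helper14.HNx.Q0U11.chk57 v (by omega) (by omega)
  rcases Nat.lt_or_ge v 70830 with h58 | h58
  · exact (data.checkRange_iff 69624 1206).mp Cfsg.Agent.Lib.Helper14.HNx.Q0U11.chk58 v (by omega) (by omega)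
  rcases Nat.lt_or_ge v 72039 with h59 | h59
  · exact (data.checkRange_iff 70830 1209).mp Cfsg.Agent.Lib.Helper14.HNx.Q0U11.chk59 v (by omega) (by omega)
  rcases Nat.lt_or_ge v 73260 with h60 | h60
  · exact (data.checkRange_iff 72039 1221).mp Cfsg.Agent.Lib.Helper14.HNx.Q0U12.chk60 v (by omega) (by omega)
  rcases Nat.lt_or_ge v 74484 with h61 | h61
  · exact (data.checkRange_iff 73260 1224).mp Cfsg.Agent.Lib.Helper14.HNx.Q0U12.chk61 v (by omega) (by omega)
  rcases Nat.lt_or_ge v 75701 with h62 | h62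
  · exact (data.checkRange_iff 74484 1217).mp Cfsg.Agent.Lib.Helper14.HNx.Q0U12.chk62 v (by omega) (by omega)
  rcases Nat.lt_or_ge v 76919 with h63 | h63
  · exact (data.checkRange_iff 75701 1218).mp Cfsg.Agent.Lib.Helper14.HNx.Q0U12.chk63 v (by omega) (by omega)
  rcases Nat.lt_or_ge v 78150 with h64 | h64
  · exact (data.checkRange_iff 76919 1231).mp Cfsg.Agent.Lib.Helper14.HNx.Q0U12.chk64 v (by omega) (by omega)
  rcases Nat.lt_or_ge v 79373 with h65 | h65
  · exact (data.checkRange_iff 78150 1223).mp Cfsg.Agent.Lib.Helper14.HNx.Q0U13.chk65 v (by omega) (by omega)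
  rcases Nat.lt_or_ge v 80597 with h66 | h66
  · exact (data.checkRange_iff 79373 1224).mp Cfsg.Agent.Lib.Helper14.HNx.Q0U13.chk66 v (by omega) (by omega)
  rcases Nat.lt_or_ge v 81822 with h67 | h67
  · exact (data.checkRange_iff 80597 1225).mp Cfsg.Agent.Lib.Helper14.HNx.Q0U13.chk67 v (by omega) (by omega)
  rcases Nat.lt_or_ge v 83043 with h68 | h68
  · exact (data.checkRange_iff 81822 1221).mp Cfsg.Agent.Lib.Helper14.HNx.Q0U13.chk68 v (by omega) (by omega)
  rcases Nat.lt_or_ge v 84279 with h69 | h69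
  · exact (data.checkRange_iff 83043 1236).mp Cfsg.Agent.Lib.Helper14.HNx.Q0U13.chk69 v (by omega) (by omega)
  rcases Nat.lt_or_ge v 85512 with h70 | h70
  · exact (data.checkRange_iff 84279 1233).mp Cfsg.Agent.Lib.Helper14.HNx.Q0U14.chk70 v (by omega) (by omega)
  rcases Nat.lt_or_ge v 86749 with h71 | h71
  · exact (data.checkRange_iff 85512 1237).mp Cfsg.Agent.Lib.Helper14.HNx.Q0U14.chk71 v (by omega) (by omega)
  rcases Nat.lt_or_ge v 88007 with h72 | h72
  · exact (data.checkRange_iff 86749 1258).mp Cfsg.Agent.Lib.Helper14.HNx.Q0U14.chk72 v (by omega) (by omega)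
  rcases Nat.lt_or_ge v 89234 with h73 | h73
  · exact (data.checkRange_iff 88007 1227).mp Cfsg.Agent.Lib.Helper14.HNx.Q0U14.chk73 v (by omega) (by omega)
  rcases Nat.lt_or_ge v 90483 with h74 | h74
  · exact (data.checkRange_iff 89234 1249).mp Cfsg.Agent.Lib.Helper14.HNx.Q0U14.chk74 v (by omega) (by omega)
  rcases Nat.lt_or_ge v 91723 with h75 | h75
  · exact (data.checkRange_iff 90483 1240).mp Cfsg.Agent.Lib.Helper14.HNx.Q0U15.chk75 v (by omega) (by omega)
  rcases Nat.lt_or_ge v 92964 with h76 | h76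
  · exact (data.checkRange_iff 91723 1241).mp Cfsg.Agent.Lib.Helper14.HNx.Q0U15.chk76 v (by omega) (by omega)
  rcases Nat.lt_or_ge v 94202 with h77 | h77
  · exact (data.checkRange_iff 92964 1238).mp Cfsg.Agent.Lib.Helper14.HNx.Q0U15.chk77 v (by omega) (by omega)
  rcases Nat.lt_or_ge v 95435 with h78 | h78
  · exact (data.checkRange_iff 94202 1233).mp Cfsg.Agent.Lib.Helper14.HNx.Q0U15.chk78 v (by omega) (by omega)
  rcases Nat.lt_or_ge v 96685 with h79 | h79
  · exact (data.checkRange_iff 95435 1250).mp Cfsg.Agent.Lib.Helper14.HNx.Q0U15.chk79 v (by omega) (by omega)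
  rcases Nat.lt_or_ge v 97923 with h80 | h80
  · exact (data.checkRange_iff 96685 1238).mp Cfsg.Agent.Lib.Helper14.HNx.Q0U16.chk80 v (by omega) (by omega)
  rcases Nat.lt_or_ge v 99155 with h81 | h81
  · exact (data.checkRange_iff 97923 1232).mp Cfsg.Agent.Lib.Helper14.HNx.Q0U16.chk81 v (by omega) (by omega)
  rcases Nat.lt_or_ge v 100406 with h82 | h82
  · exact (data.checkRange_iff 99155 1251).mp Cfsg.Agent.Lib.Helper14.HNx.Q0U16.chk82 v (by omega) (by omega)
  rcases Nat.lt_or_ge v 101647 with h83 | h83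
  · exact (data.checkRange_iff 100406 1241).mp Cfsg.Agent.Lib.Helper14.HNx.Q0U16.chk83 v (by omega) (by omega)
  rcases Nat.lt_or_ge v 102889 with h84 | h84
  · exact (data.checkRange_iff 101647 1242).mp Cfsg.Agent.Lib.Helper14.HNx.Q0U16.chk84 v (by omega) (by omega)
  rcases Nat.lt_or_ge v 104146 with h85 | h85
  · exact (data.checkRange_iff 102889 1257).mp Cfsg.Agent.Lib.Helper14.HNx.Q0U17.chk85 v (by omega) (by omega)
  rcases Nat.lt_or_ge v 105391 with h86 | h86
  · exact (data.checkRange_iff 104146 1245).mp Cfsg.Agent.Lib.Helper14.HNx.Q0U17.chk86 v (by omega) (by omega)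
  rcases Nat.lt_or_ge v 106639 with h87 | h87
  · exact (data.checkRange_iff 105391 1248).mp Cfsg.Agent.Lib.Helper14.HNx.Q0U17.chk87 v (by omega) (by omega)
  rcases Nat.lt_or_ge v 107874 with h88 | h88
  · exact (data.checkRange_iff 106639 1235).mp Cfsg.Agent.Lib.Helper14.HNx.Q0U17.chk88 v (by omega) (by omega)
  rcases Nat.lt_or_ge v 109118 with h89 | h89
  · exact (data.checkRange_iff 107874 1244).mp Cfsg.Agent.Lib.Helper14.HNx.Q0U17.chk89 v (by omega) (by omega)
  rcases Nat.lt_or_ge v 110393 with h90 | h90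
  · exact (data.checkRange_iff 109118 1275).mp Cfsg.Agent.Lib.Helper14.HNx.Q0U18.chk90 v (by omega) (by omega)
  rcases Nat.lt_or_ge v 111626 with h91 | h91
  · exact (data.checkRange_iff 110393 1233).mp Cfsg.Agent.Lib.Helper14.HNx.Q0U18.chk91 v (by omega) (by omega)
  rcases Nat.lt_or_ge v 112925 with h92 | h92
  · exact (data.checkRange_iff 111626 1299).mp Cfsg.Agent.Lib.Helper14.HNx.Q0U18.chk92 v (by omega) (by omega)
  rcases Nat.lt_or_ge v 114172 with h93 | h93
  · exact (data.checkRange_iff 112925 1247).mp Cfsg.Agent.Lib.Helper14.HNx.Q0U18.chk93 v (by omega) (by omega)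
  rcases Nat.lt_or_ge v 115437 with h94 | h94
  · exact (data.checkRange_iff 114172 1265).mp Cfsg.Agent.Lib.Helper14.HNx.Q0U18.chk94 v (by omega) (by omega)
  rcases Nat.lt_or_ge v 116685 with h95 | h95
  · exact (data.checkRange_iff 115437 1248).mp Cfsg.Agent.Lib.Helper14.HNx.Q0U19.chk95 v (by omega) (by omega)
  rcases Nat.lt_or_ge v 117938 with h96 | h96
  · exact (data.checkRange_iff 116685 1253).mp Cfsg.Agent.Lib.Helper14.HNx.Q0U19.chk96 v (by omega) (by omega)
  rcases Nat.lt_or_ge v 119219 with h97 | h97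
  · exact (data.checkRange_iff 117938 1281).mp Cfsg.Agent.Lib.Helper14.HNx.Q0U19.chk97 v (by omega) (by omega)
  rcases Nat.lt_or_ge v 120496 with h98 | h98
  · exact (data.checkRange_iff 119219 1277).mp Cfsg.Agent.Lib.Helper14.HNx.Q0U19.chk98 v (by omega) (by omega)
  rcases Nat.lt_or_ge v 121761 with h99 | h99
  · exact (data.checkRange_iff 120496 1265).mp Cfsg.Agent.Lib.Helper14.HNx.Q0U19.chk99 v (by omega) (by omega)
  rcases Nat.lt_or_ge v 123024 with h100 | h100
  · exact (data.checkRange_iff 121761 1263).mp Cfsg.Agent.Lib.Helper14.HNx.Q0U20.chk100 v (by omega) (by omega)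
  rcases Nat.lt_or_ge v 124284 with h101 | h101
  · exact (data.checkRange_iff 123024 1260).mp Cfsg.Agent.Lib.Helper14.HNx.Q0U20.chk101 v (by omega) (by omega)
  rcases Nat.lt_or_ge v 125516 with h102 | h102
  · exact (data.checkRange_iff 124284 1232).mp Cfsg.Agent.Lib.Helper14.HNx.Q0U20.chk102 v (by omega) (by omega)
  rcases Nat.lt_or_ge v 126781 with h103 | h103
  · exact (data.checkRange_iff 125516 1265).mp Cfsg.Agent.Lib.Helper14.HNx.Q0U20.chk103 v (by omega) (by omega)
  rcases Nat.lt_or_ge v 128053 with h104 | h104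
  · exact (data.checkRange_iff 126781 1272).mp Cfsg.Agent.Lib.Helper14.HNx.Q0U20.chk104 v (by omega) (by omega)
  rcases Nat.lt_or_ge v 129330 with h105 | h105
  · exact (data.checkRange_iff 128053 1277).mp Cfsg.Agent.Lib.Helper14.HNx.Q0U21.chk105 v (by omega) (by omega)
  rcases Nat.lt_or_ge v 130603 with h106 | h106
  · exact (data.checkRange_iff 129330 1273).mp Cfsg.Agent.Lib.Helper14.HNx.Q0U21.chk106 v (by omega) (by omega)
  rcases Nat.lt_or_ge v 131855 with h107 | h107
  · exact (data.checkRange_iff 130603 1252).mp Cfsg.Agent.Lib.Helper14.HNx.Q0U21.chk107 v (by omega) (by omega)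
  rcases Nat.lt_or_ge v 133129 with h108 | h108
  · exact (data.checkRange_iff 131855 1274).mp Cfsg.Agent.Lib.Helper14.HNx.Q0U21.chk108 v (by omega) (by omega)
  rcases Nat.lt_or_ge v 134428 with h109 | h109
  · exact (data.checkRange_iff 133129 1299).mp Cfsg.Agent.Lib.Helper14.HNx.Q0U21.chk109 v (by omega) (by omega)
  rcases Nat.lt_or_ge v 135694 with h110 | h110
  · exact (data.checkRange_iff 134428 1266).mp Cfsg.Agent.Lib.Helper14.HNx.Q0U22.chk110 v (by omega) (by omega)
  rcases Nat.lt_or_ge v 136964 with h111 | h111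
  · exact (data.checkRange_iff 135694 1270).mp Cfsg.Agent.Lib.Helper14.HNx.Q0U22.chk111 v (by omega) (by omega)
  rcases Nat.lt_or_ge v 138239 with h112 | h112
  · exact (data.checkRange_iff 136964 1275).mp Cfsg.Agent.Lib.Helper14.HNx.Q0U22.chk112 v (by omega) (by omega)
  rcases Nat.lt_or_ge v 139512 with h113 | h113
  · exact (data.checkRange_iff 138239 1273).mp Cfsg.Agent.Lib.Helper14.HNx.Q0U22.chk113 v (by omega) (by omega)
  rcases Nat.lt_or_ge v 140785 with h114 | h114
  · exact (data.checkRange_iff 139512 1273).mp Cfsg.Agent.Lib.Helper14.HNx.Q0U22.chk114 v (by omega) (by omega)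
  rcases Nat.lt_or_ge v 142077 with h115 | h115
  · exact (data.checkRange_iff 140785 1292).mp Cfsg.Agent.Lib.Helper14.HNx.Q0U23.chk115 v (by omega) (by omega)
  rcases Nat.lt_or_ge v 143367 with h116 | h116
  · exact (data.checkRange_iff 142077 1290).mp Cfsg.Agent.Lib.Helper14.HNx.Q0U23.chk116 v (by omega) (by omega)
  rcases Nat.lt_or_ge v 144691 with h117 | h117
  · exact (data.checkRange_iff 143367 1324).mp Cfsg.Agent.Lib.Helper14.HNx.Q0U23.chk117 v (by omega) (by omega)
  rcases Nat.lt_or_ge v 145973 with h118 | h118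
  · exact (data.checkRange_iff 144691 1282).mp Cfsg.Agent.Lib.Helper14.HNx.Q0U23.chk118 v (by omega) (by omega)
  rcases Nat.lt_or_ge v 147285 with h119 | h119
  · exact (data.checkRange_iff 145973 1312).mp Cfsg.Agent.Lib.Helper14.HNx.Q0U23.chk119 v (by omega) (by omega)
  rcases Nat.lt_or_ge v 148596 with h120 | h120
  · exact (data.checkRange_iff 147285 1311).mp Cfsg.Agent.Lib.Helper14.HNx.Q0U24.chk120 v (by omega) (by omega)
  rcases Nat.lt_or_ge v 149886 with h121 | h121
  · exact (data.checkRange_iff 148596 1290).mp Cfsg.Agent.Lib.Helper14.HNx.Q0U24.chk121 v (by omega) (by omega)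
  rcases Nat.lt_or_ge v 151178 with h122 | h122
  · exact (data.checkRange_iff 149886 1292).mp Cfsg.Agent.Lib.Helper14.HNx.Q0U24.chk122 v (by omega) (by omega)
  rcases Nat.lt_or_ge v 152493 with h123 | h123
  · exact (data.checkRange_iff 151178 1315).mp Cfsg.Agent.Lib.Helper14.HNx.Q0U24.chk123 v (by omega) (by omega)
  rcases Nat.lt_or_ge v 153772 with h124 | h124
  · exact (data.checkRange_iff 152493 1279).mp Cfsg.Agent.Lib.Helper14.HNx.Q0U24.chk124 v (by omega) (by omega)
  rcases Nat.lt_or_ge v 155066 with h125 | h125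
  · exact (data.checkRange_iff 153772 1294).mp Cfsg.Agent.Lib.Helper14.HNx.Q0U25.chk125 v (by omega) (by omega)
  rcases Nat.lt_or_ge v 156379 with h126 | h126
  · exact (data.checkRange_iff 155066 1313).mp Cfsg.Agent.Lib.Helper14.HNx.Q0U25.chk126 v (by omega) (by omega)
  rcases Nat.lt_or_ge v 157687 with h127 | h127
  · exact (data.checkRange_iff 156379 1308).mp Cfsg.Agent.Lib.Helper14.HNx.Q0U25.chk127 v (by omega) (by omega)
  rcases Nat.lt_or_ge v 158999 with h128 | h128
  · exact (data.checkRange_iff 157687 1312).mp Cfsg.Agent.Lib.Helper14.HNx.Q0U25.chk128 v (by omega) (by omega)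
  rcases Nat.lt_or_ge v 160302 with h129 | h129
  · exact (data.checkRange_iff 158999 1303).mp Cfsg.Agent.Lib.Helper14.HNx.Q0U25.chk129 v (by omega) (by omega)
  rcases Nat.lt_or_ge v 161663 with h130 | h130
  · exact (data.checkRange_iff 160302 1361).mp Cfsg.Agent.Lib.Helper14.HNx.Q0U26.chk130 v (by omega) (by omega)
  rcases Nat.lt_or_ge v 162947 with h131 | h131
  · exact (data.checkRange_iff 161663 1284).mp Cfsg.Agent.Lib.Helper14.HNx.Q0U26.chk131 v (by omega) (by omega)
  rcases Nat.lt_or_ge v 164228 with h132 | h132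
  · exact (data.checkRange_iff 162947 1281).mp Cfsg.Agent.Lib.Helper14.HNx.Q0U26.chk132 v (by omega) (by omega)
  rcases Nat.lt_or_ge v 165520 with h133 | h133
  · exact (data.checkRange_iff 164228 1292).mp Cfsg.Agent.Lib.Helper14.HNx.Q0U26.chk133 v (by omega) (by omega)
  rcases Nat.lt_or_ge v 166813 with h134 | h134
  · exact (data.checkRange_iff 165520 1293).mp Cfsg.Agent.Lib.Helper14.HNx.Q0U26.chk134 v (by omega) (by omega)
  rcases Nat.lt_or_ge v 168121 with h135 | h135
  · exact (data.checkRange_iff 166813 1308).mp Cfsg.Agent.Lib.Helper14.HNx.Q0U27.chk135 v (by omega) (by omega)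
  rcases Nat.lt_or_ge v 169430 with h136 | h136
  · exact (data.checkRange_iff 168121 1309).mp Cfsg.Agent.Lib.Helper14.HNx.Q0U27.chk136 v (by omega) (by omega)
  rcases Nat.lt_or_ge v 170754 with h137 | h137
  · exact (data.checkRange_iff 169430 1324).mp Cfsg.Agent.Lib.Helper14.HNx.Q0U27.chk137 v (by omega) (by omega)
  rcases Nat.lt_or_ge v 172043 with h138 | h138
  · exact (data.checkRange_iff 170754 1289).mp Cfsg.Agent.Lib.Helper14.HNx.Q0U27.chk138 v (by omega) (by omega)
  rcases Nat.lt_or_ge v 173335 with h139 | h139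
  · exact (data.checkRange_iff 172043 1292).mp Cfsg.Agent.Lib.Helper14.HNx.Q0U27.chk139 v (by omega) (by omega)
  rcases Nat.lt_or_ge v 174655 with h140 | h140
  · exact (data.checkRange_iff 173335 1320).mp Cfsg.Agent.Lib.Helper14.HNx.Q0U28.chk140 v (by omega) (by omega)
  rcases Nat.lt_or_ge v 175969 with h141 | h141
  · exact (data.checkRange_iff 174655 1314).mp Cfsg.Agent.Lib.Helper14.HNx.Q0U28.chk141 v (by omega) (by omega)
  rcases Nat.lt_or_ge v 177304 with h142 | h142
  · exact (data.checkRange_iff 175969 1335).mp Cfsg.Agent.Lib.Helper14.HNx.Q0U28.chk142 v (by omega) (by omega)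
  rcases Nat.lt_or_ge v 178614 with h143 | h143
  · exact (data.checkRange_iff 177304 1310).mp Cfsg.Agent.Lib.Helper14.HNx.Q0U28.chk143 v (by omega) (by omega)
  rcases Nat.lt_or_ge v 179908 with h144 | h144
  · exact (data.checkRange_iff 178614 1294).mp Cfsg.Agent.Lib.Helper14.HNx.Q0U28.chk144 v (by omega) (by omega)
  rcases Nat.lt_or_ge v 181248 with h145 | h145
  · exact (data.checkRange_iff 179908 1340).mp Cfsg.Agent.Lib.Helper14.HNx.Q0U29.chk145 v (by omega) (by omega)
  rcases Nat.lt_or_ge v 182569 with h146 | h146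
  · exact (data.checkRange_iff 181248 1321).mp Cfsg.Agent.Lib.Helper14.HNx.Q0U29.chk146 v (by omega) (by omega)
  rcases Nat.lt_or_ge v 183884 with h147 | h147
  · exact (data.checkRange_iff 182569 1315).mp Cfsg.Agent.Lib.Helper14.HNx.Q0U29.chk147 v (by omega) (by omega)
  rcases Nat.lt_or_ge v 185215 with h148 | h148
  · exact (data.checkRange_iff 183884 1331).mp Cfsg.Agent.Lib.Helper14.HNx.Q0U29.chk148 v (by omega) (by omega)
  rcases Nat.lt_or_ge v 186541 with h149 | h149
  · exact (data.checkRange_iff 185215 1326).mp Cfsg.Agent.Lib.Helper14.HNx.Q0U29.chk149 v (by omega) (by omega)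
  rcases Nat.lt_or_ge v 187850 with h150 | h150
  · exact (data.checkRange_iff 186541 1309).mp Cfsg.Agent.Lib.Helper14.HNx.Q0U30.chk150 v (by omega) (by omega)
  rcases Nat.lt_or_ge v 189184 with h151 | h151
  · exact (data.checkRange_iff 187850 1334).mp Cfsg.Agent.Lib.Helper14.HNx.Q0U30.chk151 v (by omega) (by omega)
  rcases Nat.lt_or_ge v 190540 with h152 | h152
  · exact (data.checkRange_iff 189184 1356).mp Cfsg.Agent.Lib.Helper14.HNx.Q0U30.chk152 v (by omega) (by omega)
  rcases Nat.lt_or_ge v 191903 with h153 | h153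
  · exact (data.checkRange_iff 190540 1363).mp Cfsg.Agent.Lib.Helper14.HNx.Q0U30.chk153 v (by omega) (by omega)
  rcases Nat.lt_or_ge v 193227 with h154 | h154
  · exact (data.checkRange_iff 191903 1324).mp Cfsg.Agent.Lib.Helper14.HNx.Q0U30.chk154 v (by omega) (by omega)
  rcases Nat.lt_or_ge v 194580 with h155 | h155
  · exact (data.checkRange_iff 193227 1353).mp Cfsg.Agent.Lib.Helper14.HNx.Q0U31.chk155 v (by omega) (by omega)
  rcases Nat.lt_or_ge v 195917 with h156 | h156
  · exact (data.checkRange_iff 194580 1337).mp Cfsg.Agent.Lib.Helper14.HNx.Q0U31.chk156 v (by omega) (by omega)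
  rcases Nat.lt_or_ge v 197233 with h157 | h157
  · exact (data.checkRange_iff 195917 1316).mp Cfsg.Agent.Lib.Helper14.HNx.Q0U31.chk157 v (by omega) (by omega)
  rcases Nat.lt_or_ge v 198534 with h158 | h158
  · exact (data.checkRange_iff 197233 1301).mp Cfsg.Agent.Lib.Helper14.HNx.Q0U31.chk158 v (by omega) (by omega)
  rcases Nat.lt_or_ge v 199831 with h159 | h159
  · exact (data.checkRange_iff 198534 1297).mp Cfsg.Agent.Lib.Helper14.HNx.Q0U31.chk159 v (by omega) (by omega)
  rcases Nat.lt_or_ge v 201148 with h160 | h160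
  · exact (data.checkRange_iff 199831 1317).mp Cfsg.Agent.Lib.Helper14.HNx.Q0U32.chk160 v (by omega) (by omega)
  rcases Nat.lt_or_ge v 202488 with h161 | h161
  · exact (data.checkRange_iff 201148 1340).mp Cfsg.Agent.Lib.Helper14.HNx.Q0U32.chk161 v (by omega) (by omega)
  rcases Nat.lt_or_ge v 203839 with h162 | h162
  · exact (data.checkRange_iff 202488 1351).mp Cfsg.Agent.Lib.Helper14.HNx.Q0U32.chk162 v (by omega) (by omega)
  rcases Nat.lt_or_ge v 205141 with h163 | h163
  · exact (data.checkRange_iff 203839 1302).mp Cfsg.Agent.Lib.Helper14.HNx.Q0U32.chk163 v (by omega) (by omega)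
  rcases Nat.lt_or_ge v 206487 with h164 | h164
  · exact (data.checkRange_iff 205141 1346).mp Cfsg.Agent.Lib.Helper14.HNx.Q0U32.chk164 v (by omega) (by omega)
  rcases Nat.lt_or_ge v 207840 with h165 | h165
  · exact (data.checkRange_iff 206487 1353).mp Cfsg.Agent.Lib.Helper14.HNx.Q0U33.chk165 v (by omega) (by omega)
  rcases Nat.lt_or_ge v 209146 with h166 | h166
  · exact (data.checkRange_iff 207840 1306).mp Cfsg.Agent.Lib.Helper14.HNx.Q0U33.chk166 v (by omega) (by omega)
  rcases Nat.lt_or_ge v 210498 with h167 | h167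
  · exact (data.checkRange_iff 209146 1352).mp Cfsg.Agent.Lib.Helper14.HNx.Q0U33.chk167 v (by omega) (by omega)
  rcases Nat.lt_or_ge v 211911 with h168 | h168
  · exact (data.checkRange_iff 210498 1413).mp Cfsg.Agent.Lib.Helper14.HNx.Q0U33.chk168 v (by omega) (by omega)
  rcases Nat.lt_or_ge v 213231 with h169 | h169
  · exact (data.checkRange_iff 211911 1320).mp Cfsg.Agent.Lib.Helper14.HNx.Q0U33.chk169 v (by omega) (by omega)
  rcases Nat.lt_or_ge v 214552 with h170 | h170
  · exact (data.checkRange_iff 213231 1321).mp Cfsg.Agent.Lib.Helper14.HNx.Q0U34.chk170 v (by omega) (by omega)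
  rcases Nat.lt_or_ge v 215899 with h171 | h171
  · exact (data.checkRange_iff 214552 1347).mp Cfsg.Agent.Lib.Helper14.HNx.Q0U34.chk171 v (by omega) (by omega)
  rcases Nat.lt_or_ge v 217256 with h172 | h172
  · exact (data.checkRange_iff 215899 1357).mp Cfsg.Agent.Lib.Helper14.HNx.Q0U34.chk172 v (by omega) (by omega)
  rcases Nat.lt_or_ge v 218644 with h173 | h173
  · exact (data.checkRange_iff 217256 1388).mp Cfsg.Agent.Lib.Helper14.HNx.Q0U34.chk173 v (by omega) (by omega)
  rcases Nat.lt_or_ge v 219983 with h174 | h174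
  · exact (data.checkRange_iff 218644 1339).mp Cfsg.Agent.Lib.Helper14.HNx.Q0U34.chk174 v (by omega) (by omega)
  rcases Nat.lt_or_ge v 221361 with h175 | h175
  · exact (data.checkRange_iff 219983 1378).mp Cfsg.Agent.Lib.Helper14.HNx.Q0U35.chk175 v (by omega) (by omega)
  rcases Nat.lt_or_ge v 222711 with h176 | h176
  · exact (data.checkRange_iff 221361 1350).mp Cfsg.Agent.Lib.Helper14.HNx.Q0U35.chk176 v (by omega) (by omega)
  rcases Nat.lt_or_ge v 224097 with h177 | h177
  · exact (data.checkRange_iff 222711 1386).mp Cfsg.Agent.Lib.Helper14.HNx.Q0U35.chk177 v (by omega) (by omega)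
  rcases Nat.lt_or_ge v 225447 with h178 | h178
  · exact (data.checkRange_iff 224097 1350).mp Cfsg.Agent.Lib.Helper14.HNx.Q0U35.chk178 v (by omega) (by omega)
  rcases Nat.lt_or_ge v 226819 with h179 | h179
  · exact (data.checkRange_iff 225447 1372).mp Cfsg.Agent.Lib.Helper14.HNx.Q0U35.chk179 v (by omega) (by omega)
  rcases Nat.lt_or_ge v 228180 with h180 | h180
  · exact (data.checkRange_iff 226819 1361).mp Cfsg.Agent.Lib.Helper14.HNx.Q0U36.chk180 v (by omega) (by omega)
  rcases Nat.lt_or_ge v 229560 with h181 | h181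
  · exact (data.checkRange_iff 228180 1380).mp Cfsg.Agent.Lib.Helper14.HNx.Q0U36.chk181 v (by omega) (by omega)
  rcases Nat.lt_or_ge v 230919 with h182 | h182
  · exact (data.checkRange_iff 229560 1359).mp Cfsg.Agent.Lib.Helper14.HNx.Q0U36.chk182 v (by omega) (by omega)
  rcases Nat.lt_or_ge v 232314 with h183 | h183
  · exact (data.checkRange_iff 230919 1395).mp Cfsg.Agent.Lib.Helper14.HNx.Q0U36.chk183 v (by omega) (by omega)
  rcases Nat.lt_or_ge v 233669 with h184 | h184
  · exact (data.checkRange_iff 232314 1355).mp Cfsg.Agent.Lib.Helper14.HNx.Q0U36.chk184 v (by omega) (by omega)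
  rcases Nat.lt_or_ge v 235057 with h185 | h185
  · exact (data.checkRange_iff 233669 1388).mp Cfsg.Agent.Lib.Helper14.HNx.Q0U37.chk185 v (by omega) (by omega)
  rcases Nat.lt_or_ge v 236436 with h186 | h186
  · exact (data.checkRange_iff 235057 1379).mp Cfsg.Agent.Lib.Helper14.HNx.Q0U37.chk186 v (by omega) (by omega)
  rcases Nat.lt_or_ge v 237838 with h187 | h187
  · exact (data.checkRange_iff 236436 1402).mp Cfsg.Agent.Lib.Helper14.HNx.Q0U37.chk187 v (by omega) (by omega)
  rcases Nat.lt_or_ge v 239186 with h188 | h188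
  · exact (data.checkRange_iff 237838 1348).mp Cfsg.Agent.Lib.Helper14.HNx.Q0U37.chk188 v (by omega) (by omega)
  rcases Nat.lt_or_ge v 240569 with h189 | h189
  · exact (data.checkRange_iff 239186 1383).mp Cfsg.Agent.Lib.Helper14.HNx.Q0U37.chk189 v (by omega) (by omega)
  rcases Nat.lt_or_ge v 241933 with h190 | h190
  · exact (data.checkRange_iff 240569 1364).mp Cfsg.Agent.Lib.Helper14.HNx.Q0U38.chk190 v (by omega) (by omega)
  rcases Nat.lt_or_ge v 243352 with h191 | h191
  · exact (data.checkRange_iff 241933 1419).mp Cfsg.Agent.Lib.Helper14.HNx.Q0U38.chk191 v (by omega) (by omega)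
  rcases Nat.lt_or_ge v 244731 with h192 | h192
  · exact (data.checkRange_iff 243352 1379).mp Cfsg.Agent.Lib.Helper14.HNx.Q0U38.chk192 v (by omega) (by omega)
  rcases Nat.lt_or_ge v 246150 with h193 | h193
  · exact (data.checkRange_iff 244731 1419).mp Cfsg.Agent.Lib.Helper14.HNx.Q0U38.chk193 v (by omega) (by omega)
  rcases Nat.lt_or_ge v 247553 with h194 | h194
  · exact (data.checkRange_iff 246150 1403).mp Cfsg.Agent.Lib.Helper14.HNx.Q0U38.chk194 v (by omega) (by omega)
  rcases Nat.lt_or_ge v 248964 with h195 | h195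
  · exact (data.checkRange_iff 247553 1411).mp Cfsg.Agent.Lib.Helper14.HNx.Q0U39.chk195 v (by omega) (by omega)
  rcases Nat.lt_or_ge v 250359 with h196 | h196
  · exact (data.checkRange_iff 248964 1395).mp Cfsg.Agent.Lib.Helper14.HNx.Q0U39.chk196 v (by omega) (by omega)
  rcases Nat.lt_or_ge v 251715 with h197 | h197
  · exact (data.checkRange_iff 250359 1356).mp Cfsg.Agent.Lib.Helper14.HNx.Q0U39.chk197 v (by omega) (by omega)
  rcases Nat.lt_or_ge v 253074 with h198 | h198
  · exact (data.checkRange_iff 251715 1359).mp Cfsg.Agent.Lib.Helper14.HNx.Q0U39.chk198 v (by omega) (by omega)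
  rcases Nat.lt_or_ge v 254465 with h199 | h199
  · exact (data.checkRange_iff 253074 1391).mp Cfsg.Agent.Lib.Helper14.HNx.Q0U39.chk199 v (by omega) (by omega)
  rcases Nat.lt_or_ge v 255829 with h200 | h200
  · exact (data.checkRange_iff 254465 1364).mp Cfsg.Agent.Lib.Helper14.HNx.Q0U40.chk200 v (by omega) (by omega)
  rcases Nat.lt_or_ge v 257204 with h201 | h201
  · exact (data.checkRange_iff 255829 1375).mp Cfsg.Agent.Lib.Helper14.HNx.Q0U40.chk201 v (by omega) (by omega)
  rcases Nat.lt_or_ge v 258604 with h202 | h202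
  · exact (data.checkRange_iff 257204 1400).mp Cfsg.Agent.Lib.Helper14.HNx.Q0U40.chk202 v (by omega) (by omega)
  rcases Nat.lt_or_ge v 259967 with h203 | h203
  · exact (data.checkRange_iff 258604 1363).mp Cfsg.Agent.Lib.Helper14.HNx.Q0U40.chk203 v (by omega) (by omega)
  rcases Nat.lt_or_ge v 261414 with h204 | h204
  · exact (data.checkRange_iff 259967 1447).mp Cfsg.Agent.Lib.Helper14.HNx.Q0U40.chk204 v (by omega) (by omega)
  rcases Nat.lt_or_ge v 262834 with h205 | h205
  · exact (data.checkRange_iff 261414 1420).mp Cfsg.Agent.Lib.Helper14.HNx.Q0U41.chk205 v (by omega) (by omega)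
  rcases Nat.lt_or_ge v 264218 with h206 | h206
  · exact (data.checkRange_iff 262834 1384).mp Cfsg.Agent.Lib.Helper14.HNx.Q0U41.chk206 v (by omega) (by omega)
  rcases Nat.lt_or_ge v 265573 with h207 | h207
  · exact (data.checkRange_iff 264218 1355).mp Cfsg.Agent.Lib.Helper14.HNx.Q0U41.chk207 v (by omega) (by omega)
  rcases Nat.lt_or_ge v 266995 with h208 | h208
  · exact (data.checkRange_iff 265573 1422).mp Cfsg.Agent.Lib.Helper14.HNx.Q0U41.chk208 v (by omega) (by omega)
  rcases Nat.lt_or_ge v 268425 with h209 | h209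
  · exact (data.checkRange_iff 266995 1430).mp Cfsg.Agent.Lib.Helper14.HNx.Q0U41.chk209 v (by omega) (by omega)
  rcases Nat.lt_or_ge v 269829 with h210 | h210
  · exact (data.checkRange_iff 268425 1404).mp Cfsg.Agent.Lib.Helper14.HNx.Q0U42.chk210 v (by omega) (by omega)
  rcases Nat.lt_or_ge v 271280 with h211 | h211
  · exact (data.checkRange_iff 269829 1451).mp Cfsg.Agent.Lib.Helper14.HNx.Q0U42.chk211 v (by omega) (by omega)
  rcases Nat.lt_or_ge v 272673 with h212 | h212
  · exact (data.checkRange_iff 271280 1393).mp Cfsg.Agent.Lib.Helper14.HNx.Q0U42.chk212 v (by omega) (by omega)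
  rcases Nat.lt_or_ge v 274031 with h213 | h213
  · exact (data.checkRange_iff 272673 1358).mp Cfsg.Agent.Lib.Helper14.HNx.Q0U42.chk213 v (by omega) (by omega)
  rcases Nat.lt_or_ge v 275483 with h214 | h214
  · exact (data.checkRange_iff 274031 1452).mp Cfsg.Agent.Lib.Helper14.HNx.Q0U42.chk214 v (by omega) (by omega)
  rcases Nat.lt_or_ge v 276917 with h215 | h215
  · exact (data.checkRange_iff 275483 1434).mp Cfsg.Agent.Lib.Helper14.HNx.Q0U43.chk215 v (by omega) (by omega)
  rcases Nat.lt_or_ge v 278305 with h216 | h216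
  · exact (data.checkRange_iff 276917 1388).mp Cfsg.Agent.Lib.Helper14.HNx.Q0U43.chk216 v (by omega) (by omega)
  rcases Nat.lt_or_ge v 279716 with h217 | h217
  · exact (data.checkRange_iff 278305 1411).mp Cfsg.Agent.Lib.Helper14.HNx.Q0U43.chk217 v (by omega) (by omega)
  rcases Nat.lt_or_ge v 281122 with h218 | h218
  · exact (data.checkRange_iff 279716 1406).mp Cfsg.Agent.Lib.Helper14.HNx.Q0U43.chk218 v (by omega) (by omega)
  rcases Nat.lt_or_ge v 282542 with h219 | h219
  · exact (data.checkRange_iff 281122 1420).mp Cfsg.Agent.Lib.Helper14.HNx.Q0U43.chk219 v (by omega) (by omega)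
  rcases Nat.lt_or_ge v 283951 with h220 | h220
  · exact (data.checkRange_iff 282542 1409).mp Cfsg.Agent.Lib.Helper14.HNx.Q0U44.chk220 v (by omega) (by omega)
  rcases Nat.lt_or_ge v 285349 with h221 | h221
  · exact (data.checkRange_iff 283951 1398).mp Cfsg.Agent.Lib.Helper14.HNx.Q0U44.chk221 v (by omega) (by omega)
  rcases Nat.lt_or_ge v 286767 with h222 | h222
  · exact (data.checkRange_iff 285349 1418).mp Cfsg.Agent.Lib.Helper14.HNx.Q0U44.chk222 v (by omega) (by omega)
  rcases Nat.lt_or_ge v 288210 with h223 | h223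
  · exact (data.checkRange_iff 286767 1443).mp Cfsg.Agent.Lib.Helper14.HNx.Q0U44.chk223 v (by omega) (by omega)
  rcases Nat.lt_or_ge v 289619 with h224 | h224
  · exact (data.checkRange_iff 288210 1409).mp Cfsg.Agent.Lib.Helper14.HNx.Q0U44.chk224 v (by omega) (by omega)
  rcases Nat.lt_or_ge v 291005 with h225 | h225
  · exact (data.checkRange_iff 289619 1386).mp Cfsg.Agent.Lib.Helper14.HNx.Q0U45.chk225 v (by omega) (by omega)
  rcases Nat.lt_or_ge v 292468 with h226 | h226
  · exact (data.checkRange_iff 291005 1463).mp Cfsg.Agent.Lib.Helper14.HNx.Q0U45.chk226 v (by omega) (by omega)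
  rcases Nat.lt_or_ge v 293905 with h227 | h227
  · exact (data.checkRange_iff 292468 1437).mp Cfsg.Agent.Lib.Helper14.HNx.Q0U45.chk227 v (by omega) (by omega)
  rcases Nat.lt_or_ge v 295278 with h228 | h228
  · exact (data.checkRange_iff 293905 1373).mp Cfsg.Agent.Lib.Helper14.HNx.Q0U45.chk228 v (by omega) (by omega)
  rcases Nat.lt_or_ge v 296699 with h229 | h229
  · exact (data.checkRange_iff 295278 1421).mp Cfsg.Agent.Lib.Helper14.HNx.Q0U45.chk229 v (by omega) (by omega)
  rcases Nat.lt_or_ge v 298068 with h230 | h230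
  · exact (data.checkRange_iff 296699 1369).mp Cfsg.Agent.Lib.Helper14.HNx.Q0U46.chk230 v (by omega) (by omega)
  rcases Nat.lt_or_ge v 299456 with h231 | h231
  · exact (data.checkRange_iff 298068 1388).mp Cfsg.Agent.Lib.Helper14.HNx.Q0U46.chk231 v (by omega) (by omega)
  rcases Nat.lt_or_ge v 300866 with h232 | h232
  · exact (data.checkRange_iff 299456 1410).mp Cfsg.Agent.Lib.Helper14.HNx.Q0U46.chk232 v (by omega) (by omega)
  rcases Nat.lt_or_ge v 302296 with h233 | h233
  · exact (data.checkRange_iff 300866 1430).mp Cfsg.Agent.Lib.Helper14.HNx.Q0U46.chk233 v (by omega) (by omega)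
  rcases Nat.lt_or_ge v 303715 with h234 | h234
  · exact (data.checkRange_iff 302296 1419).mp Cfsg.Agent.Lib.Helper14.HNx.Q0U46.chk234 v (by omega) (by omega)
  rcases Nat.lt_or_ge v 305130 with h235 | h235
  · exact (data.checkRange_iff 303715 1415).mp Cfsg.Agent.Lib.Helper14.HNx.Q0U47.chk235 v (by omega) (by omega)
  rcases Nat.lt_or_ge v 306537 with h236 | h236
  · exact (data.checkRange_iff 305130 1407).mp Cfsg.Agent.Lib.Helper14.HNx.Q0U47.chk236 v (by omega) (by omega)
  rcases Nat.lt_or_ge v 307966 with h237 | h237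
  · exact (data.checkRange_iff 306537 1429).mp Cfsg.Agent.Lib.Helper14.HNx.Q0U47.chk237 v (by omega) (by omega)
  rcases Nat.lt_or_ge v 309448 with h238 | h238
  · exact (data.checkRange_iff 307966 1482).mp Cfsg.Agent.Lib.Helper14.HNx.Q0U47.chk238 v (by omega) (by omega)
  rcases Nat.lt_or_ge v 310874 with h239 | h239
  · exact (data.checkRange_iff 309448 1426).mp Cfsg.Agent.Lib.Helper14.HNx.Q0U47.chk239 v (by omega) (by omega)
  rcases Nat.lt_or_ge v 312264 with h240 | h240
  · exact (data.checkRange_iff 310874 1390).mp Cfsg.Agent.Lib.Helper14.HNx.Q0U48.chk240 v (by omega) (by omega)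
  rcases Nat.lt_or_ge v 313742 with h241 | h241
  · exact (data.checkRange_iff 312264 1478).mp Cfsg.Agent.Lib.Helper14.HNx.Q0U48.chk241 v (by omega) (by omega)
  rcases Nat.lt_or_ge v 315265 with h242 | h242
  · exact (data.checkRange_iff 313742 1523).mp Cfsg.Agent.Lib.Helper14.HNx.Q0U48.chk242 v (by omega) (by omega)
  rcases Nat.lt_or_ge v 316681 with h243 | h243
  · exact (data.checkRange_iff 315265 1416).mp Cfsg.Agent.Lib.Helper14.HNx.Q0U48.chk243 v (by omega) (by omega)
  rcases Nat.lt_or_ge v 318116 with h244 | h244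
  · exact (data.checkRange_iff 316681 1435).mp Cfsg.Agent.Lib.Helper14.HNx.Q0U48.chk244 v (by omega) (by omega)
  rcases Nat.lt_or_ge v 319530 with h245 | h245
  · exact (data.checkRange_iff 318116 1414).mp Cfsg.Agent.Lib.Helper14.HNx.Q0U49.chk245 v (by omega) (by omega)
  rcases Nat.lt_or_ge v 320989 with h246 | h246
  · exact (data.checkRange_iff 319530 1459).mp Cfsg.Agent.Lib.Helper14.HNx.Q0U49.chk246 v (by omega) (by omega)
  rcases Nat.lt_or_ge v 322452 with h247 | h247
  · exact (data.checkRange_iff 320989 1463).mp Cfsg.Agent.Lib.Helper14.HNx.Q0U49.chk247 v (by omega) (by omega)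
  rcases Nat.lt_or_ge v 323924 with h248 | h248
  · exact (data.checkRange_iff 322452 1472).mp Cfsg.Agent.Lib.Helper14.HNx.Q0U49.chk248 v (by omega) (by omega)
  rcases Nat.lt_or_ge v 325365 with h249 | h249
  · exact (data.checkRange_iff 323924 1441).mp Cfsg.Agent.Lib.Helper14.HNx.Q0U49.chk249 v (by omega) (by omega)
  rcases Nat.lt_or_ge v 326860 with h250 | h250
  · exact (data.checkRange_iff 325365 1495).mp Cfsg.Agent.Lib.Helper14.HNx.Q0U50.chk250 v (by omega) (by omega)
  rcases Nat.lt_or_ge v 328301 with h251 | h251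
  · exact (data.checkRange_iff 326860 1441).mp Cfsg.Agent.Lib.Helper14.HNx.Q0U50.chk251 v (by omega) (by omega)
  rcases Nat.lt_or_ge v 329782 with h252 | h252
  · exact (data.checkRange_iff 328301 1481).mp Cfsg.Agent.Lib.Helper14.HNx.Q0U50.chk252 v (by omega) (by omega)
  rcases Nat.lt_or_ge v 331251 with h253 | h253
  · exact (data.checkRange_iff 329782 1469).mp Cfsg.Agent.Lib.Helper14.HNx.Q0U50.chk253 v (by omega) (by omega)
  rcases Nat.lt_or_ge v 332760 with h254 | h254
  · exact (data.checkRange_iff 331251 1509).mp Cfsg.Agent.Lib.Helper14.HNx.Q0U50.chk254 v (by omega) (by omega)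
  rcases Nat.lt_or_ge v 334240 with h255 | h255
  · exact (data.checkRange_iff 332760 1480).mp Cfsg.Agent.Lib.Helper14.HNx.Q0U51.chk255 v (by omega) (by omega)
  rcases Nat.lt_or_ge v 335696 with h256 | h256
  · exact (data.checkRange_iff 334240 1456).mp Cfsg.Agent.Lib.Helper14.HNx.Q0U51.chk256 v (by omega) (by omega)
  rcases Nat.lt_or_ge v 337145 with h257 | h257
  · exact (data.checkRange_iff 335696 1449).mp Cfsg.Agent.Lib.Helper14.HNx.Q0U51.chk257 v (by omega) (by omega)
  rcases Nat.lt_or_ge v 338633 with h258 | h258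
  · exact (data.checkRange_iff 337145 1488).mp Cfsg.Agent.Lib.Helper14.HNx.Q0U51.chk258 v (by omega) (by omega)
  rcases Nat.lt_or_ge v 340152 with h259 | h259
  · exact (data.checkRange_iff 338633 1519).mp Cfsg.Agent.Lib.Helper14.HNx.Q0U51.chk259 v (by omega) (by omega)
  rcases Nat.lt_or_ge v 341610 with h260 | h260
  · exact (data.checkRange_iff 340152 1458).mp Cfsg.Agent.Lib.Helper14.HNx.Q0U52.chk260 v (by omega) (by omega)
  rcases Nat.lt_or_ge v 343139 with h261 | h261
  · exact (data.checkRange_iff 341610 1529).mp Cfsg.Agent.Lib.Helper14.HNx.Q0U52.chk261 v (by omega) (by omega)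
  rcases Nat.lt_or_ge v 344609 with h262 | h262
  · exact (data.checkRange_iff 343139 1470).mp Cfsg.Agent.Lib.Helper14.HNx.Q0U52.chk262 v (by omega) (by omega)
  rcases Nat.lt_or_ge v 346095 with h263 | h263
  · exact (data.checkRange_iff 344609 1486).mp Cfsg.Agent.Lib.Helper14.HNx.Q0U52.chk263 v (by omega) (by omega)
  rcases Nat.lt_or_ge v 347528 with h264 | h264
  · exact (data.checkRange_iff 346095 1433).mp Cfsg.Agent.Lib.Helper14.HNx.Q0U52.chk264 v (by omega) (by omega)
  rcases Nat.lt_or_ge v 349042 with h265 | h265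
  · exact (data.checkRange_iff 347528 1514).mp Cfsg.Agent.Lib.Helper14.HNx.Q0U53.chk265 v (by omega) (by omega)
  rcases Nat.lt_or_ge v 350516 with h266 | h266
  · exact (data.checkRange_iff 349042 1474).mp Cfsg.Agent.Lib.Helper14.HNx.Q0U53.chk266 v (by omega) (by omega)
  rcases Nat.lt_or_ge v 351991 with h267 | h267
  · exact (data.checkRange_iff 350516 1475).mp Cfsg.Agent.Lib.Helper14.HNx.Q0U53.chk267 v (by omega) (by omega)
  rcases Nat.lt_or_ge v 353495 with h268 | h268
  · exact (data.checkRange_iff 351991 1504).mp Cfsg.Agent.Lib.Helper14.HNx.Q0U53.chk268 v (by omega) (by omega)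
  rcases Nat.lt_or_ge v 354963 with h269 | h269
  · exact (data.checkRange_iff 353495 1468).mp Cfsg.Agent.Lib.Helper14.HNx.Q0U53.chk269 v (by omega) (by omega)
  rcases Nat.lt_or_ge v 356507 with h270 | h270
  · exact (data.checkRange_iff 354963 1544).mp Cfsg.Agent.Lib.Helper14.HNx.Q0U54.chk270 v (by omega) (by omega)
  rcases Nat.lt_or_ge v 358000 with h271 | h271
  · exact (data.checkRange_iff 356507 1493).mp Cfsg.Agent.Lib.Helper14.HNx.Q0U54.chk271 v (by omega) (by omega)
  rcases Nat.lt_or_ge v 359532 with h272 | h272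
  · exact (data.checkRange_iff 358000 1532).mp Cfsg.Agent.Lib.Helper14.HNx.Q0U54.chk272 v (by omega) (by omega)
  rcases Nat.lt_or_ge v 361008 with h273 | h273
  · exact (data.checkRange_iff 359532 1476).mp Cfsg.Agent.Lib.Helper14.HNx.Q0U54.chk273 v (by omega) (by omega)
  rcases Nat.lt_or_ge v 362486 with h274 | h274
  · exact (data.checkRange_iff 361008 1478).mp Cfsg.Agent.Lib.Helper14.HNx.Q0U54.chk274 v (by omega) (by omega)
  rcases Nat.lt_or_ge v 363968 with h275 | h275
  · exact (data.checkRange_iff 362486 1482).mp Cfsg.Agent.Lib.Helper14.HNx.Q0U55.chk275 v (by omega) (by omega)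
  rcases Nat.lt_or_ge v 365478 with h276 | h276
  · exact (data.checkRange_iff 363968 1510).mp Cfsg.Agent.Lib.Helper14.HNx.Q0U55.chk276 v (by omega) (by omega)
  rcases Nat.lt_or_ge v 366964 with h277 | h277
  · exact (data.checkRange_iff 365478 1486).mp Cfsg.Agent.Lib.Helper14.HNx.Q0U55.chk277 v (by omega) (by omega)
  rcases Nat.lt_or_ge v 368472 with h278 | h278
  · exact (data.checkRange_iff 366964 1508).mp Cfsg.Agent.Lib.Helper14.HNx.Q0U55.chk278 v (by omega) (by omega)
  rcases Nat.lt_or_ge v 369960 with h279 | h279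
  · exact (data.checkRange_iff 368472 1488).mp Cfsg.Agent.Lib.Helper14.HNx.Q0U55.chk279 v (by omega) (by omega)
  rcases Nat.lt_or_ge v 371435 with h280 | h280
  · exact (data.checkRange_iff 369960 1475).mp Cfsg.Agent.Lib.Helper14.HNx.Q0U56.chk280 v (by omega) (by omega)
  rcases Nat.lt_or_ge v 372954 with h281 | h281
  · exact (data.checkRange_iff 371435 1519).mp Cfsg.Agent.Lib.Helper14.HNx.Q0U56.chk281 v (by omega) (by omega)
  rcases Nat.lt_or_ge v 374505 with h282 | h282
  · exact (data.checkRange_iff 372954 1551).mp Cfsg.Agent.Lib.Helper14.HNx.Q0U56.chk282 v (by omega) (by omega)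
  rcases Nat.lt_or_ge v 376008 with h283 | h283
  · exact (data.checkRange_iff 374505 1503).mp Cfsg.Agent.Lib.Helper14.HNx.Q0U56.chk283 v (by omega) (by omega)
  rcases Nat.lt_or_ge v 377485 with h284 | h284
  · exact (data.checkRange_iff 376008 1477).mp Cfsg.Agent.Lib.Helper14.HNx.Q0U56.chk284 v (by omega) (by omega)
  rcases Nat.lt_or_ge v 378982 with h285 | h285
  · exact (data.checkRange_iff 377485 1497).mp Cfsg.Agent.Lib.Helper14.HNx.Q0U57.chk285 v (by omega) (by omega)
  rcases Nat.lt_or_ge v 380560 with h286 | h286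
  · exact (data.checkRange_iff 378982 1578).mp Cfsg.Agent.Lib.Helper14.HNx.Q0U57.chk286 v (by omega) (by omega)
  rcases Nat.lt_or_ge v 382075 with h287 | h287
  · exact (data.checkRange_iff 380560 1515).mp Cfsg.Agent.Lib.Helper14.HNx.Q0U57.chk287 v (by omega) (by omega)
  rcases Nat.lt_or_ge v 383607 with h288 | h288
  · exact (data.checkRange_iff 382075 1532).mp Cfsg.Agent.Lib.Helper14.HNx.Q0U57.chk288 v (by omega) (by omega)
  rcases Nat.lt_or_ge v 385111 with h289 | h289
  · exact (data.checkRange_iff 383607 1504).mp Cfsg.Agent.Lib.Helper14.HNx.Q0U57.chk289 v (by omega) (by omega)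
  rcases Nat.lt_or_ge v 386602 with h290 | h290
  · exact (data.checkRange_iff 385111 1491).mp Cfsg.Agent.Lib.Helper14.HNx.Q0U58.chk290 v (by omega) (by omega)
  rcases Nat.lt_or_ge v 388100 with h291 | h291
  · exact (data.checkRange_iff 386602 1498).mp Cfsg.Agent.Lib.Helper14.HNx.Q0U58.chk291 v (by omega) (by omega)
  rcases Nat.lt_or_ge v 389660 with h292 | h292
  · exact (data.checkRange_iff 388100 1560).mp Cfsg.Agent.Lib.Helper14.HNx.Q0U58.chk292 v (by omega) (by omega)
  rcases Nat.lt_or_ge v 391197 with h293 | h293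
  · exact (data.checkRange_iff 389660 1537).mp Cfsg.Agent.Lib.Helper14.HNx.Q0U58.chk293 v (by omega) (by omega)
  rcases Nat.lt_or_ge v 392670 with h294 | h294
  · exact (data.checkRange_iff 391197 1473).mp Cfsg.Agent.Lib.Helper14.HNx.Q0U58.chk294 v (by omega) (by omega)
  rcases Nat.lt_or_ge v 394186 with h295 | h295
  · exact (data.checkRange_iff 392670 1516).mp Cfsg.Agent.Lib.Helper14.HNx.Q0U59.chk295 v (by omega) (by omega)
  rcases Nat.lt_or_ge v 395717 with h296 | h296
  · exact (data.checkRange_iff 394186 1531).mp Cfsg.Agent.Lib.Helper14.HNx.Q0U59.chk296 v (by omega) (by omega)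
  rcases Nat.lt_or_ge v 397237 with h297 | h297
  · exact (data.checkRange_iff 395717 1520).mp Cfsg.Agent.Lib.Helper14.HNx.Q0U59.chk297 v (by omega) (by omega)
  rcases Nat.lt_or_ge v 398730 with h298 | h298
  · exact (data.checkRange_iff 397237 1493).mp Cfsg.Agent.Lib.Helper14.HNx.Q0U59.chk298 v (by omega) (by omega)
  rcases Nat.lt_or_ge v 400260 with h299 | h299
  · exact (data.checkRange_iff 398730 1530).mp Cfsg.Agent.Lib.Helper14.HNx.Q0U59.chk299 v (by omega) (by omega)
  rcases Nat.lt_or_ge v 401797 with h300 | h300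
  · exact (data.checkRange_iff 400260 1537).mp Cfsg.Agent.Lib.Helper14.HNx.Q0U60.chk300 v (by omega) (by omega)
  rcases Nat.lt_or_ge v 403327 with h301 | h301
  · exact (data.checkRange_iff 401797 1530).mp Cfsg.Agent.Lib.Helper14.HNx.Q0U60.chk301 v (by omega) (by omega)
  rcases Nat.lt_or_ge v 404889 with h302 | h302
  · exact (data.checkRange_iff 403327 1562).mp Cfsg.Agent.Lib.Helper14.HNx.Q0U60.chk302 v (by omega) (by omega)
  rcases Nat.lt_or_ge v 406385 with h303 | h303
  · exact (data.checkRange_iff 404889 1496).mp Cfsg.Agent.Lib.Helper14.HNx.Q0U60.chk303 v (by omega) (by omega)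
  rcases Nat.lt_or_ge v 407951 with h304 | h304
  · exact (data.checkRange_iff 406385 1566).mp Cfsg.Agent.Lib.Helper14.HNx.Q0U60.chk304 v (by omega) (by omega)
  rcases Nat.lt_or_ge v 409514 with h305 | h305
  · exact (data.checkRange_iff 407951 1563).mp Cfsg.Agent.Lib.Helper14.HNx.Q0U61.chk305 v (by omega) (by omega)
  rcases Nat.lt_or_ge v 410975 with h306 | h306
  · exact (data.checkRange_iff 409514 1461).mp Cfsg.Agent.Lib.Helper14.HNx.Q0U61.chk306 v (by omega) (by omega)
  rcases Nat.lt_or_ge v 412478 with h307 | h307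
  · exact (data.checkRange_iff 410975 1503).mp Cfsg.Agent.Lib.Helper14.HNx.Q0U61.chk307 v (by omega) (by omega)
  rcases Nat.lt_or_ge v 413960 with h308 | h308
  · exact (data.checkRange_iff 412478 1482).mp Cfsg.Agent.Lib.Helper14.HNx.Q0U61.chk308 v (by omega) (by omega)
  rcases Nat.lt_or_ge v 415410 with h309 | h309
  · exact (data.checkRange_iff 413960 1450).mp Cfsg.Agent.Lib.Helper14.HNx.Q0U61.chk309 v (by omega) (by omega)
  rcases Nat.lt_or_ge v 416905 with h310 | h310
  · exact (data.checkRange_iff 415410 1495).mp Cfsg.Agent.Lib.Helper14.HNx.Q0U62.chk310 v (by omega) (by omega)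
  rcases Nat.lt_or_ge v 418460 with h311 | h311
  · exact (data.checkRange_iff 416905 1555).mp Cfsg.Agent.Lib.Helper14.HNx.Q0U62.chk311 v (by omega) (by omega)
  rcases Nat.lt_or_ge v 419971 with h312 | h312
  · exact (data.checkRange_iff 418460 1511).mp Cfsg.Agent.Lib.Helper14.HNx.Q0U62.chk312 v (by omega) (by omega)
  rcases Nat.lt_or_ge v 421481 with h313 | h313
  · exact (data.checkRange_iff 419971 1510).mp Cfsg.Agent.Lib.Helper14.HNx.Q0U62.chk313 v (by omega) (by omega)
  rcases Nat.lt_or_ge v 422928 with h314 | h314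
  · exact (data.checkRange_iff 421481 1447).mp Cfsg.Agent.Lib.Helper14.HNx.Q0U62.chk314 v (by omega) (by omega)
  rcases Nat.lt_or_ge v 424449 with h315 | h315
  · exact (data.checkRange_iff 422928 1521).mp Cfsg.Agent.Lib.Helper14.HNx.Q0U63.chk315 v (by omega) (by omega)
  rcases Nat.lt_or_ge v 426026 with h316 | h316
  · exact (data.checkRange_iff 424449 1577).mp Cfsg.Agent.Lib.Helper14.HNx.Q0U63.chk316 v (by omega) (by omega)
  rcases Nat.lt_or_ge v 427553 with h317 | h317
  · exact (data.checkRange_iff 426026 1527).mp Cfsg.Agent.Lib.Helper14.HNx.Q0U63.chk317 v (by omega) (by omega)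
  rcases Nat.lt_or_ge v 429109 with h318 | h318
  · exact (data.checkRange_iff 427553 1556).mp Cfsg.Agent.Lib.Helper14.HNx.Q0U63.chk318 v (by omega) (by omega)
  rcases Nat.lt_or_ge v 430719 with h319 | h319
  · exact (data.checkRange_iff 429109 1610).mp Cfsg.Agent.Lib.Helper14.HNx.Q0U63.chk319 v (by omega) (by omega)
  rcases Nat.lt_or_ge v 432271 with h320 | h320
  · exact (data.checkRange_iff 430719 1552).mp Cfsg.Agent.Lib.Helper14.HNx.Q0U64.chk320 v (by omega) (by omega)
  rcases Nat.lt_or_ge v 433799 with h321 | h321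
  · exact (data.checkRange_iff 432271 1528).mp Cfsg.Agent.Lib.Helper14.HNx.Q0U64.chk321 v (by omega) (by omega)
  rcases Nat.lt_or_ge v 435383 with h322 | h322
  · exact (data.checkRange_iff 433799 1584).mp Cfsg.Agent.Lib.Helper14.HNx.Q0U64.chk322 v (by omega) (by omega)
  rcases Nat.lt_or_ge v 436954 with h323 | h323
  · exact (data.checkRange_iff 435383 1571).mp Cfsg.Agent.Lib.Helper14.HNx.Q0U64.chk323 v (by omega) (by omega)
  rcases Nat.lt_or_ge v 438552 with h324 | h324
  · exact (data.checkRange_iff 436954 1598).mp Cfsg.Agent.Lib.Helper14.HNx.Q0U64.chk324 v (by omega) (by omega)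
  rcases Nat.lt_or_ge v 440100 with h325 | h325
  · exact (data.checkRange_iff 438552 1548).mp Cfsg.Agent.Lib.Helper14.HNx.Q0U65.chk325 v (by omega) (by omega)
  rcases Nat.lt_or_ge v 441695 with h326 | h326
  · exact (data.checkRange_iff 440100 1595).mp Cfsg.Agent.Lib.Helper14.HNx.Q0U65.chk326 v (by omega) (by omega)
  rcases Nat.lt_or_ge v 443235 with h327 | h327
  · exact (data.checkRange_iff 441695 1540).mp Cfsg.Agent.Lib.Helper14.HNx.Q0U65.chk327 v (by omega) (by omega)
  rcases Nat.lt_or_ge v 444857 with h328 | h328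
  · exact (data.checkRange_iff 443235 1622).mp Cfsg.Agent.Lib.Helper14.HNx.Q0U65.chk328 v (by omega) (by omega)
  rcases Nat.lt_or_ge v 446462 with h329 | h329
  · exact (data.checkRange_iff 444857 1605).mp Cfsg.Agent.Lib.Helper14.HNx.Q0U65.chk329 v (by omega) (by omega)
  rcases Nat.lt_or_ge v 448058 with h330 | h330
  · exact (data.checkRange_iff 446462 1596).mp Cfsg.Agent.Lib.Helper14.HNx.Q0U66.chk330 v (by omega) (by omega)
  rcases Nat.lt_or_ge v 449628 with h331 | h331
  · exact (data.checkRange_iff 448058 1570).mp Cfsg.Agent.Lib.Helper14.HNx.Q0U66.chk331 v (by omega) (by omega)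
  rcases Nat.lt_or_ge v 451207 with h332 | h332
  · exact (data.checkRange_iff 449628 1579).mp Cfsg.Agent.Lib.Helper14.HNx.Q0U66.chk332 v (by omega) (by omega)
  rcases Nat.lt_or_ge v 452818 with h333 | h333
  · exact (data.checkRange_iff 451207 1611).mp Cfsg.Agent.Lib.Helper14.HNx.Q0U66.chk333 v (by omega) (by omega)
  rcases Nat.lt_or_ge v 454429 with h334 | h334
  · exact (data.checkRange_iff 452818 1611).mp Cfsg.Agent.Lib.Helper14.HNx.Q0U66.chk334 v (by omega) (by omega)
  rcases Nat.lt_or_ge v 456066 with h335 | h335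
  · exact (data.checkRange_iff 454429 1637).mp Cfsg.Agent.Lib.Helper14.HNx.Q0U67.chk335 v (by omega) (by omega)
  rcases Nat.lt_or_ge v 457638 with h336 | h336
  · exact (data.checkRange_iff 456066 1572).mp Cfsg.Agent.Lib.Helper14.HNx.Q0U67.chk336 v (by omega) (by omega)
  rcases Nat.lt_or_ge v 459255 with h337 | h337
  · exact (data.checkRange_iff 457638 1617).mp Cfsg.Agent.Lib.Helper14.HNx.Q0U67.chk337 v (by omega) (by omega)
  rcases Nat.lt_or_ge v 460868 with h338 | h338
  · exact (data.checkRange_iff 459255 1613).mp Cfsg.Agent.Lib.Helper14.HNx.Q0U67.chk338 v (by omega) (by omega)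
  rcases Nat.lt_or_ge v 462466 with h339 | h339
  · exact (data.checkRange_iff 460868 1598).mp Cfsg.Agent.Lib.Helper14.HNx.Q0U67.chk339 v (by omega) (by omega)
  rcases Nat.lt_or_ge v 464065 with h340 | h340
  · exact (data.checkRange_iff 462466 1599).mp Cfsg.Agent.Lib.Helper14.HNx.Q0U68.chk340 v (by omega) (by omega)
  rcases Nat.lt_or_ge v 465669 with h341 | h341
  · exact (data.checkRange_iff 464065 1604).mp Cfsg.Agent.Lib.Helper14.HNx.Q0U68.chk341 v (by omega) (by omega)
  rcases Nat.lt_or_ge v 467260 with h342 | h342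
  · exact (data.checkRange_iff 465669 1591).mp Cfsg.Agent.Lib.Helper14.HNx.Q0U68.chk342 v (by omega) (by omega)
  rcases Nat.lt_or_ge v 468889 with h343 | h343
  · exact (data.checkRange_iff 467260 1629).mp Cfsg.Agent.Lib.Helper14.HNx.Q0U68.chk343 v (by omega) (by omega)
  rcases Nat.lt_or_ge v 470510 with h344 | h344
  · exact (data.checkRange_iff 468889 1621).mp Cfsg.Agent.Lib.Helper14.HNx.Q0U68.chk344 v (by omega) (by omega)
  rcases Nat.lt_or_ge v 472099 with h345 | h345
  · exact (data.checkRange_iff 470510 1589).mp Cfsg.Agent.Lib.Helper14.HNx.Q0U69.chk345 v (by omega) (by omega)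
  rcases Nat.lt_or_ge v 473647 with h346 | h346
  · exact (data.checkRange_iff 472099 1548).mp Cfsg.Agent.Lib.Helper14.HNx.Q0U69.chk346 v (by omega) (by omega)
  rcases Nat.lt_or_ge v 475276 with h347 | h347
  · exact (data.checkRange_iff 473647 1629).mp Cfsg.Agent.Lib.Helper14.HNx.Q0U69.chk347 v (by omega) (by omega)
  rcases Nat.lt_or_ge v 476871 with h348 | h348
  · exact (data.checkRange_iff 475276 1595).mp Cfsg.Agent.Lib.Helper14.HNx.Q0U69.chk348 v (by omega) (by omega)
  rcases Nat.lt_or_ge v 478457 with h349 | h349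
  · exact (data.checkRange_iff 476871 1586).mp Cfsg.Agent.Lib.Helper14.HNx.Q0U69.chk349 v (by omega) (by omega)
  rcases Nat.lt_or_ge v 480062 with h350 | h350
  · exact (data.checkRange_iff 478457 1605).mp Cfsg.Agent.Lib.Helper14.HNx.Q0U70.chk350 v (by omega) (by omega)
  rcases Nat.lt_or_ge v 481674 with h351 | h351
  · exact (data.checkRange_iff 480062 1612).mp Cfsg.Agent.Lib.Helper14.HNx.Q0U70.chk351 v (by omega) (by omega)
  rcases Nat.lt_or_ge v 483294 with h352 | h352
  · exact (data.checkRange_iff 481674 1620).mp Cfsg.Agent.Lib.Helper14.HNx.Q0U70.chk352 v (by omega) (by omega)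
  rcases Nat.lt_or_ge v 484904 with h353 | h353
  · exact (data.checkRange_iff 483294 1610).mp Cfsg.Agent.Lib.Helper14.HNx.Q0U70.chk353 v (by omega) (by omega)
  rcases Nat.lt_or_ge v 486576 with h354 | h354
  · exact (data.checkRange_iff 484904 1672).mp Cfsg.Agent.Lib.Helper14.HNx.Q0U70.chk354 v (by omega) (by omega)
  rcases Nat.lt_or_ge v 488210 with h355 | h355
  · exact (data.checkRange_iff 486576 1634).mp Cfsg.Agent.Lib.Helper14.HNx.Q0U71.chk355 v (by omega) (by omega)
  rcases Nat.lt_or_ge v 489848 with h356 | h356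
  · exact (data.checkRange_iff 488210 1638).mp Cfsg.Agent.Lib.Helper14.HNx.Q0U71.chk356 v (by omega) (by omega)
  rcases Nat.lt_or_ge v 491463 with h357 | h357
  · exact (data.checkRange_iff 489848 1615).mp Cfsg.Agent.Lib.Helper14.HNx.Q0U71.chk357 v (by omega) (by omega)
  rcases Nat.lt_or_ge v 493031 with h358 | h358
  · exact (data.checkRange_iff 491463 1568).mp Cfsg.Agent.Lib.Helper14.HNx.Q0U71.chk358 v (by omega) (by omega)
  rcases Nat.lt_or_ge v 494644 with h359 | h359
  · exact (data.checkRange_iff 493031 1613).mp Cfsg.Agent.Lib.Helper14.HNx.Q0U71.chk359 v (by omega) (by omega)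
  rcases Nat.lt_or_ge v 496239 with h360 | h360
  · exact (data.checkRange_iff 494644 1595).mp Cfsg.Agent.Lib.Helper14.HNx.Q0U72.chk360 v (by omega) (by omega)
  rcases Nat.lt_or_ge v 497862 with h361 | h361
  · exact (data.checkRange_iff 496239 1623).mp Cfsg.Agent.Lib.Helper14.HNx.Q0U72.chk361 v (by omega) (by omega)
  rcases Nat.lt_or_ge v 499522 with h362 | h362
  · exact (data.checkRange_iff 497862 1660).mp Cfsg.Agent.Lib.Helper14.HNx.Q0U72.chk362 v (by omega) (by omega)
  rcases Nat.lt_or_ge v 501106 with h363 | h363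
  · exact (data.checkRange_iff 499522 1584).mp Cfsg.Agent.Lib.Helper14.HNx.Q0U72.chk363 v (by omega) (by omega)
  rcases Nat.lt_or_ge v 502718 with h364 | h364
  · exact (data.checkRange_iff 501106 1612).mp Cfsg.Agent.Lib.Helper14.HNx.Q0U72.chk364 v (by omega) (by omega)
  rcases Nat.lt_or_ge v 504319 with h365 | h365
  · exact (data.checkRange_iff 502718 1601).mp Cfsg.Agent.Lib.Helper14.HNx.Q0U73.chk365 v (by omega) (by omega)
  rcases Nat.lt_or_ge v 505956 with h366 | h366
  · exact (data.checkRange_iff 504319 1637).mp Cfsg.Agent.Lib.Helper14.HNx.Q0U73.chk366 v (by omega) (by omega)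
  rcases Nat.lt_or_ge v 507583 with h367 | h367
  · exact (data.checkRange_iff 505956 1627).mp Cfsg.Agent.Lib.Helper14.HNx.Q0U73.chk367 v (by omega) (by omega)
  rcases Nat.lt_or_ge v 509169 with h368 | h368
  · exact (data.checkRange_iff 507583 1586).mp Cfsg.Agent.Lib.Helper14.HNx.Q0U73.chk368 v (by omega) (by omega)
  rcases Nat.lt_or_ge v 510765 with h369 | h369
  · exact (data.checkRange_iff 509169 1596).mp Cfsg.Agent.Lib.Helper14.HNx.Q0U73.chk369 v (by omega) (by omega)
  rcases Nat.lt_or_ge v 512381 with h370 | h370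
  · exact (data.checkRange_iff 510765 1616).mp Cfsg.Agent.Lib.Helper14.HNx.Q0U74.chk370 v (by omega) (by omega)
  rcases Nat.lt_or_ge v 513950 with h371 | h371
  · exact (data.checkRange_iff 512381 1569).mp Cfsg.Agent.Lib.Helper14.HNx.Q0U74.chk371 v (by omega) (by omega)
  rcases Nat.lt_or_ge v 515541 with h372 | h372
  · exact (data.checkRange_iff 513950 1591).mp Cfsg.Agent.Lib.Helper14.HNx.Q0U74.chk372 v (by omega) (by omega)
  rcases Nat.lt_or_ge v 517145 with h373 | h373
  · exact (data.checkRange_iff 515541 1604).mp Cfsg.Agent.Lib.Helper14.HNx.Q0U74.chk373 v (by omega) (by omega)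
  rcases Nat.lt_or_ge v 518674 with h374 | h374
  · exact (data.checkRange_iff 517145 1529).mp Cfsg.Agent.Lib.Helper14.HNx.Q0U74.chk374 v (by omega) (by omega)
  rcases Nat.lt_or_ge v 520175 with h375 | h375
  · exact (data.checkRange_iff 518674 1501).mp Cfsg.Agent.Lib.Helper14.HNx.Q0U75.chk375 v (by omega) (by omega)
  rcases Nat.lt_or_ge v 521439 with h376 | h376
  · exact (data.checkRange_iff 520175 1264).mp Cfsg.Agent.Lib.Helper14.HNx.Q0U75.chk376 v (by omega) (by omega)
  rcases Nat.lt_or_ge v 522689 with h377 | h377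
  · exact (data.checkRange_iff 521439 1250).mp Cfsg.Agent.Lib.Helper14.HNx.Q0U75.chk377 v (by omega) (by omega)
  rcases Nat.lt_or_ge v 523922 with h378 | h378
  · exact (data.checkRange_iff 522689 1233).mp Cfsg.Agent.Lib.Helper14.HNx.Q0U75.chk378 v (by omega) (by omega)
  rcases Nat.lt_or_ge v 525147 with h379 | h379
  · exact (data.checkRange_iff 523922 1225).mp Cfsg.Agent.Lib.Helper14.HNx.Q0U75.chk379 v (by omega) (by omega)
  rcases Nat.lt_or_ge v 526371 with h380 | h380
  · exact (data.checkRange_iff 525147 1224).mp Cfsg.Agent.Lib.Helper14.HNx.Q0U76.chk380 v (by omega) (by omega)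
  rcases Nat.lt_or_ge v 527590 with h381 | h381
  · exact (data.checkRange_iff 526371 1219).mp Cfsg.Agent.Lib.Helper14.HNx.Q0U76.chk381 v (by omega) (by omega)
  rcases Nat.lt_or_ge v 528808 with h382 | h382
  · exact (data.checkRange_iff 527590 1218).mp Cfsg.Agent.Lib.Helper14.HNx.Q0U76.chk382 v (by omega) (by omega)
  rcases Nat.lt_or_ge v 530018 with h383 | h383
  · exact (data.checkRange_iff 528808 1210).mp Cfsg.Agent.Lib.Helper14.HNx.Q0U76.chk383 v (by omega) (by omega)
  rcases Nat.lt_or_ge v 531227 with h384 | h384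
  · exact (data.checkRange_iff 530018 1209).mp Cfsg.Agent.Lib.Helper14.HNx.Q0U76.chk384 v (by omega) (by omega)
  rcases Nat.lt_or_ge v 532435 with h385 | h385
  · exact (data.checkRange_iff 531227 1208).mp Cfsg.Agent.Lib.Helper14.HNx.Q0U77.chk385 v (by omega) (by omega)
  rcases Nat.lt_or_ge v 533637 with h386 | h386
  · exact (data.checkRange_iff 532435 1202).mp Cfsg.Agent.Lib.Helper14.HNx.Q0U77.chk386 v (by omega) (by omega)
  rcases Nat.lt_or_ge v 534838 with h387 | h387
  · exact (data.checkRange_iff 533637 1201).mp Cfsg.Agent.Lib.Helper14.HNx.Q0U77.chk387 v (by omega) (by omega)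
  rcases Nat.lt_or_ge v 536040 with h388 | h388
  · exact (data.checkRange_iff 534838 1202).mp Cfsg.Agent.Lib.Helper14.HNx.Q0U77.chk388 v (by omega) (by omega)
  rcases Nat.lt_or_ge v 537240 with h389 | h389
  · exact (data.checkRange_iff 536040 1200).mp Cfsg.Agent.Lib.Helper14.HNx.Q0U77.chk389 v (by omega) (by omega)
  rcases Nat.lt_or_ge v 538441 with h390 | h390
  · exact (data.checkRange_iff 537240 1201).mp Cfsg.Agent.Lib.Helper14.HNx.Q0U78.chk390 v (by omega) (by omega)
  rcases Nat.lt_or_ge v 539643 with h391 | h391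
  · exact (data.checkRange_iff 538441 1202).mp Cfsg.Agent.Lib.Helper14.HNx.Q0U78.chk391 v (by omega) (by omega)
  rcases Nat.lt_or_ge v 540843 with h392 | h392
  · exact (data.checkRange_iff 539643 1200).mp Cfsg.Agent.Lib.Helper14.HNx.Q0U78.chk392 v (by omega) (by omega)
  exact (data.checkRange_iff 540843 389).mp Cfsg.Agent.Lib.Helper14.HNx.Q0U78.chk393 v (by omega) (by omega)

theorem hrows : ∀ v, v < data.N → Data.rowOK data v = true := by
  intro v hv
  have hv' : v < 541232 := hv
  rcases Nat.lt_or_ge v 6000 with h0 | h0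
  · exact (Data.finalRange_iff data 0 6000).mp Cfsg.Agent.Lib.Helper14.HNx.Q0M0.fin0 v (by omega) (by omega)
  rcases Nat.lt_or_ge v 12000 with h1 | h1
  · exact (Data.finalRange_iff data 6000 6000).mp Cfsg.Agent.Lib.Helper14.HNx.Q0M0.fin1 v (by omega) (by omega)
  rcases Nat.lt_or_ge v 18000 with h2 | h2
  · exact (Data.finalRange_iff data 12000 6000).mp Cfsg.Agent.Lib.Helper14.HNx.Q0M0.fin2 v (by omega) (by omega)
  rcases Nat.lt_or_ge v 24000 with h3 | h3
  · exact (Data.finalRange_iff data 18000 6000).mp Cfsg.Agent.Lib.Helper14.HNx.Q0M0.fin3 v (by omega) (by omega)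
  rcases Nat.lt_or_ge v 30000 with h4 | h4
  · exact (Data.finalRange_iff data 24000 6000).mp Cfsg.Agent.Lib.Helper14.HNx.Q0M1.fin4 v (by omega) (by omega)
  rcases Nat.lt_or_ge v 36000 with h5 | h5
  · exact (Data.finalRange_iff data 30000 6000).mp Cfsg.Agent.Lib.Helper14.HNx.Q0M1.fin5 v (by omega) (by omega)
  rcases Nat.lt_or_ge v 42000 with h6 | h6
  · exact (Data.finalRange_iff data 36000 6000).mp Cfsg.Agent.Lib.Helper14.HNx.Q0M1.fin6 v (by omega) (by omega)
  rcases Nat.lt_or_ge v 48000 with h7 | h7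
  · exact (Data.finalRange_iff data 42000 6000).mp Cfsg.Agent.Lib.Helper14.HNx.Q0M1.fin7 v (by omega) (by omega)
  rcases Nat.lt_or_ge v 54000 with h8 | h8
  · exact (Data.finalRange_iff data 48000 6000).mp Cfsg.Agent.Lib.Helper14.HNx.Q0M1.fin8 v (by omega) (by omega)
  rcases Nat.lt_or_ge v 60000 with h9 | h9
  · exact (Data.finalRange_iff data 54000 6000).mp Cfsg.Agent.Lib.Helper14.HNx.Q0M2.fin9 v (by omega) (by omega)
  rcases Nat.lt_or_ge v 66000 with h10 | h10
  · exact (Data.finalRange_iff data 60000 6000).mp Cfsg.Agent.Lib.Helper14.HNx.Q0M2.fin10 v (by omega) (by omega)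
  rcases Nat.lt_or_ge v 72000 with h11 | h11
  · exact (Data.finalRange_iff data 66000 6000).mp Cfsg.Agent.Lib.Helper14.HNx.Q0M2.fin11 v (by omega) (by omega)
  rcases Nat.lt_or_ge v 78000 with h12 | h12
  · exact (Data.finalRange_iff data 72000 6000).mp Cfsg.Agent.Lib.Helper14.HNx.Q0M2.fin12 v (by omega) (by omega)
  rcases Nat.lt_or_ge v 84000 with h13 | h13
  · exact (Data.finalRange_iff data 78000 6000).mp Cfsg.Agent.Lib.Helper14.HNx.Q0M2.fin13 v (by omega) (by omega)
  rcases Nat.lt_or_ge v 90000 with h14 | h14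
  · exact (Data.finalRange_iff data 84000 6000).mp Cfsg.Agent.Lib.Helper14.HNx.Q0M3.fin14 v (by omega) (by omega)
  rcases Nat.lt_or_ge v 96000 with h15 | h15
  · exact (Data.finalRange_iff data 90000 6000).mp Cfsg.Agent.Lib.Helper14.HNx.Q0M3.fin15 v (by omega) (by omega)
  rcases Nat.lt_or_ge v 102000 with h16 | h16
  · exact (Data.finalRange_iff data 96000 6000).mp Cfsg.Agent.Lib.Helper14.HNx.Q0M3.fin16 v (by omega) (by omega)
  rcases Nat.lt_or_ge v 108000 with h17 | h17
  · exact (Data.finalRange_iff data 102000 6000).mp Cfsg.Agent.Lib.Helper14.HNx.Q0M3.fin17 v (by omega) (by omega)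
  rcases Nat.lt_or_ge v 114000 with h18 | h18
  · exact (Data.finalRange_iff data 108000 6000).mp Cfsg.Agent.Lib.Helper14.HNx.Q0M3.fin18 v (by omega) (by omega)
  rcases Nat.lt_or_ge v 120000 with h19 | h19
  · exact (Data.finalRange_iff data 114000 6000).mp Cfsg.Agent.Lib.Helper14.HNx.Q0M4.fin19 v (by omega) (by omega)
  rcases Nat.lt_or_ge v 126000 with h20 | h20
  · exact (Data.finalRange_iff data 120000 6000).mp Cfsg.Agent.Lib.Helper14.HNx.Q0M4.fin20 v (by omega) (by omega)
  rcases Nat.lt_or_ge v 132000 with h21 | h21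
  · exact (Data.finalRange_iff data 126000 6000).mp Cfsg.Agent.Lib.Helper14.HNx.Q0M4.fin21 v (by omega) (by omega)
  rcases Nat.lt_or_ge v 138000 with h22 | h22
  · exact (Data.finalRange_iff data 132000 6000).mp Cfsg.Agent.Lib.Helper14.HNx.Q0M4.fin22 v (by omega) (by omega)
  rcases Nat.lt_or_ge v 144000 with h23 | h23
  · exact (Data.finalRange_iff data 138000 6000).mp Cfsg.Agent.Lib.Helper14.HNx.Q0M4.fin23 v (by omega) (by omega)
  rcases Nat.lt_or_ge v 150000 with h24 | h24
  · exact (Data.finalRange_iff data 144000 6000).mp Cfsg.Agent.Lib.Helper14.HNx.Q0M5.fin24 v (by omega) (by omega)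
  rcases Nat.lt_or_ge v 156000 with h25 | h25
  · exact (Data.finalRange_iff data 150000 6000).mp Cfsg.Agent.Lib.Helper14.HNx.Q0M5.fin25 v (by omega) (by omega)
  rcases Nat.lt_or_ge v 162000 with h26 | h26
  · exact (Data.finalRange_iff data 156000 6000).mp Cfsg.Agent.Lib.Helper14.HNx.Q0M5.fin26 v (by omega) (by omega)
  rcases Nat.lt_or_ge v 168000 with h27 | h27
  · exact (Data.finalRange_iff data 162000 6000).mp Cfsg.Agent.Lib.Helper14.HNx.Q0M5.fin27 v (by omega) (by omega)
  rcases Nat.lt_or_ge v 174000 with h28 | h28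
  · exact (Data.finalRange_iff data 168000 6000).mp Cfsg.Agent.Lib.Helper14.HNx.Q0M5.fin28 v (by omega) (by omega)
  rcases Nat.lt_or_ge v 180000 with h29 | h29
  · exact (Data.finalRange_iff data 174000 6000).mp Cfsg.Agent.Lib.Helper14.HNx.Q0M6.fin29 v (by omega) (by omega)
  rcases Nat.lt_or_ge v 186000 with h30 | h30
  · exact (Data.finalRange_iff data 180000 6000).mp Cfsg.Agent.Lib.Helper14.HNx.Q0M6.fin30 v (by omega) (by omega)
  rcases Nat.lt_or_ge v 192000 with h31 | h31
  · exact (Data.finalRange_iff data 186000 6000).mp Cfsg.Agent.Lib.Helper14.HNx.Q0M6.fin31 v (by omega) (by omega)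
  rcases Nat.lt_or_ge v 198000 with h32 | h32
  · exact (Data.finalRange_iff data 192000 6000).mp Cfsg.Agent.Lib.Helper14.HNx.Q0M6.fin32 v (by omega) (by omega)
  rcases Nat.lt_or_ge v 204000 with h33 | h33
  · exact (Data.finalRange_iff data 198000 6000).mp Cfsg.Agent.Lib.Helper14.HNx.Q0M6.fin33 v (by omega) (by omega)
  rcases Nat.lt_or_ge v 210000 with h34 | h34
  · exact (Data.finalRange_iff data 204000 6000).mp Cfsg.Agent.Lib.Helper14.HNx.Q0M7.fin34 v (by omega) (by omega)
  rcases Nat.lt_or_ge v 216000 with h35 | h35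
  · exact (Data.finalRange_iff data 210000 6000).mp Cfsg.Agent.Lib.Helper14.HNx.Q0M7.fin35 v (by omega) (by omega)
  rcases Nat.lt_or_ge v 222000 with h36 | h36
  · exact (Data.finalRange_iff data 216000 6000).mp Cfsg.Agent.Lib.Helper14.HNx.Q0M7.fin36 v (by omega) (by omega)
  rcases Nat.lt_or_ge v 228000 with h37 | h37
  · exact (Data.finalRange_iff data 222000 6000).mp Cfsg.Agent.Lib.Helper14.HNx.Q0M7.fin37 v (by omega) (by omega)
  rcases Nat.lt_or_ge v 234000 with h38 | h38
  · exact (Data.finalRange_iff data 228000 6000).mp Cfsg.Agent.Lib.Helper14.HNx.Q0M7.fin38 v (by omega) (by omega)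
  rcases Nat.lt_or_ge v 240000 with h39 | h39
  · exact (Data.finalRange_iff data 234000 6000).mp Cfsg.Agent.Lib.Helper14.HNx.Q0M8.fin39 v (by omega) (by omega)
  rcases Nat.lt_or_ge v 246000 with h40 | h40
  · exact (Data.finalRange_iff data 240000 6000).mp Cfsg.Agent.Lib.Helper14.HNx.Q0M8.fin40 v (by omega) (by omega)
  rcases Nat.lt_or_ge v 252000 with h41 | h41
  · exact (Data.finalRange_iff data 246000 6000).mp Cfsg.Agent.Lib.Helper14.HNx.Q0M8.fin41 v (by omega) (by omega)
  rcases Nat.lt_or_ge v 258000 with h42 | h42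
  · exact (Data.finalRange_iff data 252000 6000).mp Cfsg.Agent.Lib.Helper14.HNx.Q0M8.fin42 v (by omega) (by omega)
  rcases Nat.lt_or_ge v 264000 with h43 | h43
  · exact (Data.finalRange_iff data 258000 6000).mp Cfsg.Agent.Lib.Helper14.HNx.Q0M8.fin43 v (by omega) (by omega)
  rcases Nat.lt_or_ge v 270000 with h44 | h44
  · exact (Data.finalRange_iff data 264000 6000).mp Cfsg.Agent.Lib.Helper14.HNx.Q0M9.fin44 v (by omega) (by omega)
  rcases Nat.lt_or_ge v 276000 with h45 | h45
  · exact (Data.finalRange_iff data 270000 6000).mp Cfsg.Agent.Lib.Helper14.HNx.Q0M9.fin45 v (by omega) (by omega)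
  rcases Nat.lt_or_ge v 282000 with h46 | h46
  · exact (Data.finalRange_iff data 276000 6000).mp Cfsg.Agent.Lib.Helper14.HNx.Q0M9.fin46 v (by omega) (by omega)
  rcases Nat.lt_or_ge v 288000 with h47 | h47
  · exact (Data.finalRange_iff data 282000 6000).mp Cfsg.Agent.Lib.Helper14.HNx.Q0M9.fin47 v (by omega) (by omega)
  rcases Nat.lt_or_ge v 294000 with h48 | h48
  · exact (Data.finalRange_iff data 288000 6000).mp Cfsg.Agent.Lib.Helper14.HNx.Q0M9.fin48 v (by omega) (by omega)
  rcases Nat.lt_or_ge v 300000 with h49 | h49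
  · exact (Data.finalRange_iff data 294000 6000).mp Cfsg.Agent.Lib.Helper14.HNx.Q0M10.fin49 v (by omega) (by omega)
  rcases Nat.lt_or_ge v 306000 with h50 | h50
  · exact (Data.finalRange_iff data 300000 6000).mp Cfsg.Agent.Lib.Helper14.HNx.Q0M10.fin50 v (by omega) (by omega)
  rcases Nat.lt_or_ge v 312000 with h51 | h51
  · exact (Data.finalRange_iff data 306000 6000).mp Cfsg.Agent.Lib.Helper14.HNx.Q0M10.fin51 v (by omega) (by omega)
  rcases Nat.lt_or_ge v 318000 with h52 | h52
  · exact (Data.finalRange_iff data 312000 6000).mp Cfsg.Agent.Lib.Helper14.HNx.Q0M10.fin52 v (by omega) (by omega)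
  rcases Nat.lt_or_ge v 324000 with h53 | h53
  · exact (Data.finalRange_iff data 318000 6000).mp Cfsg.Agent.Lib.Helper14.HNx.Q0M10.fin53 v (by omega) (by omega)
  rcases Nat.lt_or_ge v 330000 with h54 | h54
  · exact (Data.finalRange_iff data 324000 6000).mp Cfsg.Agent.Lib.Helper14.HNx.Q0M11.fin54 v (by omega) (by omega)
  rcases Nat.lt_or_ge v 336000 with h55 | h55
  · exact (Data.finalRange_iff data 330000 6000).mp Cfsg.Agent.Lib.Helper14.HNx.Q0M11.fin55 v (by omega) (by omega)
  rcases Nat.lt_or_ge v 342000 with h56 | h56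
  · exact (Data.finalRange_iff data 336000 6000).mp Cfsg.Agent.Lib.Helper14.HNx.Q0M11.fin56 v (by omega) (by omega)
  rcases Nat.lt_or_ge v 348000 with h57 | h57
  · exact (Data.finalRange_iff data 342000 6000).mp Cfsg.Agent.Lib.Helper14.HNx.Q0M11.fin57 v (by omega) (by omega)
  rcases Nat.lt_or_ge v 354000 with h58 | h58
  · exact (Data.finalRange_iff data 348000 6000).mp Cfsg.Agent.Lib.Helper14.HNx.Q0M11.fin58 v (by omega) (by omega)
  rcases Nat.lt_or_ge v 360000 with h59 | h59
  · exact (Data.finalRange_iff data 354000 6000).mp Cfsg.Agent.Lib.Helper14.HNx.Q0M12.fin59 v (by omega) (by omega)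
  rcases Nat.lt_or_ge v 366000 with h60 | h60
  · exact (Data.finalRange_iff data 360000 6000).mp Cfsg.Agent.Lib.Helper14.HNx.Q0M12.fin60 v (by omega) (by omega)
  rcases Nat.lt_or_ge v 372000 with h61 | h61
  · exact (Data.finalRange_iff data 366000 6000).mp Cfsg.Agent.Lib.Helper14.HNx.Q0M12.fin61 v (by omega) (by omega)
  rcases Nat.lt_or_ge v 378000 with h62 | h62
  · exact (Data.finalRange_iff data 372000 6000).mp Cfsg.Agent.Lib.Helper14.HNx.Q0M12.fin62 v (by omega) (by omega)
  rcases Nat.lt_or_ge v 384000 with h63 | h63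
  · exact (Data.finalRange_iff data 378000 6000).mp Cfsg.Agent.Lib.Helper14.HNx.Q0M12.fin63 v (by omega) (by omega)
  rcases Nat.lt_or_ge v 390000 with h64 | h64
  · exact (Data.finalRange_iff data 384000 6000).mp Cfsg.Agent.Lib.Helper14.HNx.Q0M13.fin64 v (by omega) (by omega)
  rcases Nat.lt_or_ge v 396000 with h65 | h65
  · exact (Data.finalRange_iff data 390000 6000).mp Cfsg.Agent.Lib.Helper14.HNx.Q0M13.fin65 v (by omega) (by omega)
  rcases Nat.lt_or_ge v 402000 with h66 | h66
  · exact (Data.finalRange_iff data 396000 6000).mp Cfsg.Agent.Lib.Helper14.HNx.Q0M13.fin66 v (by omega) (by omega)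
  rcases Nat.lt_or_ge v 408000 with h67 | h67
  · exact (Data.finalRange_iff data 402000 6000).mp Cfsg.Agent.Lib.Helper14.HNx.Q0M13.fin67 v (by omega) (by omega)
  rcases Nat.lt_or_ge v 414000 with h68 | h68
  · exact (Data.finalRange_iff data 408000 6000).mp Cfsg.Agent.Lib.Helper14.HNx.Q0M13.fin68 v (by omega) (by omega)
  rcases Nat.lt_or_ge v 420000 with h69 | h69
  · exact (Data.finalRange_iff data 414000 6000).mp Cfsg.Agent.Lib.Helper14.HNx.Q0M14.fin69 v (by omega) (by omega)
  rcases Nat.lt_or_ge v 426000 with h70 | h70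
  · exact (Data.finalRange_iff data 420000 6000).mp Cfsg.Agent.Lib.Helper14.HNx.Q0M14.fin70 v (by omega) (by omega)
  rcases Nat.lt_or_ge v 432000 with h71 | h71
  · exact (Data.finalRange_iff data 426000 6000).mp Cfsg.Agent.Lib.Helper14.HNx.Q0M14.fin71 v (by omega) (by omega)
  rcases Nat.lt_or_ge v 438000 with h72 | h72
  · exact (Data.finalRange_iff data 432000 6000).mp Cfsg.Agent.Lib.Helper14.HNx.Q0M14.fin72 v (by omega) (by omega)
  rcases Nat.lt_or_ge v 444000 with h73 | h73
  · exact (Data.finalRange_iff data 438000 6000).mp Cfsg.Agent.Lib.Helper14.HNx.Q0M14.fin73 v (by omega) (by omega)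
  rcases Nat.lt_or_ge v 450000 with h74 | h74
  · exact (Data.finalRange_iff data 444000 6000).mp Cfsg.Agent.Lib.Helper14.HNx.Q0M15.fin74 v (by omega) (by omega)
  rcases Nat.lt_or_ge v 456000 with h75 | h75
  · exact (Data.finalRange_iff data 450000 6000).mp Cfsg.Agent.Lib.Helper14.HNx.Q0M15.fin75 v (by omega) (by omega)
  rcases Nat.lt_or_ge v 462000 with h76 | h76
  · exact (Data.finalRange_iff data 456000 6000).mp Cfsg.Agent.Lib.Helper14.HNx.Q0M15.fin76 v (by omega) (by omega)
  rcases Nat.lt_or_ge v 468000 with h77 | h77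
  · exact (Data.finalRange_iff data 462000 6000).mp Cfsg.Agent.Lib.Helper14.HNx.Q0M15.fin77 v (by omega) (by omega)
  rcases Nat.lt_or_ge v 474000 with h78 | h78
  · exact (Data.finalRange_iff data 468000 6000).mp Cfsg.Agent.Lib.Helper14.HNx.Q0M15.fin78 v (by omega) (by omega)
  rcases Nat.lt_or_ge v 480000 with h79 | h79
  · exact (Data.finalRange_iff data 474000 6000).mp Cfsg.Agent.Lib.Helper14.HNx.Q0M16.fin79 v (by omega) (by omega)
  rcases Nat.lt_or_ge v 486000 with h80 | h80
  · exact (Data.finalRange_iff data 480000 6000).mp Cfsg.Agent.Lib.Helper14.HNx.Q0M16.fin80 v (by omega) (by omega)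
  rcases Nat.lt_or_ge v 492000 with h81 | h81
  · exact (Data.finalRange_iff data 486000 6000).mp Cfsg.Agent.Lib.Helper14.HNx.Q0M16.fin81 v (by omega) (by omega)
  rcases Nat.lt_or_ge v 498000 with h82 | h82
  · exact (Data.finalRange_iff data 492000 6000).mp Cfsg.Agent.Lib.Helper14.HNx.Q0M16.fin82 v (by omega) (by omega)
  rcases Nat.lt_or_ge v 504000 with h83 | h83
  · exact (Data.finalRange_iff data 498000 6000).mp Cfsg.Agent.Lib.Helper14.HNx.Q0M16.fin83 v (by omega) (by omega)
  rcases Nat.lt_or_ge v 510000 with h84 | h84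
  · exact (Data.finalRange_iff data 504000 6000).mp Cfsg.Agent.Lib.Helper14.HNx.Q0M17.fin84 v (by omega) (by omega)
  rcases Nat.lt_or_ge v 516000 with h85 | h85
  · exact (Data.finalRange_iff data 510000 6000).mp Cfsg.Agent.Lib.Helper14.HNx.Q0M17.fin85 v (by omega) (by omega)
  rcases Nat.lt_or_ge v 522000 with h86 | h86
  · exact (Data.finalRange_iff data 516000 6000).mp Cfsg.Agent.Lib.Helper14.HNx.Q0M17.fin86 v (by omega) (by omega)
  rcases Nat.lt_or_ge v 528000 with h87 | h87
  · exact (Data.finalRange_iff data 522000 6000).mp Cfsg.Agent.Lib.Helper14.HNx.Q0M17.fin87 v (by omega) (by omega)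
  rcases Nat.lt_or_ge v 534000 with h88 | h88
  · exact (Data.finalRange_iff data 528000 6000).mp Cfsg.Agent.Lib.Helper14.HNx.Q0M17.fin88 v (by omega) (by omega)
  rcases Nat.lt_or_ge v 540000 with h89 | h89
  · exact (Data.finalRange_iff data 534000 6000).mp Cfsg.Agent.Lib.Helper14.HNx.Q0M18.fin89 v (by omega) (by omega)
  exact (Data.finalRange_iff data 540000 1232).mp Cfsg.Agent.Lib.Helper14.HNx.Q0M18.fin90 v (by omega) (by omega)

theorem hfin : data.finalOK = true := Data.finalOK_of_rows data Cfsg.Agent.Lib.Helper14.HNx.Q0M0.hlive0 (by decide) hrows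

theorem pc0 : Data.countFrom data 0 6000 = 5380 := Cfsg.Agent.Lib.Helper14.HNx.Q0M18.cnt0
theorem pc1 : Data.countFrom data 0 12000 = 11091 := Data.countFrom_step data pc0 Cfsg.Agent.Lib.Helper14.HNx.Q0M18.cnt1 (by norm_num) (by norm_num)
theorem pc2 : Data.countFrom data 0 18000 = 16544 := Data.countFrom_step data pc1 Cfsg.Agent.Lib.Helper14.HNx.Q0M18.cnt2 (by norm_num) (by norm_num)
theorem pc3 : Data.countFrom data 0 24000 = 21802 := Data.countFrom_step data pc2 Cfsg.Agent.Lib.Helper14.HNx.Q0M19.cnt3 (by norm_num) (by norm_num)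
theorem pc4 : Data.countFrom data 0 30000 = 26781 := Data.countFrom_step data pc3 Cfsg.Agent.Lib.Helper14.HNx.Q0M19.cnt4 (by norm_num) (by norm_num)
theorem pc5 : Data.countFrom data 0 36000 = 31673 := Data.countFrom_step data pc4 Cfsg.Agent.Lib.Helper14.HNx.Q0M19.cnt5 (by norm_num) (by norm_num)
theorem pc6 : Data.countFrom data 0 42000 = 36261 := Data.countFrom_step data pc5 Cfsg.Agent.Lib.Helper14.HNx.Q0M19.cnt6 (by norm_num) (by norm_num)
theorem pc7 : Data.countFrom data 0 48000 = 40734 := Data.countFrom_step data pc6 Cfsg.Agent.Lib.Helper14.HNx.Q0M19.cnt7 (by norm_num) (by norm_num)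
theorem pc8 : Data.countFrom data 0 54000 = 45354 := Data.countFrom_step data pc7 Cfsg.Agent.Lib.Helper14.HNx.Q0M20.cnt8 (by norm_num) (by norm_num)
theorem pc9 : Data.countFrom data 0 60000 = 49669 := Data.countFrom_step data pc8 Cfsg.Agent.Lib.Helper14.HNx.Q0M20.cnt9 (by norm_num) (by norm_num)
theorem pc10 : Data.countFrom data 0 66000 = 53806 := Data.countFrom_step data pc9 Cfsg.Agent.Lib.Helper14.HNx.Q0M20.cnt10 (by norm_num) (by norm_num)
theorem pc11 : Data.countFrom data 0 72000 = 57744 := Data.countFrom_step data pc10 Cfsg.Agent.Lib.Helper14.HNx.Q0M20.cnt11 (by norm_num) (by norm_num)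
theorem pc12 : Data.countFrom data 0 78000 = 61567 := Data.countFrom_step data pc11 Cfsg.Agent.Lib.Helper14.HNx.Q0M20.cnt12 (by norm_num) (by norm_num)
theorem pc13 : Data.countFrom data 0 84000 = 65716 := Data.countFrom_step data pc12 Cfsg.Agent.Lib.Helper14.HNx.Q0M21.cnt13 (by norm_num) (by norm_num)
theorem pc14 : Data.countFrom data 0 90000 = 69608 := Data.countFrom_step data pc13 Cfsg.Agent.Lib.Helper14.HNx.Q0M21.cnt14 (by norm_num) (by norm_num)
theorem pc15 : Data.countFrom data 0 96000 = 73292 := Data.countFrom_step data pc14 Cfsg.Agent.Lib.Helper14.HNx.Q0M21.cnt15 (by norm_num) (by norm_num)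
theorem pc16 : Data.countFrom data 0 102000 = 76869 := Data.countFrom_step data pc15 Cfsg.Agent.Lib.Helper14.HNx.Q0M21.cnt16 (by norm_num) (by norm_num)
theorem pc17 : Data.countFrom data 0 108000 = 80346 := Data.countFrom_step data pc16 Cfsg.Agent.Lib.Helper14.HNx.Q0M21.cnt17 (by norm_num) (by norm_num)
theorem pc18 : Data.countFrom data 0 114000 = 83490 := Data.countFrom_step data pc17 Cfsg.Agent.Lib.Helper14.HNx.Q0M22.cnt18 (by norm_num) (by norm_num)
theorem pc19 : Data.countFrom data 0 120000 = 86724 := Data.countFrom_step data pc18 Cfsg.Agent.Lib.Helper14.HNx.Q0M22.cnt19 (by norm_num) (by norm_num)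
theorem pc20 : Data.countFrom data 0 126000 = 90040 := Data.countFrom_step data pc19 Cfsg.Agent.Lib.Helper14.HNx.Q0M22.cnt20 (by norm_num) (by norm_num)
theorem pc21 : Data.countFrom data 0 132000 = 93356 := Data.countFrom_step data pc20 Cfsg.Agent.Lib.Helper14.HNx.Q0M22.cnt21 (by norm_num) (by norm_num)
theorem pc22 : Data.countFrom data 0 138000 = 96760 := Data.countFrom_step data pc21 Cfsg.Agent.Lib.Helper14.HNx.Q0M22.cnt22 (by norm_num) (by norm_num)
theorem pc23 : Data.countFrom data 0 144000 = 99958 := Data.countFrom_step data pc22 Cfsg.Agent.Lib.Helper14.HNx.Q0M23.cnt23 (by norm_num) (by norm_num)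
theorem pc24 : Data.countFrom data 0 150000 = 103036 := Data.countFrom_step data pc23 Cfsg.Agent.Lib.Helper14.HNx.Q0M23.cnt24 (by norm_num) (by norm_num)
theorem pc25 : Data.countFrom data 0 156000 = 106066 := Data.countFrom_step data pc24 Cfsg.Agent.Lib.Helper14.HNx.Q0M23.cnt25 (by norm_num) (by norm_num)
theorem pc26 : Data.countFrom data 0 162000 = 108708 := Data.countFrom_step data pc25 Cfsg.Agent.Lib.Helper14.HNx.Q0M23.cnt26 (by norm_num) (by norm_num)
theorem pc27 : Data.countFrom data 0 168000 = 111781 := Data.countFrom_step data pc26 Cfsg.Agent.Lib.Helper14.HNx.Q0M23.cnt27 (by norm_num) (by norm_num)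
theorem pc28 : Data.countFrom data 0 174000 = 114540 := Data.countFrom_step data pc27 Cfsg.Agent.Lib.Helper14.HNx.Q0M24.cnt28 (by norm_num) (by norm_num)
theorem pc29 : Data.countFrom data 0 180000 = 117152 := Data.countFrom_step data pc28 Cfsg.Agent.Lib.Helper14.HNx.Q0M24.cnt29 (by norm_num) (by norm_num)
theorem pc30 : Data.countFrom data 0 186000 = 119681 := Data.countFrom_step data pc29 Cfsg.Agent.Lib.Helper14.HNx.Q0M24.cnt30 (by norm_num) (by norm_num)
theorem pc31 : Data.countFrom data 0 192000 = 122154 := Data.countFrom_step data pc30 Cfsg.Agent.Lib.Helper14.HNx.Q0M24.cnt31 (by norm_num) (by norm_num)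
theorem pc32 : Data.countFrom data 0 198000 = 124751 := Data.countFrom_step data pc31 Cfsg.Agent.Lib.Helper14.HNx.Q0M24.cnt32 (by norm_num) (by norm_num)
theorem pc33 : Data.countFrom data 0 204000 = 127553 := Data.countFrom_step data pc32 Cfsg.Agent.Lib.Helper14.HNx.Q0M25.cnt33 (by norm_num) (by norm_num)
theorem pc34 : Data.countFrom data 0 210000 = 130420 := Data.countFrom_step data pc33 Cfsg.Agent.Lib.Helper14.HNx.Q0M25.cnt34 (by norm_num) (by norm_num)
theorem pc35 : Data.countFrom data 0 216000 = 133199 := Data.countFrom_step data pc34 Cfsg.Agent.Lib.Helper14.HNx.Q0M25.cnt35 (by norm_num) (by norm_num)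
theorem pc36 : Data.countFrom data 0 222000 = 135998 := Data.countFrom_step data pc35 Cfsg.Agent.Lib.Helper14.HNx.Q0M25.cnt36 (by norm_num) (by norm_num)
theorem pc37 : Data.countFrom data 0 228000 = 138650 := Data.countFrom_step data pc36 Cfsg.Agent.Lib.Helper14.HNx.Q0M25.cnt37 (by norm_num) (by norm_num)
theorem pc38 : Data.countFrom data 0 234000 = 141244 := Data.countFrom_step data pc37 Cfsg.Agent.Lib.Helper14.HNx.Q0M26.cnt38 (by norm_num) (by norm_num)
theorem pc39 : Data.countFrom data 0 240000 = 143755 := Data.countFrom_step data pc38 Cfsg.Agent.Lib.Helper14.HNx.Q0M26.cnt39 (by norm_num) (by norm_num)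
theorem pc40 : Data.countFrom data 0 246000 = 146165 := Data.countFrom_step data pc39 Cfsg.Agent.Lib.Helper14.HNx.Q0M26.cnt40 (by norm_num) (by norm_num)
theorem pc41 : Data.countFrom data 0 252000 = 148436 := Data.countFrom_step data pc40 Cfsg.Agent.Lib.Helper14.HNx.Q0M26.cnt41 (by norm_num) (by norm_num)
theorem pc42 : Data.countFrom data 0 258000 = 150757 := Data.countFrom_step data pc41 Cfsg.Agent.Lib.Helper14.HNx.Q0M26.cnt42 (by norm_num) (by norm_num)
theorem pc43 : Data.countFrom data 0 264000 = 152862 := Data.countFrom_step data pc42 Cfsg.Agent.Lib.Helper14.HNx.Q0M27.cnt43 (by norm_num) (by norm_num)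
theorem pc44 : Data.countFrom data 0 270000 = 155065 := Data.countFrom_step data pc43 Cfsg.Agent.Lib.Helper14.HNx.Q0M27.cnt44 (by norm_num) (by norm_num)
theorem pc45 : Data.countFrom data 0 276000 = 157212 := Data.countFrom_step data pc44 Cfsg.Agent.Lib.Helper14.HNx.Q0M27.cnt45 (by norm_num) (by norm_num)
theorem pc46 : Data.countFrom data 0 282000 = 159410 := Data.countFrom_step data pc45 Cfsg.Agent.Lib.Helper14.HNx.Q0M27.cnt46 (by norm_num) (by norm_num)
theorem pc47 : Data.countFrom data 0 288000 = 161521 := Data.countFrom_step data pc46 Cfsg.Agent.Lib.Helper14.HNx.Q0M27.cnt47 (by norm_num) (by norm_num)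
theorem pc48 : Data.countFrom data 0 294000 = 163474 := Data.countFrom_step data pc47 Cfsg.Agent.Lib.Helper14.HNx.Q0M28.cnt48 (by norm_num) (by norm_num)
theorem pc49 : Data.countFrom data 0 300000 = 165780 := Data.countFrom_step data pc48 Cfsg.Agent.Lib.Helper14.HNx.Q0M28.cnt49 (by norm_num) (by norm_num)
theorem pc50 : Data.countFrom data 0 306000 = 167941 := Data.countFrom_step data pc49 Cfsg.Agent.Lib.Helper14.HNx.Q0M28.cnt50 (by norm_num) (by norm_num)
theorem pc51 : Data.countFrom data 0 312000 = 170320 := Data.countFrom_step data pc50 Cfsg.Agent.Lib.Helper14.HNx.Q0M28.cnt51 (by norm_num) (by norm_num)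
theorem pc52 : Data.countFrom data 0 318000 = 172522 := Data.countFrom_step data pc51 Cfsg.Agent.Lib.Helper14.HNx.Q0M28.cnt52 (by norm_num) (by norm_num)
theorem pc53 : Data.countFrom data 0 324000 = 174777 := Data.countFrom_step data pc52 Cfsg.Agent.Lib.Helper14.HNx.Q0M29.cnt53 (by norm_num) (by norm_num)
theorem pc54 : Data.countFrom data 0 330000 = 177094 := Data.countFrom_step data pc53 Cfsg.Agent.Lib.Helper14.HNx.Q0M29.cnt54 (by norm_num) (by norm_num)
theorem pc55 : Data.countFrom data 0 336000 = 179250 := Data.countFrom_step data pc54 Cfsg.Agent.Lib.Helper14.HNx.Q0M29.cnt55 (by norm_num) (by norm_num)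
theorem pc56 : Data.countFrom data 0 342000 = 181394 := Data.countFrom_step data pc55 Cfsg.Agent.Lib.Helper14.HNx.Q0M29.cnt56 (by norm_num) (by norm_num)
theorem pc57 : Data.countFrom data 0 348000 = 183421 := Data.countFrom_step data pc56 Cfsg.Agent.Lib.Helper14.HNx.Q0M29.cnt57 (by norm_num) (by norm_num)
theorem pc58 : Data.countFrom data 0 354000 = 185426 := Data.countFrom_step data pc57 Cfsg.Agent.Lib.Helper14.HNx.Q0M30.cnt58 (by norm_num) (by norm_num)
theorem pc59 : Data.countFrom data 0 360000 = 187100 := Data.countFrom_step data pc58 Cfsg.Agent.Lib.Helper14.HNx.Q0M30.cnt59 (by norm_num) (by norm_num)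
theorem pc60 : Data.countFrom data 0 366000 = 189029 := Data.countFrom_step data pc59 Cfsg.Agent.Lib.Helper14.HNx.Q0M30.cnt60 (by norm_num) (by norm_num)
theorem pc61 : Data.countFrom data 0 372000 = 190886 := Data.countFrom_step data pc60 Cfsg.Agent.Lib.Helper14.HNx.Q0M30.cnt61 (by norm_num) (by norm_num)
theorem pc62 : Data.countFrom data 0 378000 = 192596 := Data.countFrom_step data pc61 Cfsg.Agent.Lib.Helper14.HNx.Q0M30.cnt62 (by norm_num) (by norm_num)
theorem pc63 : Data.countFrom data 0 384000 = 194140 := Data.countFrom_step data pc62 Cfsg.Agent.Lib.Helper14.HNx.Q0M31.cnt63 (by norm_num) (by norm_num)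
theorem pc64 : Data.countFrom data 0 390000 = 195923 := Data.countFrom_step data pc63 Cfsg.Agent.Lib.Helper14.HNx.Q0M31.cnt64 (by norm_num) (by norm_num)
theorem pc65 : Data.countFrom data 0 396000 = 197658 := Data.countFrom_step data pc64 Cfsg.Agent.Lib.Helper14.HNx.Q0M31.cnt65 (by norm_num) (by norm_num)
theorem pc66 : Data.countFrom data 0 402000 = 199238 := Data.countFrom_step data pc65 Cfsg.Agent.Lib.Helper14.HNx.Q0M31.cnt66 (by norm_num) (by norm_num)
theorem pc67 : Data.countFrom data 0 408000 = 200785 := Data.countFrom_step data pc66 Cfsg.Agent.Lib.Helper14.HNx.Q0M31.cnt67 (by norm_num) (by norm_num)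
theorem pc68 : Data.countFrom data 0 414000 = 202482 := Data.countFrom_step data pc67 Cfsg.Agent.Lib.Helper14.HNx.Q0M32.cnt68 (by norm_num) (by norm_num)
theorem pc69 : Data.countFrom data 0 420000 = 204266 := Data.countFrom_step data pc68 Cfsg.Agent.Lib.Helper14.HNx.Q0M32.cnt69 (by norm_num) (by norm_num)
theorem pc70 : Data.countFrom data 0 426000 = 206166 := Data.countFrom_step data pc69 Cfsg.Agent.Lib.Helper14.HNx.Q0M32.cnt70 (by norm_num) (by norm_num)
theorem pc71 : Data.countFrom data 0 432000 = 208224 := Data.countFrom_step data pc70 Cfsg.Agent.Lib.Helper14.HNx.Q0M32.cnt71 (by norm_num) (by norm_num)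
theorem pc72 : Data.countFrom data 0 438000 = 210196 := Data.countFrom_step data pc71 Cfsg.Agent.Lib.Helper14.HNx.Q0M32.cnt72 (by norm_num) (by norm_num)
theorem pc73 : Data.countFrom data 0 444000 = 212176 := Data.countFrom_step data pc72 Cfsg.Agent.Lib.Helper14.HNx.Q0M33.cnt73 (by norm_num) (by norm_num)
theorem pc74 : Data.countFrom data 0 450000 = 214002 := Data.countFrom_step data pc73 Cfsg.Agent.Lib.Helper14.HNx.Q0M33.cnt74 (by norm_num) (by norm_num)
theorem pc75 : Data.countFrom data 0 456000 = 215774 := Data.countFrom_step data pc74 Cfsg.Agent.Lib.Helper14.HNx.Q0M33.cnt75 (by norm_num) (by norm_num)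
theorem pc76 : Data.countFrom data 0 462000 = 217555 := Data.countFrom_step data pc75 Cfsg.Agent.Lib.Helper14.HNx.Q0M33.cnt76 (by norm_num) (by norm_num)
theorem pc77 : Data.countFrom data 0 468000 = 219204 := Data.countFrom_step data pc76 Cfsg.Agent.Lib.Helper14.HNx.Q0M33.cnt77 (by norm_num) (by norm_num)
theorem pc78 : Data.countFrom data 0 474000 = 220872 := Data.countFrom_step data pc77 Cfsg.Agent.Lib.Helper14.HNx.Q0M34.cnt78 (by norm_num) (by norm_num)
theorem pc79 : Data.countFrom data 0 480000 = 222438 := Data.countFrom_step data pc78 Cfsg.Agent.Lib.Helper14.HNx.Q0M34.cnt79 (by norm_num) (by norm_num)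
theorem pc80 : Data.countFrom data 0 486000 = 223872 := Data.countFrom_step data pc79 Cfsg.Agent.Lib.Helper14.HNx.Q0M34.cnt80 (by norm_num) (by norm_num)
theorem pc81 : Data.countFrom data 0 492000 = 225254 := Data.countFrom_step data pc80 Cfsg.Agent.Lib.Helper14.HNx.Q0M34.cnt81 (by norm_num) (by norm_num)
theorem pc82 : Data.countFrom data 0 498000 = 226706 := Data.countFrom_step data pc81 Cfsg.Agent.Lib.Helper14.HNx.Q0M34.cnt82 (by norm_num) (by norm_num)
theorem pc83 : Data.countFrom data 0 504000 = 228060 := Data.countFrom_step data pc82 Cfsg.Agent.Lib.Helper14.HNx.Q0M35.cnt83 (by norm_num) (by norm_num)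
theorem pc84 : Data.countFrom data 0 510000 = 229444 := Data.countFrom_step data pc83 Cfsg.Agent.Lib.Helper14.HNx.Q0M35.cnt84 (by norm_num) (by norm_num)
theorem pc85 : Data.countFrom data 0 516000 = 230809 := Data.countFrom_step data pc84 Cfsg.Agent.Lib.Helper14.HNx.Q0M35.cnt85 (by norm_num) (by norm_num)
theorem pc86 : Data.countFrom data 0 522000 = 233446 := Data.countFrom_step data pc85 Cfsg.Agent.Lib.Helper14.HNx.Q0M35.cnt86 (by norm_num) (by norm_num)
theorem pc87 : Data.countFrom data 0 528000 = 238910 := Data.countFrom_step data pc86 Cfsg.Agent.Lib.Helper14.HNx.Q0M35.cnt87 (by norm_num) (by norm_num)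
theorem pc88 : Data.countFrom data 0 534000 = 244781 := Data.countFrom_step data pc87 Cfsg.Agent.Lib.Helper14.HNx.Q0M36.cnt88 (by norm_num) (by norm_num)
theorem pc89 : Data.countFrom data 0 540000 = 250768 := Data.countFrom_step data pc88 Cfsg.Agent.Lib.Helper14.HNx.Q0M36.cnt89 (by norm_num) (by norm_num)
theorem pc90 : Data.countFrom data 0 541232 = 252000 := Data.countFrom_step data pc89 Cfsg.Agent.Lib.Helper14.HNx.Q0M36.cnt90 (by norm_num) (by norm_num)

theorem hcount : data.countLive = 252000 := by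
  rw [Data.countLive_eq]
  exact pc90

/-- the number of cosets is at most `252000` -/
theorem mainU : Finite (PresentedGroup rels ⧸ (Subgroup.closure S).map (PresentedGroup.mk rels)) ∧
    Nat.card (PresentedGroup rels ⧸ (Subgroup.closure S).map (PresentedGroup.mk rels)) ≤ 252000 := by
  have h := upper link hchk hfin
  rw [hcount] at h
  exact h

end Cfsg.Agent.Lib.Helper14.HNx.Q0MainU
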