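import Cfsg.Agent.Lib.Helper28.TC2Tower
import Cfsg.Agent.Lib.Helper28.TC2Tower2
import Cfsg.Agent.Lib.Helper14.HNx.P0MainU
import Cfsg.Agent.Lib.Helper14.HNx.Q0MainU
import Cfsg.Agent.Lib.Helper14.HNx.C6Main

set_option autoImplicit false
set_option maxRecDepth 100000

/-!
# The order of `P0 = ⟨x, y, z | the first ten relators of HN⟩` is at most `352 * 252000 * 6`
-/

namespace Cfsg.Agent.Lib.Helper14.HNx.Tower

open Cfsg.Agent.Lib.Helper28.TC2Tower Cfsg.Agent.Lib.Helper28.TC2Tower2
open Cfsg.Agent.Lib.Helper28.TC2Glue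

theorem card2 : Finite (PresentedGroup C6Link.rels) ∧ Nat.card (PresentedGroup C6Link.rels) = 6 := by
  have h : ((Subgroup.closure C6Link.S).map (PresentedGroup.mk C6Link.rels)).index = 6 :=
    C6Main.main.1
  have e : (Subgroup.closure C6Link.S).map (PresentedGroup.mk C6Link.rels) = ⊥ := by
    show (Subgroup.closure {1}).map _ = ⊥
    rw [Subgroup.closure_singleton_one, Subgroup.map_bot]
  rw [e] at h
  exact card_of_index_bot (by norm_num) h

theorem up1 : ∀ L ∈ C6Link.relWords, upWord C6Def.up L ∈ Q0Link.relWords := by decide +kernel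

theorem card1 : Finite (PresentedGroup Q0Link.rels) ∧
    Nat.card (PresentedGroup Q0Link.rels) ≤ 252000 * 6 := by
  haveI := card2.1
  have hrel := hrel_of_words Q0Link.rels C6Link.rels C6Def.up Q0Link.relWords C6Link.relWords
    Q0Link.link.hrels C6Link.link.hrels up1
  have hS : ∀ s ∈ Q0Link.S, ∃ b, s = FreeGroup.of (C6Def.up b) := by
    intro s hs
    simp only [Q0Link.S, Set.mem_singleton_iff] at hs
    exact ⟨.y, hs⟩
  obtain ⟨hfin, hle⟩ := card_le_of_subpres Q0Link.rels C6Link.rels C6Def.up hrel Q0Link.S hS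
  obtain ⟨hq, hqle⟩ := Q0MainU.mainU
  exact card_le_of_quot _ hfin hq hqle (le_trans hle (le_of_eq card2.2))

theorem up0 : ∀ L ∈ Q0Link.relWords, upWord Q0Def.up L ∈ P0Link.relWords := by decide +kernel

theorem card0 : Finite (PresentedGroup P0Link.rels) ∧
    Nat.card (PresentedGroup P0Link.rels) ≤ 352 * (252000 * 6) := by
  haveI := card1.1
  have hrel := hrel_of_words P0Link.rels Q0Link.rels Q0Def.up P0Link.relWords Q0Link.relWords
    P0Link.link.hrels Q0Link.link.hrels up0
  have hS : ∀ s ∈ P0Link.S, ∃ b, s = FreeGroup.of (Q0Def.up b) := by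
    intro s hs
    simp only [P0Link.S, Set.mem_insert_iff, Set.mem_singleton_iff] at hs
    rcases hs with rfl | rfl
    exacts [⟨.x, rfl⟩, ⟨.y, rfl⟩]
  obtain ⟨hfin, hle⟩ := card_le_of_subpres P0Link.rels Q0Link.rels Q0Def.up hrel P0Link.S hS
  obtain ⟨hq, hqle⟩ := P0MainU.mainU
  exact card_le_of_quot _ hfin hq hqle (le_trans hle card1.2)

end Cfsg.Agent.Lib.Helper14.HNx.Tower
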