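import Cfsg.Agent.Lib.Helper3.Cover.Lower
import Cfsg.Agent.Lib.Helper14.HNx.Tower
import Cfsg.Agent.Lib.Helper14.HNx.GamStruct
import Cfsg.Agent.Lib.Helper14.HNx.GlueD
import Cfsg.Agent.Lib.Helper14.HNx.Clean
import Cfsg.Prelude.Def_Spor_HN
import Cfsg.Prelude.Def_KGroupFacts
import Cfsg.Prelude.Def_SporadicB

set_option autoImplicit false
set_option maxRecDepth 100000
set_option linter.unusedVariables false
set_option linter.style.haveILetI false
set_option linter.constructorNameAsVariable false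

/-!
# The subgroup `⟨x, y, z⟩` of the presented Harada–Norton group

`P0 = ⟨x, y, z | the first ten relators⟩` has order at most `6 * 88704000` and maps onto the automorphism
group of the Higman–Sims graph; together with the Schur multiplier of `HS` and the fact that `x ^ 2 ≠ 1`
in `HN`, the image of `P0` in `HN` has a normal subgroup of index two which is a non-split double cover of
`HS`.
-/

namespace Cfsg.Agent.Lib.Helper14.HNx.Main

open Cfsg Cfsg.Agent.Lib.Helper3.Cover
open Cfsg.Agent.Lib.Helper28.TC2Upper Cfsg.Agent.Lib.Helper28.TC2Lower Cfsg.Agent.Lib.Helper28.TC2Glue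
open Cfsg.Agent.Lib.Helper28.TC2Tower
open scoped commutatorElement

/-- the group `⟨x, y, z | the first ten relators of HN⟩` -/
abbrev P0 : Type := PresentedGroup (relSet P0Def.relWords)

/-- the generator `x` -/
abbrev gx : P0 := PresentedGroup.of .x
/-- the generator `y` -/
abbrev gy : P0 := PresentedGroup.of .y
/-- the generator `z` -/
abbrev gz : P0 := PresentedGroup.of .z

/-- the free generator `x` -/
abbrev fx : FreeGroup P0Def.Gen := FreeGroup.of .x
/-- the free generator `y` -/
abbrev fy : FreeGroup P0Def.Gen := FreeGroup.of .y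
/-- the free generator `z` -/
abbrev fz : FreeGroup P0Def.Gen := FreeGroup.of .z

theorem cardP0 : Finite P0 ∧ Nat.card P0 ≤ 6 * 88704000 :=
  ⟨Tower.card0.1, le_trans Tower.card0.2 (by norm_num)⟩

/-! ### the relations -/

theorem rel_of {w : FreeGroup P0Def.Gen} (L : List (P0Def.Gen × Bool)) (hL : L ∈ P0Def.relWords)
    (hw : FreeGroup.mk L = w) : PresentedGroup.mk (relSet P0Def.relWords) w = 1 := by
  rw [← hw]
  exact PresentedGroup.one_of_mem ⟨L, hL, rfl⟩

theorem r1 : gy ^ 6 = 1 := by
  have h := rel_of (w := fy ^ 6) (P0Def.relWords.getD 0 []) (by decide) (by decide +kernel)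
  simp only [map_pow] at h
  exact h

theorem r4 : (gx⁻¹ * gy ^ 2 * gx * gy ^ 3) ^ 3 = 1 := by
  have h := rel_of (w := (fx⁻¹ * fy ^ 2 * fx * fy ^ 3) ^ 3) (P0Def.relWords.getD 3 []) (by decide)
    (by decide +kernel)
  simp only [map_pow, map_mul, map_inv] at h
  exact h

theorem r5 : (gx * gy) ^ 8 = 1 := by
  have h := rel_of (w := (fx * fy) ^ 8) (P0Def.relWords.getD 4 []) (by decide) (by decide +kernel)
  simp only [map_pow, map_mul] at h
  exact h

theorem r6 : (gx * gy * gx * gy ^ 3) ^ 4 = 1 := by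
  have h := rel_of (w := (fx * fy * fx * fy ^ 3) ^ 4) (P0Def.relWords.getD 5 []) (by decide)
    (by decide +kernel)
  simp only [map_pow, map_mul] at h
  exact h

theorem r7 : gz ^ 2 = 1 := by
  have h := rel_of (w := fz ^ 2) (P0Def.relWords.getD 6 []) (by decide) (by decide +kernel)
  simp only [map_pow] at h
  exact h

theorem r8 : (gz * gx) ^ 2 = 1 := by
  have h := rel_of (w := (fz * fx) ^ 2) (P0Def.relWords.getD 7 []) (by decide) (by decide +kernel)
  simp only [map_pow, map_mul] at h
  exact h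

theorem r10 : gz * ((gy ^ 3 * gx * gy * gx * gy)⁻¹ * gz * (gy ^ 3 * gx * gy * gx * gy) * gx) ^ 3 = 1 := by
  have h := rel_of
    (w := fz * ((fy ^ 3 * fx * fy * fx * fy)⁻¹ * fz * (fy ^ 3 * fx * fy * fx * fy) * fx) ^ 3)
    (P0Def.relWords.getD 9 []) (by decide) (by decide +kernel)
  simp only [map_pow, map_mul, map_inv] at h
  exact h

theorem hz : gz * gz = 1 := by rw [← pow_two]; exact r7

theorem hgen : Subgroup.closure ({gx, gy, gz} : Set P0) = ⊤ := by
  rw [← PresentedGroup.closure_range_of (relSet P0Def.relWords)]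
  congr 1
  ext g
  constructor
  · rintro (rfl | rfl | rfl)
    exacts [⟨.x, rfl⟩, ⟨.y, rfl⟩, ⟨.z, rfl⟩]
  · rintro ⟨a, rfl⟩
    cases a
    · exact Or.inl rfl
    · exact Or.inr (Or.inl rfl)
    · exact Or.inr (Or.inr rfl)

theorem hclean (L : Subgroup P0) (hL : L.Normal) (h : ⁅gx, gy⁆ ∈ L) : gx ∈ L ∧ gy ∈ L := by
  haveI := hL
  let q : P0 →* P0 ⧸ L := QuotientGroup.mk' L
  have hab : q gx * q gy = q gy * q gx := by
    have h1 : q ⁅gx, gy⁆ = 1 := (QuotientGroup.eq_one_iff _).mpr h
    rw [commutatorElement_def, map_mul, map_mul, map_mul, map_inv, map_inv] at h1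
    calc q gx * q gy = (q gx * q gy * (q gx)⁻¹ * (q gy)⁻¹) * q gy * q gx := by group
      _ = q gy * q gx := by rw [h1, one_mul]
  have q1 := congrArg q r1
  have q4 := congrArg q r4
  have q5 := congrArg q r5
  have q6 := congrArg q r6
  have q7 := congrArg q r7
  have q8 := congrArg q r8
  have q10 := congrArg q r10
  simp only [map_pow, map_mul, map_inv, map_one] at q1 q4 q5 q6 q7 q8 q10
  obtain ⟨ha, hb⟩ := Clean.clean (q gx) (q gy) (q gz) hab q1 q4 q5 q6 q7 q8 q10
  exact ⟨(QuotientGroup.eq_one_iff gx).mp ha, (QuotientGroup.eq_one_iff gy).mp hb⟩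

/-! ### the action on 100 points -/

theorem lwk100 : ∀ xb, P0Link.lw xb < L100Table.table.k := by
  rintro ⟨x, b⟩; cases x <;> cases b <;> decide
theorem lwinv100 : ∀ x, P0Link.lw (x, false) = L100Table.table.invl (P0Link.lw (x, true)) := by
  intro x; cases x <;> decide +kernel
theorem hmem100 : ∀ L ∈ P0Def.relWords, pathOf P0Link.lw L ∈ L100Table.chkPaths := by decide +kernel

theorem xx_walk : ∀ p, p < L100Table.table.n →
    L100Table.table.walkT (pathOf P0Link.lw [(.x, true), (.x, true)]) p = p := by decide +kernel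

theorem exists_pi : ∃ π : P0 →* ↥G100.Gam, Function.Surjective π ∧ π (gx * gx) = 1 := by
  obtain ⟨φ, hφ⟩ := lower_hom P0Def.relWords P0Link.lw L100Table.table G100.hT lwk100 lwinv100
    (fun L hL => L100Low.hchkT _ (hmem100 L hL))
  have hof : ∀ x b, φ (PresentedGroup.mk _ (FreeGroup.mk [(x, b)])) =
      Table.sigma G100.hT (P0Link.lw (x, b)) := by
    intro x b
    ext p
    rw [hφ [(x, b)] p, Table.sigma_apply G100.hT (lwk100 _)]
    have e : pathOf P0Link.lw [(x, b)] = [P0Link.lw (x, b)] := rfl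
    rw [e, Table.walkT_cons, Table.walkT_nil]
  have hmem : ∀ g : P0, φ g ∈ G100.Gam := by
    intro g
    have hg : g ∈ Subgroup.closure (Set.range (PresentedGroup.of (rels := relSet P0Def.relWords))) := by
      rw [PresentedGroup.closure_range_of]; trivial
    induction hg using Subgroup.closure_induction with
    | mem y hy =>
      obtain ⟨x, rfl⟩ := hy
      have : (PresentedGroup.of x : P0) = PresentedGroup.mk _ (FreeGroup.mk [(x, true)]) := rfl
      rw [this, hof]
      exact G100.sigma_mem (lwk100 _)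
    | one => rw [map_one]; exact Subgroup.one_mem _
    | mul y z _ _ hy hz => rw [map_mul]; exact Subgroup.mul_mem _ hy hz
    | inv y _ hy => rw [map_inv]; exact Subgroup.inv_mem _ hy
  let ψ : P0 →* ↥G100.Gam := φ.codRestrict G100.Gam hmem
  have hge : G100.Gam ≤ φ.range := by
    unfold G100.Gam
    rw [Subgroup.closure_le]
    rintro π ⟨l, hl, rfl⟩
    have key : ∀ x b, Table.sigma G100.hT (P0Link.lw (x, b)) ∈ φ.range :=
      fun x b => ⟨_, hof x b⟩
    interval_cases l
    · exact key .x true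
    · exact key .x false
    · exact key .y true
    · exact key .y false
    · exact key .z true
    · exact key .z false
  have hsurj : Function.Surjective ψ := by
    intro h
    obtain ⟨g, hg⟩ := hge h.2
    exact ⟨g, Subtype.ext hg⟩
  refine ⟨ψ, hsurj, ?_⟩
  apply Subtype.ext
  show φ (gx * gx) = 1
  have : (gx * gx : P0) = PresentedGroup.mk _ (FreeGroup.mk [(.x, true), (.x, true)]) := rfl
  rw [this]
  exact eq_one_of_walk φ hφ _ xx_walk

/-! ### the map to `HN` -/

/-- the relators of `HN` -/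
abbrev HNrels : Set (FreeGroup Cfsg.Spor.HN.Gen) :=
  Cfsg.Spor.coxRelators Cfsg.Spor.HN.edges ∪ {r | r ∈ Cfsg.Spor.HN.extra}

theorem up_mem : ∀ L ∈ P0Def.relWords, FreeGroup.mk (upWord P0Def.up L) ∈ Cfsg.Spor.HN.extra := by
  decide +kernel

theorem lift_eq : FreeGroup.lift (fun b => (PresentedGroup.of (P0Def.up b) : PresentedGroup HNrels)) =
    (PresentedGroup.mk HNrels).comp (FreeGroup.map P0Def.up) := by
  ext b
  simp [PresentedGroup.of]

theorem hrelHN : ∀ r ∈ relSet P0Def.relWords,
    FreeGroup.lift (fun b => (PresentedGroup.of (P0Def.up b) : PresentedGroup HNrels)) r = 1 := by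
  rintro _ ⟨L, hL, rfl⟩
  rw [lift_eq, MonoidHom.comp_apply, map_mk]
  exact PresentedGroup.one_of_mem (Or.inr (up_mem L hL))

/-- the map from `P0` to `HN` -/
noncomputable def φHN : P0 →* PresentedGroup HNrels := PresentedGroup.toGroup hrelHN

theorem φHN_of (b : P0Def.Gen) : φHN (PresentedGroup.of b) = PresentedGroup.of (P0Def.up b) :=
  PresentedGroup.toGroup.of hrelHN

theorem range_φHN : φHN.range = (Subgroup.closure ({Cfsg.Spor.HN.x, Cfsg.Spor.HN.y, Cfsg.Spor.HN.z} :
    Set (FreeGroup Cfsg.Spor.HN.Gen))).map (PresentedGroup.mk HNrels) := by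
  rw [MonoidHom.range_eq_map, ← hgen, MonoidHom.map_closure, MonoidHom.map_closure]
  congr 1
  simp only [Set.image_insert_eq, Set.image_singleton]
  rw [φHN_of, φHN_of, φHN_of]
  rfl

/-- the main theorem, modulo the Schur multiplier of `HS` and `x ^ 2 ≠ 1` in `HN` -/
theorem main_of (hschur : Cfsg.HasCyclicSchurMultiplier ↥Cfsg.Spor.HS 2)
    (hx : (PresentedGroup.mk HNrels Cfsg.Spor.HN.x) ^ 2 ≠ 1) :
    ∃ K : Subgroup ((Subgroup.closure ({Cfsg.Spor.HN.x, Cfsg.Spor.HN.y, Cfsg.Spor.HN.z} :
      Set (FreeGroup Cfsg.Spor.HN.Gen))).map (PresentedGroup.mk HNrels)),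
      K.Normal ∧ K.index = 2 ∧ Cfsg.IsNonsplitDoubleCover K Cfsg.Spor.HS := by
  haveI := cardP0.1
  obtain ⟨π, hπ, hc⟩ := exists_pi
  obtain ⟨hcG, S, hSn, hSi, hSs, hScard, ⟨e⟩, hZ⟩ := GamStruct.gam_structure
  have hker : Nat.card π.ker ≤ 6 := by
    have h1 := Subgroup.card_mul_index π.ker
    rw [Subgroup.index_ker, MonoidHom.range_eq_top.mpr hπ, Subgroup.card_top, hcG] at h1
    have h2 := cardP0.2
    rw [← h1] at h2
    exact Nat.le_of_mul_le_mul_right h2 (by norm_num)
  have hφ : φHN (gx * gx) ≠ 1 := by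
    rw [map_mul, φHN_of, ← pow_two]
    exact hx
  rw [← range_φHN]
  exact Glue.main gx gy gz hgen hz hclean π hπ hker hc S hSn hSi hSs hScard e hZ hschur φHN hφ

end Cfsg.Agent.Lib.Helper14.HNx.Main
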