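import Cfsg.Agent.Lib.Helper28.TC2Range
import Cfsg.Agent.Lib.Helper14.HNx.Q0Data
import Cfsg.Agent.Lib.Helper14.HNx.Q0M29
set_option autoImplicit false
set_option maxRecDepth 100000
set_option maxHeartbeats 0

namespace Cfsg.Agent.Lib.Helper14.HNx.Q0M33
open Cfsg.Agent.Lib.Helper28.TC2Upper Cfsg.Agent.Lib.Helper28.TC2Lower Cfsg.Agent.Lib.Helper28.TC2Range Cfsg.Agent.Lib.Helper14.HNx.Q0Data

theorem cnt73 : Data.countFrom data 438000 6000 = 1980 := by decide +kernel
theorem cnt74 : Data.countFrom data 444000 6000 = 1826 := by decide +kernel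
theorem cnt75 : Data.countFrom data 450000 6000 = 1772 := by decide +kernel
theorem cnt76 : Data.countFrom data 456000 6000 = 1781 := by decide +kernel
theorem cnt77 : Data.countFrom data 462000 6000 = 1649 := by decide +kernel

end Cfsg.Agent.Lib.Helper14.HNx.Q0M33
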